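import Cfsg.Agent.Lib.HallHigmanB.Main

/-!
An element acting with its whole cyclic group regular somewhere on an elementary abelian normal subgroup has a
longer translate.
-/

set_option autoImplicit false
set_option maxHeartbeats 1000000

namespace CfsgLib.SzPairGen

open scoped TensorProduct commutatorElement

universe u

variable {X : Type u} [Group X] [Finite X]

/-- The module carried by an elementary abelian normal subgroup, over an algebraically closed field. -/
theorem exists_rep {p : ℕ} [Fact p.Prime] (W : Subgroup X) [W.Normal] (hab : ∀ a ∈ W, ∀ b ∈ W, a * b = b * a)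
    (hexp : ∀ a ∈ W, a ^ p = 1) :
    ∃ (K : Type) (_ : Field K) (_ : IsAlgClosed K) (_ : CharP K p) (V : Type u) (_ : AddCommGroup V) (_ : Module K V)
      (_ : FiniteDimensional K V) (ρ : X →* Module.End K V),
      ρ.ker = Subgroup.centralizer (W : Set X) ∧
      ∀ (g : X) (N : ℕ), (∀ w ∈ W, (w * g) ^ N = g ^ N) → ∑ i ∈ Finset.range N, ρ g ^ i = 0 := by
  classical
  letI : CommGroup W :=
    { (inferInstance : Group W) with mul_comm := fun a b => Subtype.ext (hab a a.2 b b.2) }
  have hp0 : ∀ x : Additive W, p • x = 0 := fun x => by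
    apply Additive.toMul.injective
    rw [toMul_nsmul, toMul_zero]
    exact Subtype.ext (by rw [Subgroup.coe_pow]; exact hexp _ (Additive.toMul x).2)
  letI : Module (ZMod p) (Additive W) := AddCommGroup.zmodModule (n := p) (G := Additive W) hp0
  let c : X →* MulAut W := MulAut.conjNormal
  let τ : X →* Module.End (ZMod p) (Additive W) :=
    { toFun := fun g => AddMonoidHom.toZModLinearMap p (M := Additive W) (M₁ := Additive W)
        (MonoidHom.toAdditive (c g).toMonoidHom)
      map_one' := LinearMap.ext fun x => by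
        apply Additive.toMul.injective
        show c 1 (Additive.toMul x) = Additive.toMul x
        rw [map_one, MulAut.one_apply]
      map_mul' := fun g h => LinearMap.ext fun x => by
        apply Additive.toMul.injective
        show c (g * h) (Additive.toMul x) = c g (c h (Additive.toMul x))
        rw [map_mul, MulAut.mul_apply] }
  have hτ : ∀ (g : X) (a : W), τ g (Additive.ofMul a) = Additive.ofMul (c g a) := fun g a => rfl
  have hc : ∀ (g : X) (a : W), ((c g a : W) : X) = g * a * g⁻¹ := fun g a => MulAut.conjNormal_apply g a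
  have hker : τ.ker = Subgroup.centralizer (W : Set X) := by
    ext g
    rw [MonoidHom.mem_ker, Subgroup.mem_centralizer_iff]
    refine ⟨fun h w hw => ?_, fun h => LinearMap.ext fun x => ?_⟩
    · have h1 := LinearMap.congr_fun h (Additive.ofMul (⟨w, hw⟩ : W))
      rw [hτ, Module.End.one_apply] at h1
      have h2 := congrArg Subtype.val (Additive.ofMul.injective h1)
      rw [hc] at h2
      exact (mul_inv_eq_iff_eq_mul.mp h2).symm
    · obtain ⟨a, rfl⟩ := Additive.ofMul.surjective x
      rw [hτ, Module.End.one_apply]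
      refine congrArg Additive.ofMul (Subtype.ext ?_)
      rw [hc, ← h a a.2, mul_inv_cancel_right]
  let K := AlgebraicClosure (ZMod p)
  haveI : CharP K p := charP_of_injective_algebraMap (algebraMap (ZMod p) K).injective p
  let β := Module.End.baseChangeHom (ZMod p) K (Additive W)
  let ρ : X →* Module.End K (K ⊗[ZMod p] Additive W) := β.toMonoidHom.comp τ
  have hmk : Function.Injective (TensorProduct.mk (ZMod p) K (Additive W) 1) :=
    Module.FaithfullyFlat.tensorProduct_mk_injective (Additive W)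
  refine ⟨K, inferInstance, inferInstance, inferInstance, K ⊗[ZMod p] Additive W, inferInstance, inferInstance,
    inferInstance, ρ, ?_, fun g N h => ?_⟩
  · refine Eq.trans ?_ hker
    ext g
    rw [MonoidHom.mem_ker, MonoidHom.mem_ker]
    refine ⟨fun h => LinearMap.ext fun v => hmk ?_, fun h => by show β (τ g) = 1; rw [h, map_one]⟩
    exact LinearMap.congr_fun h (1 ⊗ₜ[ZMod p] v)
  · have hsum : ∀ (n : ℕ) (a : W), ∃ b : W, (b : X) = ((a : X) * g) ^ n * (g ^ n)⁻¹ ∧
        (∑ i ∈ Finset.range n, τ g ^ i) (Additive.ofMul a) = Additive.ofMul b := by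
      intro n a
      induction n with
      | zero => exact ⟨1, by simp, by simp⟩
      | succ n ih =>
        obtain ⟨b, hb, hb'⟩ := ih
        refine ⟨c g b * a, ?_, ?_⟩
        · rw [Subgroup.coe_mul, hc, hab _ (Subgroup.Normal.conj_mem inferInstance _ b.2 g) _ a.2, hb]
          rw [pow_succ' ((a : X) * g), pow_succ' g, mul_inv_rev]
          group
        · rw [geom_sum_succ, LinearMap.add_apply, Module.End.mul_apply, hb', hτ, Module.End.one_apply]
          rfl
    have h0 : ∑ i ∈ Finset.range N, τ g ^ i = 0 := by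
      refine LinearMap.ext fun x => ?_
      obtain ⟨a, rfl⟩ := Additive.ofMul.surjective x
      obtain ⟨b, hb, hb'⟩ := hsum N a
      rw [hb', LinearMap.zero_apply]
      rw [h a a.2, mul_inv_cancel] at hb
      rw [show b = 1 from Subtype.ext hb, ofMul_one]
    have := congrArg β h0
    rw [map_sum, map_zero] at this
    simp only [map_pow] at this
    exact this

theorem geom_sum_eq_pow {p : ℕ} [Fact p.Prime] {K : Type*} [Field K] [CharP K p] {A : Type*} [Ring A] [Algebra K A]
    (T : A) (n : ℕ) : (T - 1) ^ (p ^ n - 1) = ∑ i ∈ Finset.range (p ^ n), T ^ i := by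
  have hpos : 1 ≤ p ^ n := Nat.one_le_pow _ _ (Fact.out : p.Prime).pos
  have key : ((Polynomial.X : Polynomial K) - 1) ^ (p ^ n - 1) =
      ∑ i ∈ Finset.range (p ^ n), (Polynomial.X : Polynomial K) ^ i := by
    refine mul_right_cancel₀ (b := (Polynomial.X : Polynomial K) - 1) ?_ ?_
    · exact (Polynomial.monic_X_sub_C (1 : K)).ne_zero ∘ fun h => by simpa using h
    · rw [← pow_succ, Nat.sub_add_cancel hpos, geom_sum_mul, sub_pow_char_pow, one_pow]
  simpa [map_sum] using congrArg (Polynomial.aeval (R := K) T) key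

/-- The Hall–Higman bound as a statement on element orders. -/
theorem exists_long {p q : ℕ} [Fact p.Prime] [Fact q.Prime] (hpq : p ≠ q) (W : Subgroup X) [W.Normal]
    (hab : ∀ a ∈ W, ∀ b ∈ W, a * b = b * a) (hexp : ∀ a ∈ W, a ^ p = 1) (Q : Subgroup X) (hQ : IsPGroup q Q)
    {x : X} (hxQ : x ∈ Subgroup.normalizer (Q : Set X)) {n : ℕ} (hn : 1 ≤ n) (hx : x ^ p ^ n = 1)
    (hy : ∃ u ∈ Q, ⁅x ^ p ^ (n - 1), u⁆ ∉ Subgroup.centralizer (W : Set X))
    (hexc : ∀ j b : ℕ, j ≤ n → 1 ≤ b → q ^ b + 1 ≠ p ^ j) : ∃ w ∈ W, orderOf (w * x) = p ^ (n + 1) := by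
  classical
  have hp := (Fact.out : p.Prime)
  obtain ⟨K, _, _, _, V, _, _, _, ρ, hker, hsum⟩ := exists_rep W hab hexp
  obtain ⟨u, hu, hcu⟩ := hy
  rw [← hker] at hcu
  let π := QuotientGroup.mk' ρ.ker
  let σ : X ⧸ ρ.ker →* Module.End K V := QuotientGroup.lift ρ.ker ρ le_rfl
  have hinj : Function.Injective σ := (injective_iff_map_eq_one σ).mpr fun y hy => by
    obtain ⟨a, rfl⟩ := QuotientGroup.mk_surjective y
    exact (QuotientGroup.eq_one_iff a).mpr (MonoidHom.mem_ker.mpr hy)
  have hσ : ∀ g : X, σ (π g) = ρ g := fun g => rfl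
  have hcomm : ¬ Commute (π x ^ p ^ (n - 1)) (π u) := fun h => hcu <| by
    rw [← QuotientGroup.eq_one_iff, ← QuotientGroup.mk'_apply, map_commutatorElement, map_pow]
    exact commutatorElement_eq_one_iff_commute.mpr h
  have hxo : orderOf (π x) = p ^ n := by
    obtain ⟨k, hk⟩ := Nat.exists_eq_add_of_le hn
    rw [show n = k + 1 by omega]
    refine orderOf_eq_prime_pow (fun h => hcomm ?_) (by rw [show k + 1 = n by omega, ← map_pow, hx, map_one])
    rw [show n - 1 = k by omega, h]
    exact Commute.one_left _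
  have hxN : π x ∈ Subgroup.normalizer ((Q.map π : Subgroup _) : Set (X ⧸ ρ.ker)) :=
    Subgroup.le_normalizer_map π (Subgroup.mem_map_of_mem π hxQ)
  have hyQ : π x ^ p ^ (n - 1) ∉ Subgroup.centralizer ((Q.map π : Subgroup _) : Set (X ⧸ ρ.ker)) := fun h =>
    hcomm (Subgroup.mem_centralizer_iff.mp h _ (Subgroup.mem_map_of_mem π hu)).symm
  have hne : (ρ x - 1) ^ (p ^ n - 1) ≠ 0 := by
    intro h0
    have h1 := HallHigmanB.bound_of_invariant hpq σ hinj (Q.map π) (hQ.map π) hxN hn
      hxo hyQ (p ^ n - 1) (by rw [hσ]; exact h0)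
    have hpos : 1 ≤ p ^ n := Nat.one_le_pow _ _ hp.pos
    rcases h1 with h | ⟨-, k, b, hk, hb, he, -⟩
    · omega
    · exact hexc (n - k) b (by omega) hb he
  rw [geom_sum_eq_pow (K := K)] at hne
  have hex : ∃ w ∈ W, (w * x) ^ p ^ n ≠ x ^ p ^ n := by
    by_contra hno
    push Not at hno
    exact hne (hsum x (p ^ n) hno)
  obtain ⟨w, hw, hwne⟩ := hex
  rw [hx] at hwne
  refine ⟨w, hw, orderOf_eq_prime_pow hwne ?_⟩
  rw [pow_succ, pow_mul]
  refine hexp _ ?_
  rw [← QuotientGroup.eq_one_iff, QuotientGroup.mk_pow, QuotientGroup.mk_mul, (QuotientGroup.eq_one_iff w).mpr hw,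
    one_mul, ← QuotientGroup.mk_pow, hx, QuotientGroup.mk_one]

/-- A fixed-point-free element normalising a group with trivial centraliser in it makes that group act trivially. -/
theorem trivial_of_fpf {H V : Type*} [Group H] [Finite H] [AddCommGroup V] [DistribMulAction H V] (Q : Subgroup H)
    {t : H} {r : ℕ} (hr : r.Prime) (ht : orderOf t = r) (htQ : t ∈ Subgroup.normalizer (Q : Set H))
    (hfree : ∀ q ∈ Q, Commute t q → q = 1) (hcop : ∀ v : V, Nat.card Q • v = 0 → v = 0)
    (hfix : ∀ v : V, t • v = v → v = 0) : ∀ q ∈ Q, ∀ v : V, q • v = v := by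
  classical
  haveI := Fintype.ofFinite Q
  let e : V → V := fun v => ∑ q : Q, (q : H) • v
  have he_inv : ∀ (a : Q) (v : V), (a : H) • e v = e v := fun a v => by
    show (a : H) • ∑ q : Q, (q : H) • v = _
    rw [Finset.smul_sum]
    exact Fintype.sum_equiv (Equiv.mulLeft a) _ _ (fun q => by simp [mul_smul])
  have hpowN : ∀ k : ℕ, t ^ k ∈ Subgroup.normalizer (Q : Set H) := fun k => Subgroup.pow_mem _ htQ k
  have hconj : ∀ (k : ℕ) (q : Q), t ^ k * (q : H) * (t ^ k)⁻¹ ∈ Q := fun k q =>
    (Subgroup.mem_normalizer_iff.mp (hpowN k) q).mp q.2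
  have he_t : ∀ (k : ℕ) (v : V), e (t ^ k • v) = t ^ k • e v := fun k v => by
    show _ = t ^ k • ∑ q : Q, (q : H) • v
    rw [Finset.smul_sum]
    let φ : Q → Q := fun q => ⟨t ^ k * (q : H) * (t ^ k)⁻¹, hconj k q⟩
    have hinj : Function.Injective φ := fun a b h => by simpa [φ] using congrArg Subtype.val h
    refine (Fintype.sum_bijective φ ⟨hinj, Finite.injective_iff_surjective.mp hinj⟩ _ _ (fun q => ?_)).symm
    show t ^ k • (q : H) • v = (t ^ k * (q : H) * (t ^ k)⁻¹) • t ^ k • v
    rw [← mul_smul, ← mul_smul, inv_mul_cancel_right]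
  have hcyc : ∀ (a : H) (v : V), (∀ w : V, a • w = w → w = 0) → orderOf a = r →
      ∑ k ∈ Finset.range r, a ^ k • v = 0 := fun a v hfixa ha => hfixa _ <| by
    rw [Finset.smul_sum]
    obtain ⟨r', rfl⟩ := Nat.exists_eq_add_of_le' hr.one_le
    rw [Finset.sum_range_succ, Finset.sum_range_succ' (fun k => a ^ k • v)]
    congr 1
    · exact Finset.sum_congr rfl fun k _ => by rw [← mul_smul, ← pow_succ']
    · rw [← mul_smul, ← pow_succ', ← ha, pow_orderOf_eq_one, pow_zero]
  have hker : ∀ v : V, e v = 0 → v = 0 := by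
    intro v hv
    refine hcop v ?_
    have h1 : ∀ q : Q, ∑ k ∈ Finset.range r, ((q : H) * t * (q : H)⁻¹) ^ k • v = 0 := fun q => by
      refine hcyc _ v (fun w hw => ?_) ?_
      · have h2 := hfix ((q : H)⁻¹ • w) (by
          conv_rhs => rw [← hw]
          rw [← mul_smul, ← mul_smul]
          congr 1
          group)
        simpa using congrArg ((q : H) • ·) h2
      · rw [← ht]; exact orderOf_injective (MulAut.conj (q : H)).toMonoidHom (MulAut.conj (q : H)).injective t
    have h3 : ∑ k ∈ Finset.range r, ∑ q : Q, ((q : H) * t * (q : H)⁻¹) ^ k • v = 0 := by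
      rw [Finset.sum_comm]; exact Finset.sum_eq_zero fun q _ => h1 q
    rw [Finset.sum_eq_single 0] at h3
    · simpa using h3
    · intro k hk hk0
      let φ : Q → Q := fun q => ⟨(q : H) * (t ^ k * ((q : H)⁻¹) * (t ^ k)⁻¹),
        Q.mul_mem q.2 (hconj k ⟨_, Q.inv_mem q.2⟩)⟩
      have hinj : Function.Injective φ := by
        intro a b h
        have h' : (a : H) * (t ^ k * (a : H)⁻¹ * (t ^ k)⁻¹) = (b : H) * (t ^ k * (b : H)⁻¹ * (t ^ k)⁻¹) :=
          congrArg Subtype.val h
        have h4 : Commute (t ^ k) ((b : H)⁻¹ * (a : H)) := by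
          show t ^ k * ((b : H)⁻¹ * a) = (b : H)⁻¹ * a * t ^ k
          have h5 : (b : H)⁻¹ * a * t ^ k = t ^ k * (b : H)⁻¹ * a := by
            have := congrArg (fun z => (b : H)⁻¹ * z * (t ^ k * a)) h'
            simpa [mul_assoc] using this
          rw [h5, mul_assoc]
        have hkr : k.Coprime r := (hr.coprime_iff_not_dvd.mpr fun hd => hk0
          (Nat.eq_zero_of_dvd_of_lt hd (Finset.mem_range.mp hk))).symm
        have h6 : Commute t ((b : H)⁻¹ * (a : H)) := by
          obtain ⟨j, hj⟩ := exists_pow_eq_self_of_coprime (x := t) (n := k) (by rw [ht]; exact hkr)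
          have := h4.pow_left j
          rwa [hj] at this
        exact Subtype.ext (inv_mul_eq_one.mp (hfree _ (Q.mul_mem (Q.inv_mem b.2) a.2) h6)).symm
      calc ∑ q : Q, ((q : H) * t * (q : H)⁻¹) ^ k • v = ∑ q : Q, (φ q : H) • (t ^ k • v) :=
            Finset.sum_congr rfl fun q _ => by
              rw [conj_pow, ← mul_smul]
              congr 1
              show _ = (q : H) * (t ^ k * (q : H)⁻¹ * (t ^ k)⁻¹) * t ^ k
              simp only [mul_assoc, inv_mul_cancel, mul_one]
        _ = e (t ^ k • v) := Fintype.sum_bijective φ ⟨hinj, Finite.injective_iff_surjective.mp hinj⟩ _ _ fun q => rfl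
        _ = 0 := by rw [he_t, hv, smul_zero]
    · intro h; exact absurd (Finset.mem_range.mpr hr.pos) h
  intro q hq v
  have hn : ∀ (a : H) (w : V), a • (Nat.card Q • w) = Nat.card Q • (a • w) := fun a w =>
    map_nsmul (DistribSMul.toAddMonoidHom V a) _ w
  have h7 : Nat.card Q • v = e v := by
    refine sub_eq_zero.mp (hker _ ?_)
    show ∑ a : Q, (a : H) • (Nat.card Q • v - e v) = 0
    rw [Finset.sum_congr rfl fun (a : Q) _ =>
      show (a : H) • (Nat.card Q • v - e v) = Nat.card Q • ((a : H) • v) - e v by rw [smul_sub, hn, he_inv],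
      Finset.sum_sub_distrib, ← Finset.smul_sum, Finset.sum_const, Finset.card_univ, Nat.card_eq_fintype_card]
    exact sub_self _
  refine sub_eq_zero.mp (hcop _ ?_)
  rw [nsmul_sub, ← hn, h7, he_inv ⟨q, hq⟩, sub_self]

end CfsgLib.SzPairGen
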