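import Cfsg.Agent.Lib.SzPairGen.Arith
import Cfsg.Agent.Lib.SzPairGen.Act
import Cfsg.Agent.Lib.Comp.PCompFacts
import Cfsg.Agent.Lib.AffineDerange.Linear
import Cfsg.Agent.Lib.HallPi
import Cfsg.Agent.Lib.Elementary
import Cfsg.Agent.S1475

/-!
Element orders allowed by the square of `Sz(q)`, the used properties of a Suzuki group, and general tools.
-/

set_option autoImplicit false
set_option maxHeartbeats 1000000
set_option linter.style.haveILetI false
set_option linter.unusedSectionVars false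

namespace CfsgLib.SzPairGen

open scoped commutatorElement Pointwise

universe u v w

/-- The constraints on element orders. -/
structure Orders (m : ℕ) (G : Type u) [Group G] : Prop where
  primes : ∀ (g : G) (r : ℕ), r.Prime → r ∣ orderOf g → InSpec m r
  no_three : ∀ (g : G) (r s t : ℕ), r.Prime → s.Prime → t.Prime → r ∣ orderOf g → s ∣ orderOf g → t ∣ orderOf g →
    cls m r ≠ cls m s → cls m r ≠ cls m t → cls m s ≠ cls m t → False
  no_eight : ∀ g : G, ¬ 8 ∣ orderOf g
  bound : ∀ (g : G) (r k : ℕ), r.Prime → r ∣ tor1 m → r ^ k ∣ orderOf g → r ^ k ∣ tor1 m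

/-- No element joins two odd classes. -/
def NoMix (m : ℕ) (G : Type u) [Group G] : Prop :=
  ∀ (g : G) (r s : ℕ), r.Prime → s.Prime → r ≠ 2 → s ≠ 2 → r ∣ orderOf g → s ∣ orderOf g → cls m r ≠ cls m s → False

section Orders

variable {m : ℕ} {G : Type u} [Group G]

theorem Orders.of_injective {H : Type v} [Group H] (h : Orders m G) (f : H →* G) (hf : Function.Injective f) :
    Orders m H where
  primes g r hr hd := h.primes (f g) r hr (by rwa [orderOf_injective f hf])
  no_three g r s t hr hs ht dr ds dt := by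
    refine h.no_three (f g) r s t hr hs ht ?_ ?_ ?_ <;> rwa [orderOf_injective f hf]
  no_eight g hd := h.no_eight (f g) (by rwa [orderOf_injective f hf])
  bound g r k hr h1 hd := h.bound (f g) r k hr h1 (by rwa [orderOf_injective f hf])

theorem Orders.of_surjective {H : Type v} [Group H] (h : Orders m G) (f : G →* H) (hf : Function.Surjective f) :
    Orders m H where
  primes g r hr hd := by
    obtain ⟨a, rfl⟩ := hf g
    exact h.primes a r hr (hd.trans (orderOf_map_dvd f a))
  no_three g r s t hr hs ht dr ds dt := by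
    obtain ⟨a, rfl⟩ := hf g
    exact h.no_three a r s t hr hs ht (dr.trans (orderOf_map_dvd f a)) (ds.trans (orderOf_map_dvd f a))
      (dt.trans (orderOf_map_dvd f a))
  no_eight g hd := by
    obtain ⟨a, rfl⟩ := hf g
    exact h.no_eight a (hd.trans (orderOf_map_dvd f a))
  bound g r k hr h1 hd := by
    obtain ⟨a, rfl⟩ := hf g
    exact h.bound a r k hr h1 (hd.trans (orderOf_map_dvd f a))

theorem Orders.subgroup (h : Orders m G) (H : Subgroup G) : Orders m H :=
  h.of_injective H.subtype Subtype.val_injective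

theorem Orders.quotient (h : Orders m G) (N : Subgroup G) [N.Normal] : Orders m (G ⧸ N) :=
  h.of_surjective (QuotientGroup.mk' N) (QuotientGroup.mk'_surjective N)

theorem NoMix.subgroup (h : NoMix m G) (H : Subgroup G) : NoMix m H := fun g r s hr hs r2 s2 dr ds hne =>
  h (g : G) r s hr hs r2 s2 (by rwa [Subgroup.orderOf_coe]) (by rwa [Subgroup.orderOf_coe]) hne

theorem NoMix.quotient (h : NoMix m G) (N : Subgroup G) [N.Normal] : NoMix m (G ⧸ N) :=
  fun g r s hr hs r2 s2 dr ds hne => by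
    obtain ⟨a, rfl⟩ := QuotientGroup.mk'_surjective N g
    exact h a r s hr hs r2 s2 (dr.trans (orderOf_map_dvd _ a)) (ds.trans (orderOf_map_dvd _ a)) hne

/-- A prime dividing the order is the order of a power. -/
theorem exists_pow_prime [Finite G] {g : G} {r : ℕ} (hd : r ∣ orderOf g) :
    orderOf (g ^ (orderOf g / r)) = r :=
  orderOf_pow_orderOf_div (orderOf_pos g).ne' hd

theorem orderOf_of_prime {p : ℕ} (hp : p.Prime) {w : G} (h : w ^ p = 1) (h1 : w ≠ 1) : orderOf w = p :=
  haveI := Fact.mk hp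
  orderOf_eq_prime h h1

/-- A non-trivial element of `p`-power order has order divisible by `p`. -/
theorem dvd_orderOf {p : ℕ} (hp : p.Prime) {w : G} {k : ℕ} (h : w ^ p ^ k = 1) (h1 : w ≠ 1) : p ∣ orderOf w := by
  obtain ⟨j, -, hj⟩ := (Nat.dvd_prime_pow hp).mp (orderOf_dvd_of_pow_eq_one h)
  rw [hj]
  exact dvd_pow_self p fun e => h1 (orderOf_eq_one_iff.mp (by rw [hj, e, pow_zero]))

/-- A prime-power element fixed by two coprime exponents is trivial. -/
theorem eq_one_of_pows {p q : ℕ} (hp : p.Prime) (hq : q.Prime) (hne : p ≠ q) {w : G} {i j : ℕ} (h1 : w ^ p ^ i = 1)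
    (h2 : w ^ q ^ j = 1) : w = 1 :=
  orderOf_eq_one_iff.mp (Nat.eq_one_of_dvd_coprimes (((Nat.coprime_primes hp hq).mpr hne).pow i j)
    (orderOf_dvd_of_pow_eq_one h1) (orderOf_dvd_of_pow_eq_one h2))

theorem Orders.card_primes [Finite G] (h : Orders m G) {r : ℕ} (hr : r.Prime) (hd : r ∣ Nat.card G) :
    InSpec m r := by
  haveI := Fact.mk hr
  obtain ⟨g, hg⟩ := exists_prime_orderOf_dvd_card' r hd
  exact h.primes g r hr (hg.symm ▸ dvd_rfl)

/-- No three commuting elements in three classes. -/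
theorem Orders.triple [Finite G] (h : Orders m G) {a b c : G} {r s t : ℕ} (hr : r.Prime) (hs : s.Prime) (ht : t.Prime)
    (ha : r ∣ orderOf a) (hb : s ∣ orderOf b) (hc : t ∣ orderOf c) (hab : Commute a b) (hac : Commute a c)
    (hbc : Commute b c) (h1 : cls m r ≠ cls m s) (h2 : cls m r ≠ cls m t) (h3 : cls m s ≠ cls m t) : False := by
  have crs : r.Coprime s := (Nat.coprime_primes hr hs).mpr fun e => h1 (by rw [e])
  have crt : r.Coprime t := (Nat.coprime_primes hr ht).mpr fun e => h2 (by rw [e])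
  have cst : s.Coprime t := (Nat.coprime_primes hs ht).mpr fun e => h3 (by rw [e])
  have ea := exists_pow_prime ha
  have eb := exists_pow_prime hb
  have ec := exists_pow_prime hc
  have e1 : orderOf (a ^ (orderOf a / r) * b ^ (orderOf b / s)) = r * s := by
    rw [(hab.pow_pow _ _).orderOf_mul_eq_mul_orderOf_of_coprime (by rw [ea, eb]; exact crs), ea, eb]
  have e2 : orderOf (a ^ (orderOf a / r) * b ^ (orderOf b / s) * c ^ (orderOf c / t)) = r * s * t := by
    rw [((hac.pow_pow _ _).mul_left (hbc.pow_pow _ _)).orderOf_mul_eq_mul_orderOf_of_coprime, e1, ec]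
    rw [e1, ec]
    exact Nat.Coprime.mul_left crt cst
  refine h.no_three (a ^ (orderOf a / r) * b ^ (orderOf b / s) * c ^ (orderOf c / t)) r s t hr hs ht ?_ ?_ ?_ h1 h2 h3
    <;> rw [e2]
  · exact (Dvd.intro _ rfl).trans (Dvd.intro _ rfl)
  · exact (Dvd.intro_left _ rfl).trans (Dvd.intro _ rfl)
  · exact Dvd.intro_left _ rfl

theorem Orders.pow_four [Finite G] (h : Orders m G) {g : G} {k : ℕ} (hg : g ^ 2 ^ k = 1) : g ^ 4 = 1 := by
  obtain ⟨j, -, hj⟩ := (Nat.dvd_prime_pow Nat.prime_two).mp (orderOf_dvd_of_pow_eq_one hg)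
  refine orderOf_dvd_iff_pow_eq_one.mp ?_
  by_contra hc
  apply h.no_eight g
  rw [hj] at hc ⊢
  have h3 : 3 ≤ j := by
    by_contra h'
    exact hc (by simpa using Nat.pow_dvd_pow 2 (show j ≤ 2 by omega))
  simpa using Nat.pow_dvd_pow 2 h3

end Orders

/-- What is used of a Suzuki group inside the spectrum of level `m`. -/
structure Shape (m : ℕ) (S : Type v) [Group S] : Prop where
  simple : IsSimpleGroup S
  nonab : ∃ a b : S, a * b ≠ b * a
  four : ∃ (r : ℕ) (Q : Subgroup S) (u q : S), r.Prime ∧ 5 ≤ r ∧ IsPGroup r Q ∧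
    u ∈ Subgroup.normalizer (Q : Set S) ∧ orderOf u = 4 ∧ q ∈ Q ∧ ⁅u ^ 2, q⁆ ≠ 1
  five : ∃ a : S, orderOf a = 5
  torus : ∃ (l : ℕ) (U : Subgroup S) (t a b c : S), l.Prime ∧ l ∣ tor1 m ∧ IsPGroup 2 U ∧
    t ∈ Subgroup.normalizer (U : Set S) ∧ orderOf t = l ∧ a ∈ U ∧ b ∈ U ∧ c ∈ U ∧
    (∀ x ∈ U, Commute t x → x = 1) ∧ (∀ x ∈ U, ∀ y ∈ U, Commute (x * x) y) ∧
    a * a ≠ 1 ∧ b * b ≠ 1 ∧ c * c ≠ 1 ∧ b * b * (c * c) ≠ 1 ∧ a * a * (b * b) ≠ 1 ∧ a * a * (c * c) ≠ 1 ∧
    a * a * (b * b * (c * c)) ≠ 1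

variable {m : ℕ} {X : Type u} [Group X] [Finite X] {S : Type v} [Group S]

/-- `H` maps onto the whole of `S`. -/
def Covers (f : X →* S) (H : Subgroup X) : Prop := ∀ s : S, ∃ h ∈ H, f h = s

theorem Covers.mono {f : X →* S} {H K : Subgroup X} (h : Covers f H) (hle : H ≤ K) : Covers f K := fun s => by
  obtain ⟨x, hx, hxs⟩ := h s
  exact ⟨x, hle hx, hxs⟩

theorem Covers.surj {f : X →* S} {H : Subgroup X} (h : Covers f H) : Function.Surjective (f.comp H.subtype) :=
  fun s => by
    obtain ⟨x, hx, hxs⟩ := h s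
    exact ⟨⟨x, hx⟩, hxs⟩

theorem covers_or_le (hS : Shape m S) (f : X →* S) (hf : Function.Surjective f) (H : Subgroup X) [H.Normal] :
    Covers f H ∨ H ≤ f.ker := by
  have := hS.simple
  rcases Subgroup.Normal.eq_bot_or_eq_top (Subgroup.Normal.map (inferInstance : H.Normal) f hf) with h | h
  · exact Or.inr ((Subgroup.map_eq_bot_iff H).mp h)
  · exact Or.inl fun s => Subgroup.mem_map.mp (h ▸ Subgroup.mem_top s)

theorem center_trivial (hS : Shape m S) {a : S} (ha : ∀ x : S, x * a = a * x) : a = 1 := by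
  have := hS.simple
  rcases Subgroup.Normal.eq_bot_or_eq_top (inferInstance : (Subgroup.center S).Normal) with h | h
  · exact Subgroup.mem_bot.mp (h ▸ Subgroup.mem_center_iff.mpr ha)
  · obtain ⟨x, y, hxy⟩ := hS.nonab
    exact absurd ((Subgroup.mem_center_iff.mp (h ▸ Subgroup.mem_top y)) x) hxy

theorem not_mem_of_image {f : X →* S} (hS : Shape m S) (hf : Function.Surjective f) {W : Subgroup X} [W.Normal]
    (hcov : ¬ Covers f (Subgroup.centralizer (W : Set X))) {c : X} (hc : f c ≠ 1) :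
    c ∉ Subgroup.centralizer (W : Set X) := fun h =>
  hc (MonoidHom.mem_ker.mp (((covers_or_le hS f hf _).resolve_left hcov) h))

/-- Where the centraliser does not cover, an involution outside the kernel fixes a point of an odd layer. -/
theorem exists_fixed_invol (hS : Shape m S) (f : X →* S) (hf : Function.Surjective f) (W : Subgroup X) [W.Normal]
    (hab : ∀ a ∈ W, ∀ b ∈ W, a * b = b * a)
    {z : X} (hz : z * z = 1) (hzf : f z ≠ 1) (hcov : ¬ Covers f (Subgroup.centralizer (W : Set X))) :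
    ∃ w ∈ W, w ≠ 1 ∧ Commute z w := by
  by_contra hno
  push Not at hno
  have hzi : z⁻¹ = z := inv_eq_of_mul_eq_one_right hz
  have hinv : ∀ w ∈ W, z * w * z = w⁻¹ := by
    intro w hw
    have hzw : z * w * z ∈ W := by
      have := Subgroup.Normal.conj_mem (inferInstance : W.Normal) w hw z
      rwa [hzi] at this
    have hm : w * (z * w * z) ∈ W := mul_mem hw hzw
    by_contra hne
    refine hno _ hm (fun e => hne (eq_inv_of_mul_eq_one_right e)) ?_
    show z * (w * (z * w * z)) = w * (z * w * z) * z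
    have e1 : z * (w * (z * w * z)) = z * w * z * w * z := by
      rw [show z * (w * (z * w * z)) = z * w * (z * w * z) by group]
      group
    rw [e1, hab w hw _ hzw]
  have hcen : ∀ g : X, ⁅g, z⁆ ∈ Subgroup.centralizer (W : Set X) := fun g => by
    rw [Subgroup.mem_centralizer_iff]
    intro w hw
    have hgw : g⁻¹ * w * g ∈ W := Subgroup.Normal.conj_mem' (inferInstance : W.Normal) w hw g
    have h1 : ⁅g, z⁆ * w * ⁅g, z⁆⁻¹ = w := by
      calc ⁅g, z⁆ * w * ⁅g, z⁆⁻¹ = g * (z * (g⁻¹ * (z⁻¹ * w * z) * g) * z⁻¹) * g⁻¹ := by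
            rw [commutatorElement_def]; group
        _ = g * (z * (g⁻¹ * (z * w * z) * g) * z) * g⁻¹ := by rw [hzi]
        _ = g * (z * (g⁻¹ * w * g)⁻¹ * z) * g⁻¹ := by
            rw [hinv w hw]; group
        _ = g * (g⁻¹ * w * g) * g⁻¹ := by rw [hinv _ (inv_mem hgw), inv_inv]
        _ = w := by group
    exact (mul_inv_eq_iff_eq_mul.mp h1).symm
  refine hzf (center_trivial hS fun s => ?_)
  obtain ⟨g, rfl⟩ := hf s
  have := MonoidHom.mem_ker.mp (((covers_or_le hS f hf _).resolve_left hcov) (hcen g))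
  rw [map_commutatorElement] at this
  exact commutatorElement_eq_one_iff_commute.mp this


/-- The part of prime-power order of a lift. -/
theorem exists_part (f : X →* S) {p : ℕ} (hp : p.Prime) {x : X} {a : ℕ} (hx : orderOf (f x) = p ^ a) :
    ∃ n : ℕ, f (x ^ n) = f x ∧ ∃ k : ℕ, (x ^ n) ^ p ^ k = 1 := by
  obtain ⟨k, d, hd, ho⟩ := Nat.exists_eq_pow_mul_and_not_dvd (orderOf_pos x).ne' p hp.one_lt.ne'
  have hcop : d.Coprime (orderOf (f x)) := by
    rw [hx]; exact ((hp.coprime_iff_not_dvd.mpr hd).symm).pow_right a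
  obtain ⟨j, hj⟩ := exists_pow_eq_self_of_coprime hcop
  refine ⟨d * j, by rw [map_pow, pow_mul]; exact hj, k, ?_⟩
  rw [← pow_mul, show d * j * p ^ k = orderOf x * j by rw [ho]; ring, pow_mul, pow_orderOf_eq_one, one_pow]

/-- A prime-power element normalising a `q`-subgroup lifts to one normalising a lift. -/
theorem exists_lift_normalizer (f : X →* S) (hf : Function.Surjective f) {q : ℕ} [Fact q.Prime] (Qb : Subgroup S)
    (hQb : IsPGroup q Qb) {p : ℕ} (hp : p.Prime) {a : ℕ} {y : S} (hy : y ∈ Subgroup.normalizer (Qb : Set S))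
    (hya : orderOf y = p ^ a) :
    ∃ (Q : Subgroup X) (x : X), IsPGroup q Q ∧ (∀ b ∈ Qb, ∃ c ∈ Q, f c = b) ∧
      x ∈ Subgroup.normalizer (Q : Set X) ∧ f x = y ∧ (∀ c ∈ Q, f c ∈ Qb) ∧ ∃ k : ℕ, x ^ p ^ k = 1 := by
  set H := Qb.comap f with hH
  obtain ⟨P⟩ : Nonempty (Sylow q H) := inferInstance
  set Q := (P : Subgroup H).map H.subtype with hQ
  have hQH : Q ≤ H := Subgroup.map_subtype_le _
  have hQf : ∀ b ∈ Qb, ∃ c ∈ Q, f c = b := by
    let g : H →* Qb := (f.comp H.subtype).codRestrict Qb (fun h => h.2)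
    have hg : Function.Surjective g := fun b => by
      obtain ⟨c, hc⟩ := hf b
      exact ⟨⟨c, show f c ∈ Qb by rw [hc]; exact b.2⟩, Subtype.ext hc⟩
    haveI : Finite Qb := Finite.of_surjective g hg
    have htop : ((P.mapSurjective hg : Sylow q Qb) : Subgroup Qb) = ⊤ :=
      ((P.mapSurjective hg).3 (Q := ⊤) (hQb.of_equiv Subgroup.topEquiv.symm) le_top).symm
    intro b hb
    have hm : (⟨b, hb⟩ : Qb) ∈ ((P.mapSurjective hg : Sylow q Qb) : Subgroup Qb) := htop ▸ Subgroup.mem_top _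
    rw [Sylow.coe_mapSurjective] at hm
    obtain ⟨c, hc, hcb⟩ := Subgroup.mem_map.mp hm
    exact ⟨c, Subgroup.mem_map_of_mem _ hc, congrArg Subtype.val hcb⟩
  obtain ⟨x₀, hx₀⟩ := hf y
  have hxH : x₀ ∈ Subgroup.normalizer (H : Set X) := Subgroup.mem_normalizer_iff.mpr fun b => by
    rw [hH, Subgroup.mem_comap, Subgroup.mem_comap, map_mul, map_mul, map_inv, hx₀]
    exact Subgroup.mem_normalizer_iff.mp hy (f b)
  -- Frattini inside the normaliser of the preimage
  set N := Subgroup.normalizer (H : Set X) with hN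
  haveI : (H.subgroupOf N).Normal := Subgroup.normal_in_normalizer
  let e : ↥(H.subgroupOf N) ≃* H := Subgroup.subgroupOfEquivOfLe Subgroup.le_normalizer
  obtain ⟨P', hP'⟩ : ∃ P' : Sylow q ↥(H.subgroupOf N), ∀ b, b ∈ (P' : Subgroup ↥(H.subgroupOf N)) ↔ e b ∈ P :=
    ⟨P.comapOfInjective e.toMonoidHom e.injective (by
      rw [MonoidHom.range_eq_top.mpr e.surjective]; exact le_top), fun b => Iff.rfl⟩
  have htop := Sylow.normalizer_sup_eq_top P'
  have hmem : (⟨x₀, hxH⟩ : N) ∈ Subgroup.normalizer (((P' : Subgroup ↥(H.subgroupOf N)).map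
      (H.subgroupOf N).subtype : Subgroup N) : Set N) ⊔ H.subgroupOf N := htop ▸ Subgroup.mem_top _
  obtain ⟨n, hn, h, hh, hnh⟩ := Subgroup.mem_sup_of_normal_right.mp hmem
  have hmap : ∀ b : X, b ∈ Q ↔ ∃ hb : b ∈ N, (⟨b, hb⟩ : N) ∈ (P' : Subgroup ↥(H.subgroupOf N)).map
      (H.subgroupOf N).subtype := by
    intro b
    constructor
    · rintro ⟨c, hc, rfl⟩
      refine ⟨Subgroup.le_normalizer c.2, e.symm c, (hP' _).mpr (by rwa [MulEquiv.apply_symm_apply]), ?_⟩
      exact Subtype.ext rfl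
    · rintro ⟨hb, c, hc, hcb⟩
      exact ⟨e c, (hP' c).mp hc, congrArg Subtype.val hcb⟩
  have hnQ : (n : X) ∈ Subgroup.normalizer (Q : Set X) := Subgroup.mem_normalizer_fintype fun b hb => by
    obtain ⟨hbN, hb'⟩ := (hmap b).mp hb
    exact (hmap _).mpr ⟨mul_mem (mul_mem n.2 hbN) (inv_mem n.2), (Subgroup.mem_normalizer_iff.mp hn _).mp hb'⟩
  obtain ⟨c, hc, hfc⟩ := hQf (f (h : X)) (by
    have : (h : X) ∈ H := Subgroup.mem_subgroupOf.mp hh
    exact this)
  have hfx : f ((n : X) * c) = y := by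
    rw [map_mul, hfc, ← map_mul, ← hx₀]
    exact congrArg f (congrArg Subtype.val hnh)
  obtain ⟨j, hj, hk⟩ := exists_part f hp (x := (n : X) * c) (by rw [hfx]; exact hya)
  refine ⟨Q, ((n : X) * c) ^ j, P.2.map _, hQf, Subgroup.pow_mem _ (mul_mem hnQ (Subgroup.le_normalizer hc)) j,
    hj.trans hfx, fun c hc => hQH hc, hk⟩


/-- A normal subgroup of `S × T` with a non-trivial projection contains that factor. -/
theorem factor_le {T : Type w} [Group T] {n' : ℕ} (hS : Shape m S) (hT : Shape n' T) (N : Subgroup (S × T)) [hN : N.Normal] {n : S × T} (hn : n ∈ N) :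
    (n.1 ≠ 1 → ∀ a : S, ((a, 1) : S × T) ∈ N) ∧ (n.2 ≠ 1 → ∀ b : T, ((1, b) : S × T) ∈ N) := by
  have := hS.simple
  have := hT.simple
  have hcomm : ∀ x : S × T, ⁅n, x⁆ ∈ N := fun x => by
    rw [commutatorElement_def, show n * x * n⁻¹ * x⁻¹ = n * (x * n⁻¹ * x⁻¹) by group]
    exact mul_mem hn (hN.conj_mem _ (inv_mem hn) x)
  constructor
  · intro h1 a
    rcases Subgroup.Normal.eq_bot_or_eq_top (hN.comap (MonoidHom.inl S T)) with h | h
    · refine absurd (center_trivial hS fun x => ?_) h1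
      have hm : ⁅n.1, x⁆ ∈ N.comap (MonoidHom.inl S T) := by
        show ((⁅n.1, x⁆, 1) : S × T) ∈ N
        have e : ⁅n, ((x, 1) : S × T)⁆ = (⁅n.1, x⁆, 1) := by
          rw [commutatorElement_def, commutatorElement_def]; ext <;> simp
        exact e ▸ hcomm _
      rw [h] at hm
      exact (commutatorElement_eq_one_iff_commute.mp (Subgroup.mem_bot.mp hm)).symm
    · exact (h ▸ Subgroup.mem_top a : a ∈ N.comap (MonoidHom.inl S T))
  · intro h2 b
    rcases Subgroup.Normal.eq_bot_or_eq_top (hN.comap (MonoidHom.inr S T)) with h | h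
    · refine absurd (center_trivial hT fun x => ?_) h2
      have hm : ⁅n.2, x⁆ ∈ N.comap (MonoidHom.inr S T) := by
        show ((1, ⁅n.2, x⁆) : S × T) ∈ N
        have e : ⁅n, ((1, x) : S × T)⁆ = (1, ⁅n.2, x⁆) := by
          rw [commutatorElement_def, commutatorElement_def]; ext <;> simp
        exact e ▸ hcomm _
      rw [h] at hm
      exact (commutatorElement_eq_one_iff_commute.mp (Subgroup.mem_bot.mp hm)).symm
    · exact (h ▸ Subgroup.mem_top b : b ∈ N.comap (MonoidHom.inr S T))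


/-- The elements of exponent `l` in the centre of a subgroup. -/
def elemCenter {G : Type u} [Group G] (D : Subgroup G) (l : ℕ) : Subgroup G where
  carrier := {a | a ∈ D ∧ a ^ l = 1 ∧ ∀ d ∈ D, Commute a d}
  one_mem' := ⟨one_mem D, one_pow l, fun d _ => Commute.one_left d⟩
  mul_mem' := fun {a b} ha hb => ⟨mul_mem ha.1 hb.1, by
    rw [(ha.2.2 b hb.1).mul_pow, ha.2.1, hb.2.1, one_mul], fun d hd => (ha.2.2 d hd).mul_left (hb.2.2 d hd)⟩
  inv_mem' := fun {a} ha => ⟨inv_mem ha.1, by rw [inv_pow, ha.2.1, inv_one], fun d hd => (ha.2.2 d hd).inv_left⟩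

theorem elemCenter_normal {G : Type u} [Group G] (D : Subgroup G) [hD : D.Normal] (l : ℕ) :
    (elemCenter D l).Normal where
  conj_mem := fun a ha g => ⟨hD.conj_mem a ha.1 g, by rw [conj_pow, ha.2.1, mul_one, mul_inv_cancel],
    fun d hd => by
      have h := (ha.2.2 _ (hD.conj_mem d hd g⁻¹)).map (MulAut.conj g).toMonoidHom
      simpa [mul_assoc] using h⟩

theorem elemCenter_comm {G : Type u} [Group G] (D : Subgroup G) (l : ℕ) :
    ∀ a ∈ elemCenter D l, ∀ b ∈ elemCenter D l, a * b = b * a := fun _ ha b hb => (ha.2.2 b hb.1).eq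

theorem elemCenter_ne_bot {G : Type u} [Group G] [Finite G] {l : ℕ} [Fact l.Prime] {D : Subgroup G}
    (hD : IsPGroup l D) (h1 : D ≠ ⊥) : elemCenter D l ≠ ⊥ := by
  haveI : Nontrivial D := (Subgroup.nontrivial_iff_ne_bot D).mpr h1
  haveI := hD.center_nontrivial
  obtain ⟨k, hk, hcard⟩ := (hD.to_subgroup (Subgroup.center D)).nontrivial_iff_card.mp inferInstance
  obtain ⟨a, ha⟩ := exists_prime_orderOf_dvd_card' (G := Subgroup.center D) l (hcard ▸ dvd_pow_self l (by omega))
  intro hbot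
  have hm : ((a : D) : G) ∈ elemCenter D l := ⟨(a : D).2, by
    have := congrArg (fun x : Subgroup.center D => ((x : D) : G)) (ha ▸ pow_orderOf_eq_one a)
    simpa using this, fun d hd => congrArg Subtype.val ((Subgroup.mem_center_iff.mp a.2 ⟨d, hd⟩).symm)⟩
  rw [hbot, Subgroup.mem_bot] at hm
  rw [show a = 1 from Subtype.ext (Subtype.ext hm), orderOf_one] at ha
  exact (Fact.out : l.Prime).ne_one ha.symm


variable {G : Type u} [Group G] [Finite G]

/-- Commuting elements of order `r` span a group fixing a point of each normal layer for another prime. -/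
theorem exists_fixed_pair {L : Subgroup G} [L.Normal] (hL : ∀ a ∈ L, ∀ b ∈ L, a * b = b * a) (hne : L ≠ ⊥)
    {l r : ℕ} (hl : l.Prime) (hexp : ∀ a ∈ L, a ^ l = 1) (hr : r.Prime) (hlr : l ≠ r) {a b : G}
    (ha : orderOf a = r) (hb : orderOf b = r) (hab : Commute a b) (hnp : b ∉ Subgroup.zpowers a) :
    ∃ e ∈ Subgroup.closure ({a, b} : Set G), orderOf e = r ∧ ∃ v ∈ L, v ≠ 1 ∧ Commute e v := by
  classical
  letI : CommGroup L := { (inferInstance : Group L) with mul_comm := fun x y => Subtype.ext (hL x x.2 y y.2) }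
  letI : MulDistribMulAction G L := MulDistribMulAction.compHom L (MulAut.conjNormal : G →* MulAut L)
  let A := Additive L
  letI : DistribMulAction G A :=
    { smul := fun g x => Additive.ofMul (g • Additive.toMul x)
      one_smul := fun x => congrArg Additive.ofMul (one_smul G (Additive.toMul x))
      mul_smul := fun g g' x => congrArg Additive.ofMul (mul_smul g g' (Additive.toMul x))
      smul_zero := fun g => congrArg Additive.ofMul (smul_one g)
      smul_add := fun g x y => congrArg Additive.ofMul (smul_mul' g (Additive.toMul x) (Additive.toMul y)) }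
  obtain ⟨v, hv, hv1⟩ := (Subgroup.bot_or_exists_ne_one L).resolve_left hne
  have hcop : ∀ x : A, r • x = 0 → x = 0 := fun x hx => by
    refine AddMonoid.addOrderOf_eq_one_iff.mp (Nat.eq_one_of_dvd_coprimes ((Nat.coprime_primes hr hl).mpr hlr.symm)
      (addOrderOf_dvd_of_nsmul_eq_zero hx) (addOrderOf_dvd_of_nsmul_eq_zero ?_))
    apply Additive.toMul.injective
    rw [toMul_nsmul, toMul_zero]
    exact Subtype.ext (by rw [Subgroup.coe_pow]; exact hexp _ (Additive.toMul x).2)
  have key : ∀ (e : G) (w : A), w ≠ 0 → e • w = w → ∃ u ∈ L, u ≠ 1 ∧ Commute e u := fun e w hw0 hew => by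
    refine ⟨_, (Additive.toMul w).2, fun h => hw0 (Additive.toMul.injective (Subtype.ext h)), ?_⟩
    have h1 : ((Additive.toMul (e • w) : L) : G) = e * (Additive.toMul w : L) * e⁻¹ := MulAut.conjNormal_apply e _
    rw [hew] at h1
    exact mul_inv_eq_iff_eq_mul.mp h1.symm
  have haG : a ^ r = 1 := ha ▸ pow_orderOf_eq_one a
  have hbG : b ^ r = 1 := hb ▸ pow_orderOf_eq_one b
  rcases Cfsg.Agent.AffineDerange.exists_fixed (V := A) a b r hr haG hbG hab hcop (Additive.ofMul ⟨v, hv⟩)
    (fun h => hv1 (congrArg (fun x : A => ((Additive.toMul x : L) : G)) h)) with ⟨w, hw0, hw⟩ | ⟨i, w, hw0, hw⟩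
  · exact ⟨b, Subgroup.subset_closure (by simp), hb, key b w hw0 hw⟩
  · refine ⟨a * b ^ i, mul_mem (Subgroup.subset_closure (by simp)) (pow_mem (Subgroup.subset_closure (by simp)) i),
      ?_, key _ w hw0 hw⟩
    haveI := Fact.mk hr
    refine orderOf_eq_prime (by rw [(hab.pow_right i).mul_pow, haG, ← pow_mul, mul_comm, pow_mul, hbG, one_pow,
      one_mul]) fun e => hnp ?_
    have hbi : b ^ i = a⁻¹ := eq_inv_of_mul_eq_one_right e
    have hir : i.Coprime r := Nat.Coprime.symm (hr.coprime_iff_not_dvd.mpr fun hd => by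
      obtain ⟨j, rfl⟩ := hd
      rw [pow_mul, hbG, one_pow] at hbi
      rw [show a = 1 from inv_eq_one.mp hbi.symm, orderOf_one] at ha
      exact hr.ne_one ha.symm)
    obtain ⟨j, hj⟩ := exists_pow_eq_self_of_coprime (x := b) (n := i) (by rw [hb]; exact hir)
    rw [← hj, hbi]
    exact pow_mem (inv_mem (Subgroup.mem_zpowers a)) j


/-- Three primes dividing the order of a solvable group, no element joining two of them. -/
theorem lucido {H : Subgroup G} (hH : Group.IsSolvable H) {r s t : ℕ} (hr : r.Prime) (hs : s.Prime) (ht : t.Prime)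
    (hrs : r ≠ s) (hrt : r ≠ t) (hst : s ≠ t) (dr : r ∣ Nat.card H) (ds : s ∣ Nat.card H) (dt : t ∣ Nat.card H)
    (hno : ∀ g ∈ H, ∀ a ∈ ({r, s, t} : Finset ℕ), ∀ b ∈ ({r, s, t} : Finset ℕ), a ≠ b →
      a ∣ orderOf g → b ∣ orderOf g → False) : False := by
  set π : Finset ℕ := {r, s, t} with hπ
  have hprime : ∀ a ∈ π, a.Prime := by
    intro a ha
    simp only [hπ, Finset.mem_insert, Finset.mem_singleton] at ha
    rcases ha with rfl | rfl | rfl <;> assumption
  obtain ⟨L, hLH, hLs, hLi⟩ := CfsgLib.exists_isPiHallOf (π : Set ℕ) (M := H) hH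
  haveI : Group.IsSolvable L :=
    Group.isSolvable_of_isSolvable_injective (f := Subgroup.inclusion hLH) (Subgroup.inclusion_injective _)
  have hpp : ∀ g : L, IsPrimePow (orderOf g) ∨ g = 1 := by
    intro g
    by_contra hno'
    push Not at hno'
    obtain ⟨a, ha, had⟩ := Nat.exists_prime_and_dvd (fun e => hno'.2 (orderOf_eq_one_iff.mp e))
    obtain ⟨b, hb, hbd, hba⟩ : ∃ b, b.Prime ∧ b ∣ orderOf g ∧ b ≠ a := by
      by_contra h
      push Not at h
      exact hno'.1 ((isPrimePow_iff_unique_prime_dvd).mpr ⟨a, ⟨ha, had⟩, fun b hb => h b hb.1 hb.2⟩)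
    exact hno (g : G) (hLH g.2) a (Finset.mem_coe.mp (hLs a ha (had.trans (orderOf_dvd_natCard g)))) b
      (Finset.mem_coe.mp (hLs b hb (hbd.trans (orderOf_dvd_natCard g)))) hba.symm
      (by rwa [Subgroup.orderOf_coe]) (by rwa [Subgroup.orderOf_coe])
  have hsub : π ⊆ (Nat.card L).primeFactors := by
    intro a ha
    refine Nat.mem_primeFactors.mpr ⟨hprime a ha, ?_, Nat.card_pos.ne'⟩
    have hd : a ∣ Nat.card H := by
      simp only [hπ, Finset.mem_insert, Finset.mem_singleton] at ha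
      rcases ha with rfl | rfl | rfl <;> assumption
    rw [← CfsgLib.card_mul_relIndex hLH] at hd
    exact ((hprime a ha).dvd_mul.mp hd).resolve_right (hLi a (hprime a ha) (by simpa using ha))
  have h3 := (Finset.card_le_card hsub).trans (Cfsg.Agent.S1475.result hpp)
  rw [hπ, Finset.card_insert_of_notMem (by simp [hrs, hrt]), Finset.card_pair hst] at h3
  omega


end CfsgLib.SzPairGen
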