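import Mathlib
import Cfsg.Agent.Lib.PrimitivePart.Main

/-!
The numbers `q - 1` and `q ± √(2q) + 1` for `q = 2 ^ (2 m + 1)` and the classes of their primes.
-/

set_option autoImplicit false
set_option linter.style.haveILetI false

namespace CfsgLib.SzPairGen

/-- `q - 1`. -/
abbrev tor1 (m : ℕ) : ℕ := 2 ^ (2 * m + 1) - 1
/-- `q + √(2q) + 1`. -/
abbrev torP (m : ℕ) : ℕ := 2 ^ (2 * m + 1) + 2 ^ (m + 1) + 1
/-- `q - √(2q) + 1`. -/
abbrev torM (m : ℕ) : ℕ := 2 ^ (2 * m + 1) - 2 ^ (m + 1) + 1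

/-- The class of a prime. -/
def cls (m r : ℕ) : ℕ := if r = 2 then 0 else if r ∣ tor1 m then 1 else if r ∣ torP m then 2 else 3

/-- The primes of the spectrum. -/
def InSpec (m r : ℕ) : Prop := r = 2 ∨ r ∣ tor1 m ∨ r ∣ torP m ∨ r ∣ torM m

theorem pow_split (m : ℕ) : 2 ^ (2 * m + 1) = 2 * (2 ^ m * 2 ^ m) ∧ 2 ^ (m + 1) = 2 * 2 ^ m :=
  ⟨by rw [← pow_add, ← pow_succ']; congr 1; omega, pow_succ' 2 m⟩

theorem le_pow (m : ℕ) : 2 ^ (m + 1) ≤ 2 ^ (2 * m + 1) := Nat.pow_le_pow_right (by norm_num) (by omega)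

theorem torP_mul_torM (m : ℕ) : torP m * torM m = (2 ^ (2 * m + 1)) ^ 2 + 1 := by
  obtain ⟨a, ha⟩ : ∃ a, 2 ^ (2 * m + 1) = 2 ^ (m + 1) + a := Nat.exists_eq_add_of_le (le_pow m)
  have hs : (2 ^ (m + 1)) ^ 2 = 2 * 2 ^ (2 * m + 1) := by
    rw [← pow_mul, ← pow_succ']; congr 1; omega
  unfold torP torM
  rw [ha, show 2 ^ (m + 1) + a - 2 ^ (m + 1) + 1 = a + 1 by omega]
  rw [ha] at hs
  nlinarith [hs]

theorem dvd_sq_add {m r : ℕ} (h : r ∣ torP m ∨ r ∣ torM m) : r ∣ (2 ^ (2 * m + 1)) ^ 2 + 1 := by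
  rw [← torP_mul_torM]
  exact h.elim (fun h => h.mul_right _) (fun h => h.mul_left _)

theorem two_not_dvd (m : ℕ) : ¬ 2 ∣ tor1 m ∧ ¬ 2 ∣ torP m ∧ ¬ 2 ∣ torM m := by
  obtain ⟨h1, h2⟩ := pow_split m
  have h3 := le_pow m
  have h4 : 0 < 2 ^ m * 2 ^ m := by positivity
  simp only [tor1, torP, torM]
  omega

theorem ne_two {m r : ℕ} (h : r ∣ tor1 m ∨ r ∣ torP m ∨ r ∣ torM m) : r ≠ 2 := by
  rintro rfl
  obtain ⟨a, b, c⟩ := two_not_dvd m
  rcases h with h | h | h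
  exacts [a h, b h, c h]

/-- `-1` and `1` differ. -/
theorem not_both {m r : ℕ} (hr : r.Prime) (h1 : r ∣ tor1 m) (h2 : r ∣ (2 ^ (2 * m + 1)) ^ 2 + 1) : False := by
  have e : (2 ^ (2 * m + 1)) ^ 2 + 1 = tor1 m * (2 ^ (2 * m + 1) + 1) + 2 := by
    have : 1 ≤ 2 ^ (2 * m + 1) := Nat.one_le_two_pow
    unfold tor1
    obtain ⟨a, ha⟩ := Nat.exists_eq_add_of_le this
    rw [ha, Nat.add_sub_cancel_left]; ring
  rw [e, Nat.dvd_add_right (h1.mul_right _)] at h2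
  exact ne_two (Or.inl h1) ((Nat.prime_dvd_prime_iff_eq hr Nat.prime_two).mp h2)

theorem not_PM {m r : ℕ} (hr : r.Prime) (h1 : r ∣ torP m) (h2 : r ∣ torM m) : False := by
  have h3 := Nat.dvd_sub h1 h2
  have h4 := le_pow m
  have e : torP m - torM m = 2 ^ (m + 1 + 1) := by
    rw [pow_succ 2 (m + 1)]
    unfold torP torM
    omega
  rw [e] at h3
  exact ne_two (Or.inr (Or.inl h1)) ((Nat.prime_dvd_prime_iff_eq hr Nat.prime_two).mp (hr.dvd_of_dvd_pow h3))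

theorem cls_two (m : ℕ) : cls m 2 = 0 := if_pos rfl

theorem cls_ne_zero {m r : ℕ} (h : r ≠ 2) : cls m r ≠ 0 := by
  unfold cls
  rw [if_neg h]
  split_ifs <;> simp

theorem cls_eq_zero {m r : ℕ} (h : cls m r = 0) : r = 2 := by
  by_contra h2
  exact cls_ne_zero h2 h

theorem cls_one {m r : ℕ} (h : r ∣ tor1 m) : cls m r = 1 := by
  unfold cls
  rw [if_neg (ne_two (Or.inl h)), if_pos h]

theorem cls_torP {m r : ℕ} (hr : r.Prime) (h : r ∣ torP m) : cls m r = 2 := by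
  unfold cls
  rw [if_neg (ne_two (Or.inr (Or.inl h))), if_neg fun h1 => not_both hr h1 (dvd_sq_add (Or.inl h)), if_pos h]

theorem cls_torM {m r : ℕ} (hr : r.Prime) (h : r ∣ torM m) : cls m r = 3 := by
  unfold cls
  rw [if_neg (ne_two (Or.inr (Or.inr h))), if_neg fun h1 => not_both hr h1 (dvd_sq_add (Or.inr h)),
    if_neg fun h1 => not_PM hr h1 h]

theorem cls_sq {m r : ℕ} (hr : r.Prime) (h : r ∣ (2 ^ (2 * m + 1)) ^ 2 + 1) : cls m r ≠ 0 ∧ cls m r ≠ 1 := by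
  rw [← torP_mul_torM] at h
  rcases hr.dvd_mul.mp h with h | h
  · rw [cls_torP hr h]; omega
  · rw [cls_torM hr h]; omega

theorem five_dvd (m : ℕ) : 5 ∣ (2 ^ (2 * m + 1)) ^ 2 + 1 := by
  rw [← pow_mul, show (2 * m + 1) * 2 = 4 * m + 2 by ring, pow_add, pow_mul]
  refine Nat.dvd_of_mod_eq_zero ?_
  rw [Nat.add_mod, Nat.mul_mod, Nat.pow_mod]
  norm_num

theorem cls_five (m : ℕ) : cls m 5 ≠ 0 ∧ cls m 5 ≠ 1 := cls_sq (by norm_num) (five_dvd m)

theorem tor1_pow_eq_one {m r : ℕ} (h : r ∣ tor1 m) : (2 : ZMod r) ^ (2 * m + 1) = 1 := by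
  have h1 := (ZMod.natCast_eq_zero_iff _ _).mpr h
  rw [Nat.cast_sub Nat.one_le_two_pow, sub_eq_zero] at h1
  simpa using h1

theorem sq_pow_eq_neg {m r : ℕ} (h : r ∣ (2 ^ (2 * m + 1)) ^ 2 + 1) : (4 : ZMod r) ^ (2 * m + 1) = -1 := by
  have h1 := (ZMod.natCast_eq_zero_iff _ _).mpr h
  push_cast at h1
  rw [← pow_mul, mul_comm, pow_mul] at h1
  norm_num at h1
  exact eq_neg_of_add_eq_zero_left h1

/-- The primes of a smaller `q₁ - 1` keep their class. -/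
theorem small_tor {m n r : ℕ} (hr : r.Prime) (hs : InSpec m r) (h : r ∣ tor1 n) : r ∣ tor1 m := by
  have hr2 := ne_two (Or.inl h)
  rcases hs with e | e | e
  · exact absurd e hr2
  · exact e
  · exfalso
    have h2 : r ∣ (2 ^ (2 * m + 1)) ^ 2 + 1 := dvd_sq_add e
    haveI := Fact.mk hr
    have a := tor1_pow_eq_one h
    have b := sq_pow_eq_neg h2
    have h4 : (4 : ZMod r) = (2 : ZMod r) ^ 2 := by norm_num
    have c : ((-1 : ZMod r)) ^ (2 * n + 1) = 1 := by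
      rw [← b, h4, ← pow_mul, ← pow_mul, show 2 * ((2 * m + 1) * (2 * n + 1)) = (2 * n + 1) * (2 * (2 * m + 1)) by ring,
        pow_mul, a, one_pow]
    rw [Odd.neg_one_pow ⟨n, rfl⟩] at c
    have h22 : ((2 : ℕ) : ZMod r) = 0 := by
      push_cast
      linear_combination -c
    exact hr2 ((Nat.prime_dvd_prime_iff_eq hr Nat.prime_two).mp ((ZMod.natCast_eq_zero_iff _ _).mp h22))

theorem cls_eq_one {m r : ℕ} (h : cls m r = 1) : r ∣ tor1 m := by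
  by_contra h2
  unfold cls at h
  rw [if_neg h2] at h
  split_ifs at h <;> simp_all

/-- No prime of `q - 1` divides some `2 ^ b + 1`. -/
theorem not_tor_and_succ {m b r : ℕ} (hr : r.Prime) (h : r ∣ tor1 m) (hb : r ∣ 2 ^ b + 1) : False := by
  haveI := Fact.mk hr
  have a := tor1_pow_eq_one h
  have hb' := (ZMod.natCast_eq_zero_iff _ _).mpr hb
  push_cast at hb'
  have e : (2 : ZMod r) ^ b = -1 := eq_neg_of_add_eq_zero_left hb'
  have c : ((-1 : ZMod r)) ^ (2 * m + 1) = 1 := by rw [← e, ← pow_mul, mul_comm, pow_mul, a, one_pow]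
  rw [Odd.neg_one_pow ⟨m, rfl⟩] at c
  have h22 : ((2 : ℕ) : ZMod r) = 0 := by
    push_cast
    linear_combination -c
  exact ne_two (Or.inl h) ((Nat.prime_dvd_prime_iff_eq hr Nat.prime_two).mp ((ZMod.natCast_eq_zero_iff _ _).mp h22))

theorem three_not_spec (m : ℕ) : ¬ InSpec m 3 := by
  have h1 : 2 ^ (2 * m + 1) % 3 = 2 := by rw [pow_succ, pow_mul, Nat.mul_mod, Nat.pow_mod]; norm_num
  have h2 : 1 ≤ 2 ^ (2 * m + 1) := Nat.one_le_two_pow
  rintro (e | e | e)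
  · omega
  · unfold tor1 at e; omega
  · have h := dvd_sq_add (r := 3) e
    rw [Nat.dvd_iff_mod_eq_zero, Nat.add_mod, Nat.pow_mod, h1] at h
    norm_num at h

theorem dvd_of_tor_dvd {g f : ℕ} (h : 2 ^ g - 1 ∣ 2 ^ f - 1) : g ∣ f := by
  have h1 := Nat.gcd_eq_left h
  rw [Nat.pow_sub_one_gcd_pow_sub_one] at h1
  have h2 : 1 ≤ 2 ^ Nat.gcd g f := Nat.one_le_two_pow
  have h3 : 1 ≤ 2 ^ g := Nat.one_le_two_pow
  have h4 : Nat.gcd g f = g := Nat.pow_right_injective le_rfl (show 2 ^ Nat.gcd g f = 2 ^ g by omega)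
  exact h4 ▸ Nat.gcd_dvd_right g f

/-- A primitive prime of `2 ^ n - 1`, exceeding `n`. -/
theorem exists_ppd {n : ℕ} (hn : 3 ≤ n) (h : n ≠ 6) : ∃ p : ℕ, p.Prime ∧ p ∣ 2 ^ n - 1 ∧ n < p ∧
    ∀ g : ℕ, 1 ≤ g → p ∣ 2 ^ g - 1 → n ∣ g := by
  have key : ∃ p : ℕ, p.Prime ∧ p ∣ 2 ^ n - 1 ∧ ∀ i : ℕ, 1 ≤ i → i < n → ¬ p ∣ 2 ^ i - 1 := by
    by_cases hex : n = 4 ∨ n = 10 ∨ n = 12 ∨ n = 18
    · rcases hex with rfl | rfl | rfl | rfl
      · exact ⟨5, by norm_num, by norm_num, fun i h1 h2 => by interval_cases i <;> norm_num⟩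
      · exact ⟨11, by norm_num, by norm_num, fun i h1 h2 => by interval_cases i <;> norm_num⟩
      · exact ⟨13, by norm_num, by norm_num, fun i h1 h2 => by interval_cases i <;> norm_num⟩
      · exact ⟨19, by norm_num, by norm_num, fun i h1 h2 => by interval_cases i <;> norm_num⟩
    · obtain ⟨p, hp, hd, hi, -⟩ := PrimitivePart.large_primitive_prime 2 n le_rfl (by omega)
        (fun e => by omega) (fun e => by omega) (fun e => by omega) (fun e => by omega)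
      exact ⟨p, hp, hd, hi⟩
  obtain ⟨p, hp, hd, hi⟩ := key
  haveI := Fact.mk hp
  have hprim : ∀ g : ℕ, 1 ≤ g → p ∣ 2 ^ g - 1 → n ∣ g := by
    intro g hg hdg
    have h1 := Nat.dvd_gcd hdg hd
    rw [Nat.pow_sub_one_gcd_pow_sub_one] at h1
    have h2 : 1 ≤ Nat.gcd g n := Nat.gcd_pos_of_pos_left _ hg
    have h3 : Nat.gcd g n = n := le_antisymm (Nat.le_of_dvd (by omega) (Nat.gcd_dvd_right g n)) (by
      by_contra hlt
      exact hi _ h2 (by omega) h1)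
    exact h3 ▸ Nat.gcd_dvd_left g n
  refine ⟨p, hp, hd, ?_, hprim⟩
  have hp2 : p ≠ 2 := by
    rintro rfl
    have h2 : 2 ∣ 2 ^ n := dvd_pow_self 2 (by omega)
    have := Nat.one_le_two_pow (n := n)
    omega
  have h2ne : (2 : ZMod p) ≠ 0 := fun e => hp2 ((Nat.prime_dvd_prime_iff_eq hp Nat.prime_two).mp
    ((ZMod.natCast_eq_zero_iff 2 p).mp (by exact_mod_cast e)))
  have h1 : p ∣ 2 ^ (p - 1) - 1 := by
    rw [← ZMod.natCast_eq_zero_iff, Nat.cast_sub Nat.one_le_two_pow]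
    push_cast
    rw [ZMod.pow_card_sub_one_eq_one h2ne, sub_self]
  have := hp.two_le
  have := Nat.le_of_dvd (by omega) (hprim (p - 1) (by omega) h1)
  omega

/-- The primes dividing both the exponent and `4 ^ f + 1` contribute little. -/
theorem part_dvd {f r k : ℕ} (hf : Odd f) (hr : r.Prime) (hr2 : r ≠ 2) (hrf : r ∣ f) (hd : r ^ k ∣ 4 ^ f + 1)
    (hk : k ≠ 0) : ∃ D : ℕ, 1 ≤ D ∧ 4 * (D * D) < f ∧ r ^ k ∣ f * (4 ^ D + 1) := by
  haveI := Fact.mk hr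
  have h4 : ((4 : ℕ) : ZMod r) ^ f = -1 := by
    have h1 := (ZMod.natCast_eq_zero_iff _ _).mpr ((dvd_pow_self r hk).trans hd)
    push_cast at h1 ⊢
    exact eq_neg_of_add_eq_zero_left h1
  set x : ZMod r := -((4 : ℕ) : ZMod r) with hx
  have hx1 : x ^ f = 1 := by rw [hx, hf.neg_pow, h4, neg_neg]
  have h4ne : ((4 : ℕ) : ZMod r) ≠ 0 := fun e => by
    have h42 := (ZMod.natCast_eq_zero_iff 4 r).mp e
    exact hr2 ((Nat.prime_dvd_prime_iff_eq hr Nat.prime_two).mp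
      (hr.dvd_of_dvd_pow (show r ∣ 2 ^ 2 by norm_num; exact h42)))
  have hx2 : x ^ (r - 1) = 1 := ZMod.pow_card_sub_one_eq_one (neg_ne_zero.mpr h4ne)
  set D := Nat.gcd f (r - 1) with hD
  have hD1 : x ^ D = 1 := pow_gcd_eq_one.mpr ⟨hx1, hx2⟩
  have hDodd : Odd D := Odd.of_dvd_nat hf (Nat.gcd_dvd_left _ _)
  have hDd : r ∣ 4 ^ D + 1 := by
    rw [← ZMod.natCast_eq_zero_iff]
    rw [hx, hDodd.neg_pow] at hD1
    push_cast at hD1 ⊢
    linear_combination -hD1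
  have hr4 : r % 4 = 1 := by
    have hsq : IsSquare (-1 : ZMod r) := by
      refine ⟨(2 : ZMod r) ^ f, ?_⟩
      rw [← h4, ← mul_pow]
      push_cast
      norm_num
    have h3 := ZMod.exists_sq_eq_neg_one_iff.mp hsq
    have : r % 2 = 1 := Nat.odd_iff.mp (hr.odd_of_ne_two hr2)
    omega
  have hDr : 4 * D ∣ r - 1 := by
    refine Nat.Coprime.mul_dvd_of_dvd_of_dvd ?_ (by omega) (Nat.gcd_dvd_right _ _)
    rw [show 4 = 2 ^ 2 from rfl]
    exact (hDodd.coprime_two_left).pow_left 2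
  have hDf : D * r ∣ f := by
    refine Nat.Coprime.mul_dvd_of_dvd_of_dvd (Nat.Coprime.symm (hr.coprime_iff_not_dvd.mpr fun e => ?_))
      (Nat.gcd_dvd_left _ _) hrf
    have := Nat.le_of_dvd hDodd.pos e
    have := Nat.le_of_dvd (by have := hr.two_le; omega) hDr
    omega
  refine ⟨D, hDodd.pos, ?_, ?_⟩
  · have h1 := Nat.le_of_dvd (by have := hr.two_le; omega) hDr
    have h2 := Nat.le_of_dvd hf.pos hDf
    have h3 : D * (4 * D + 1) ≤ D * r := Nat.mul_le_mul_left D (by omega)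
    have := hDodd.pos
    nlinarith
  · obtain ⟨n, hn⟩ : D ∣ f := Nat.gcd_dvd_left _ _
    have hn' : Odd n := Odd.of_dvd_nat hf (hn ▸ dvd_mul_left n D)
    have hr4' : ¬ r ∣ 4 ^ D := fun e => h4ne ((ZMod.natCast_eq_zero_iff _ _).mpr (hr.dvd_of_dvd_pow e))
    have hm := Nat.emultiplicity_pow_add_pow hr (hr.odd_of_ne_two hr2) (x := 4 ^ D) (y := 1) hDd hr4' hn'
    rw [one_pow, ← pow_mul, ← hn, ← emultiplicity_mul (Nat.prime_iff.mp hr)] at hm
    have h5 : r ^ k ∣ (4 ^ D + 1) * n := by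
      rw [pow_dvd_iff_le_emultiplicity] at hd ⊢
      rw [← hm]; exact hd
    exact h5.trans ⟨D, by rw [hn]; ring⟩

theorem prod_le (B : ℕ) : ∏ D ∈ Finset.Icc 1 B, (4 ^ D + 1) ≤ 2 ^ (B * B + 2 * B) := by
  induction B with
  | zero => simp
  | succ B ih =>
    rw [Finset.prod_Icc_succ_top (by omega)]
    have h1 : 4 ^ (B + 1) + 1 ≤ 2 ^ (2 * B + 3) := by
      rw [show (4 : ℕ) = 2 ^ 2 from rfl, ← pow_mul, show 2 * B + 3 = 2 * (B + 1) + 1 by ring, pow_succ 2 (2 * (B + 1))]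
      have : 1 ≤ 2 ^ (2 * (B + 1)) := Nat.one_le_two_pow
      omega
    calc (∏ D ∈ Finset.Icc 1 B, (4 ^ D + 1)) * (4 ^ (B + 1) + 1) ≤ 2 ^ (B * B + 2 * B) * 2 ^ (2 * B + 3) :=
          Nat.mul_le_mul ih h1
      _ = 2 ^ ((B + 1) * (B + 1) + 2 * (B + 1)) := by rw [← pow_add]; congr 1; ring

/-- A large divisor of `q² + 1` has a prime prime to `f`. -/
theorem exists_prime_part {m A : ℕ} (hm : 1 ≤ m) (hm2 : m ≠ 2) (hA : A ∣ (2 ^ (2 * m + 1)) ^ 2 + 1)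
    (hAbig : 2 ^ (2 * m) ≤ A) : ∃ r : ℕ, r.Prime ∧ r ∣ A ∧ ¬ r ∣ 2 * m + 1 := by
  by_contra hcon
  push Not at hcon
  set B := Nat.sqrt ((2 * m) / 4) with hB
  have hdvd : A ∣ (2 * m + 1) * ∏ D ∈ Finset.Icc 1 B, (4 ^ D + 1) := by
    refine (Nat.dvd_iff_prime_pow_dvd_dvd _ _).mpr fun r k hr hrk => ?_
    rcases Nat.eq_zero_or_pos k with rfl | hk
    · simp
    have hrA : r ∣ A := (dvd_pow_self r hk.ne').trans hrk
    have he : (2 ^ (2 * m + 1)) ^ 2 = 4 ^ (2 * m + 1) := by rw [← pow_mul, mul_comm, pow_mul]; norm_num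
    have hr2 : r ≠ 2 := by
      rintro rfl
      have h2 : 2 ∣ (2 ^ (2 * m + 1)) ^ 2 := dvd_pow (dvd_pow_self 2 (by omega)) (by norm_num)
      have := hrA.trans hA
      omega
    obtain ⟨D, hD1, hD2, hD3⟩ := part_dvd ⟨m, rfl⟩ hr hr2 (hcon r hr hrA) (he ▸ hrk.trans hA) hk.ne'
    refine hD3.trans (Nat.mul_dvd_mul_left _ (Finset.dvd_prod_of_mem _ (Finset.mem_Icc.mpr ⟨hD1, ?_⟩)))
    exact Nat.le_sqrt.mpr ((Nat.le_div_iff_mul_le (by norm_num)).mpr (by omega))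
  have hle := Nat.le_of_dvd (by positivity) hdvd
  have hb : 4 * (B * B) ≤ 2 * m := by
    have h1 := Nat.sqrt_le ((2 * m) / 4)
    rw [← hB] at h1
    omega
  have h3 := Nat.mul_le_mul_left (2 * m + 1) (prod_le B)
  have hB1 : m ≤ 1 → B = 0 := fun h => by
    by_contra hne
    have : 1 ≤ B * B := Nat.mul_pos (Nat.pos_of_ne_zero hne) (Nat.pos_of_ne_zero hne)
    omega
  have hB2 : m ≤ 7 → B ≤ 1 := fun h => by
    by_contra hne
    have : 4 ≤ B * B := Nat.mul_le_mul (show 2 ≤ B by omega) (show 2 ≤ B by omega)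
    omega
  suffices hlt : (2 * m + 1) * 2 ^ (B * B + 2 * B) < 2 ^ (2 * m) by omega
  rcases Nat.lt_or_ge m 8 with h8 | h8
  · have h9 : (2 * m + 1) * 2 ^ (B * B + 2 * B) ≤ (2 * m + 1) * 2 ^ (if m = 1 then 0 else 3) := by
      refine Nat.mul_le_mul_left _ (Nat.pow_le_pow_right (by norm_num) ?_)
      have hB3 := hB2 (by omega)
      split_ifs with h
      · rw [hB1 (by omega)]
      · interval_cases B <;> omega
    refine lt_of_le_of_lt h9 ?_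
    interval_cases m <;> simp_all
  · have h6 : B * B + 2 * B ≤ m + 1 := by
      have : 2 * B ≤ B * B + 1 := by nlinarith [sq_nonneg ((B : ℤ) - 1)]
      omega
    have h10 : ∀ n, 8 ≤ n → 2 * n + 1 < 2 ^ (n - 1) := fun n hn => by
      induction n, hn using Nat.le_induction with
      | base => norm_num
      | succ n hn ih =>
        rw [show n + 1 - 1 = n - 1 + 1 by omega, pow_succ]
        omega
    calc (2 * m + 1) * 2 ^ (B * B + 2 * B) < 2 ^ (m - 1) * 2 ^ (B * B + 2 * B) :=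
          Nat.mul_lt_mul_of_pos_right (h10 m h8) (Nat.two_pow_pos _)
      _ ≤ 2 ^ (m - 1) * 2 ^ (m + 1) := Nat.mul_le_mul_left _ (Nat.pow_le_pow_right (by norm_num) h6)
      _ = 2 ^ (2 * m) := by rw [← pow_add]; congr 1; omega

theorem torM_big {m : ℕ} (hm : 1 ≤ m) : 2 ^ (2 * m) ≤ torM m := by
  have h1 : 2 ^ (m + 1) ≤ 2 ^ (2 * m) := Nat.pow_le_pow_right (by norm_num) (by omega)
  have h2 : 2 ^ (2 * m + 1) = 2 * 2 ^ (2 * m) := pow_succ' 2 (2 * m)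
  simp only [torM]
  generalize 2 ^ (2 * m + 1) = a at h2 ⊢
  generalize 2 ^ (m + 1) = b at h1 ⊢
  generalize 2 ^ (2 * m) = c at h1 h2 ⊢
  omega

theorem exists_torP {m : ℕ} (hm : 1 ≤ m) (hm2 : m ≠ 2) : ∃ r : ℕ, r.Prime ∧ r ∣ torP m ∧ ¬ r ∣ 2 * m + 1 :=
  exists_prime_part hm hm2 (dvd_sq_add (Or.inl dvd_rfl)) ((torM_big hm).trans (by
    have := le_pow m
    simp only [torM, torP]
    generalize 2 ^ (2 * m + 1) = a at this ⊢
    generalize 2 ^ (m + 1) = b at this ⊢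
    omega))

theorem exists_torM {m : ℕ} (hm : 1 ≤ m) (hm2 : m ≠ 2) : ∃ r : ℕ, r.Prime ∧ r ∣ torM m ∧ ¬ r ∣ 2 * m + 1 :=
  exists_prime_part hm hm2 (dvd_sq_add (Or.inr dvd_rfl)) (torM_big hm)

/-- The exceptional prime. -/
theorem eq_five {d : ℕ} (hd : d.Prime) (h : d ∣ (2 ^ d) ^ 2 + 1) : d = 5 := by
  haveI := Fact.mk hd
  have h1 := (ZMod.natCast_eq_zero_iff _ _).mpr h
  push_cast at h1
  rw [← pow_mul, mul_comm, pow_mul, ZMod.pow_card] at h1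
  have h5 : ((5 : ℕ) : ZMod d) = 0 := by
    rw [← h1]
    push_cast
    ring
  exact (Nat.prime_dvd_prime_iff_eq hd (by norm_num)).mp ((ZMod.natCast_eq_zero_iff _ _).mp h5)

end CfsgLib.SzPairGen
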