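import Cfsg.Agent.Lib.SzPairGen.Model
import Cfsg.Agent.Lib.S3Simple.Rows
import Cfsg.Agent.Lib.S3Simple.Classification
import Cfsg.Agent.Lib.Components

/-!
Groups with trivial radical in the spectrum of `Sz(q) × Sz(q)`: components and their automisers.
-/

set_option autoImplicit false
set_option maxHeartbeats 1000000
set_option linter.style.haveILetI false
set_option linter.unusedSectionVars false

namespace CfsgLib.SzPairGen

open Cfsg CfsgLib
open scoped commutatorElement

universe u v

/-- `K` is some `Sz(2 ^ (2 n + 1))` with `2 n + 1` dividing `2 m + 1`. -/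
def IsSz (m n : ℕ) (K : Type u) [Group K] : Prop :=
  ∃ (F : Type) (_ : Field F) (_ : Fintype F) (_ : Fintype.card F = 2 ^ (2 * n + 1)),
    1 ≤ n ∧ 2 * n + 1 ∣ 2 * m + 1 ∧ Nonempty (K ≃* ↥(Cfsg.Sz F n))

/-- The simple groups in the spectrum. -/
theorem simple_model {m : ℕ} {K : Type u} [Group K] [Finite K] (h : Orders m K) (hs : IsSimpleGroup K)
    (hna : ¬ IsMulCommutative K) : ∃ n, IsSz m n K := by
  have h3 : ¬ 3 ∣ Nat.card K := fun hd => three_not_spec m (h.card_primes Nat.prime_three hd)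
  obtain ⟨F', i1, i2, n, hn, hc, ⟨e⟩⟩ := (S3Simple.suzuki_or_three (K := K)
    (S3Simple.classify K hs hna (S3Simple.free_of_not_three h3))).resolve_right fun hd => h3 hd.1
  let e' : K ≃* ↥(Cfsg.Sz F' n) := e.trans (Suzuki.lieEquiv hc hn).symm
  exact ⟨n, F', i1, i2, hc, hn, level_dvd hc hn (h.of_surjective e'.toMonoidHom e'.surjective), ⟨e'⟩⟩

variable {G : Type u} [Group G] [Finite G] {m : ℕ}

theorem center_eq_bot {K : Subgroup G} (hR : solvableRadical G = ⊥) (hK : IsComponent K) :
    Subgroup.center K = ⊥ := by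
  have hn : ((Subgroup.center K).map K.subtype).IsSubnormal :=
    (inferInstance : (Subgroup.center K).Normal).isSubnormal.trans' hK.1
  haveI : Group.IsSolvable (Subgroup.center K) :=
    Group.isSolvable_of_comm fun a b => Subtype.ext (Subgroup.mem_center_iff.mp b.2 (a : K))
  have hs : Group.IsSolvable ((Subgroup.center K).map K.subtype) :=
    Group.isSolvable_of_surjective (f := K.subtype.subgroupMap (Subgroup.center K))
      (K.subtype.subgroupMap_surjective _)
  have := isSubnormal_solvable_le_radical hn hs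
  rw [hR, le_bot_iff, Subgroup.map_eq_bot_iff_of_injective _ K.subtype_injective] at this
  exact this

theorem component_model (h : Orders m G) (hR : solvableRadical G = ⊥) {K : Subgroup G} (hK : IsComponent K) :
    ∃ n, IsSz m n K := by
  have hc := center_eq_bot hR hK
  refine simple_model (h.subgroup K) ?_ fun hcomm => ?_
  · have := hK.2.2
    exact ((QuotientGroup.quotientMulEquivOfEq hc).trans QuotientGroup.quotientBot).isSimpleGroup_congr.mp this
  · exact isQuasisimple_not_isSolvable hK.2 (Group.isSolvable_of_comm fun a b => hcomm.is_comm.comm a b)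

theorem centralizer_layer_eq_bot (hR : solvableRadical G = ⊥) :
    Subgroup.centralizer (layer G : Set G) = ⊥ := by
  have hfit : fittingSubgroup G = ⊥ := le_bot_iff.mp (fittingSubgroup_le_solvableRadical.trans hR.le)
  have hgen : generalizedFittingSubgroup G = layer G := by
    rw [show generalizedFittingSubgroup G = layer G ⊔ fittingSubgroup G from rfl, hfit, sup_bot_eq]
  have hle := centralizer_generalizedFitting_le (G := G)
  rw [hgen] at hle
  haveI : (layer G).Normal := Subgroup.normal_of_characteristic _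
  haveI : (Subgroup.centralizer (layer G : Set G)).Normal := Subgroup.normal_centralizer
  have hs : Group.IsSolvable (Subgroup.centralizer (layer G : Set G)) :=
    Group.isSolvable_of_comm fun a b => Subtype.ext (b.2 a (hle a.2))
  exact le_bot_iff.mp ((le_solvableRadical hs).trans hR.le)

theorem commute_of_ne {K L : Subgroup G} (hK : IsComponent K) (hL : IsComponent L) (hne : K ≠ L) {a b : G}
    (ha : a ∈ K) (hb : b ∈ L) : Commute a b :=
  commutatorElement_eq_one_iff_commute.mp (Subgroup.mem_bot.mp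
    ((components_eq_or_commute hK hL).resolve_left hne ▸ Subgroup.commutator_mem_commutator ha hb))

theorem eq_one_of_commute_layer (hR : solvableRadical G = ⊥) {d : G}
    (hd : ∀ L : Subgroup G, IsComponent L → ∀ a ∈ L, Commute a d) : d = 1 := by
  refine Subgroup.mem_bot.mp (centralizer_layer_eq_bot hR ▸ ?_)
  have hle : layer G ≤ Subgroup.centralizer ({d} : Set G) :=
    sSup_le fun L hL a ha => Subgroup.mem_centralizer_singleton_iff.mpr (hd L hL a ha).eq
  exact fun a ha => Subgroup.mem_centralizer_singleton_iff.mp (hle ha)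

theorem conj_component {L : Subgroup G} (hL : IsComponent L) (x : G) :
    IsComponent (L.map (MulAut.conj x).toMonoidHom) :=
  isComponent_map_equiv (MulAut.conj x) hL

theorem mem_normalizer_of_map {L : Subgroup G} {x : G} (e : L.map (MulAut.conj x).toMonoidHom = L) :
    x ∈ Subgroup.normalizer (L : Set G) := by
  refine Subgroup.mem_normalizer_fintype fun a ha => ?_
  rw [SetLike.mem_coe] at ha ⊢
  rw [← e]
  exact ⟨a, ha, rfl⟩

theorem map_conj_mul (M : Subgroup G) (p q : G) : M.map (MulAut.conj (p * q)).toMonoidHom =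
    (M.map (MulAut.conj q).toMonoidHom).map (MulAut.conj p).toMonoidHom := by
  rw [Subgroup.map_map]
  congr 1
  ext z
  simp [mul_assoc]

omit [Finite G] in
/-- An element normalising an `Sz` acts as an inner times a field automorphism. -/
theorem exists_field {F : Type v} [Field F] [Fintype F] {n : ℕ} (hF : Fintype.card F = 2 ^ (2 * n + 1)) (hn : 1 ≤ n)
    {K : Subgroup G} (e : K ≃* ↥(Cfsg.Sz F n)) {x : G} (hx : x ∈ Subgroup.normalizer (K : Set G)) :
    ∃ k ∈ K, ∃ i : ℕ, ∀ a : K, k⁻¹ * x * a * (k⁻¹ * x)⁻¹ = (e.symm (Suzuki.fAut hF hn i (e a)) : G) := by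
  obtain ⟨g, i, hgi⟩ := Suzuki.aut_eq hF hn (MulAut.congr e (K.normalizerMonoidHom ⟨x, hx⟩))
  refine ⟨(e.symm g : K), (e.symm g).2, i, fun a => ?_⟩
  have h1 : e (K.normalizerMonoidHom ⟨x, hx⟩ a) = g * Suzuki.fAut hF hn i (e a) * g⁻¹ := by
    have := DFunLike.congr_fun hgi (e a)
    simpa [MulAut.congr] using this
  have h2 : x * (a : G) * x⁻¹ =
      (e.symm g : K) * ((e.symm (Suzuki.fAut hF hn i (e a)) : K) : G) * ((e.symm g : K) : G)⁻¹ := by
    have h3 : K.normalizerMonoidHom ⟨x, hx⟩ a = e.symm g * e.symm (Suzuki.fAut hF hn i (e a)) * (e.symm g)⁻¹ := by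
      apply e.injective
      rw [h1, map_mul, map_mul, map_inv, e.apply_symm_apply, e.apply_symm_apply]
    exact congrArg Subtype.val h3
  calc ((e.symm g : K) : G)⁻¹ * x * a * (((e.symm g : K) : G)⁻¹ * x)⁻¹
      = ((e.symm g : K) : G)⁻¹ * (x * a * x⁻¹) * ((e.symm g : K) : G) := by group
    _ = (e.symm (Suzuki.fAut hF hn i (e a)) : G) := by rw [h2]; group

omit [Finite G] in
/-- The `(2 m + 1)`-th power of an element normalising an `Sz` acts as an inner automorphism. -/
theorem exists_inner_pow {n : ℕ} {K : Subgroup G} (hK : IsSz m n K) {x : G}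
    (hx : x ∈ Subgroup.normalizer (K : Set G)) :
    ∃ k ∈ K, k⁻¹ * x ^ (2 * m + 1) ∈ Subgroup.centralizer (K : Set G) := by
  obtain ⟨F, i1, i2, hF, hn, hd, ⟨e⟩⟩ := hK
  let ψ : Subgroup.normalizer (K : Set G) →* Cfsg.Out ↥(Cfsg.Sz F n) :=
    (QuotientGroup.mk' (Inn ↥(Cfsg.Sz F n))).comp ((MulAut.congr e).toMonoidHom.comp K.normalizerMonoidHom)
  have h7 : Nat.card (Cfsg.Out ↥(Cfsg.Sz F n)) = 2 * n + 1 := Suzuki.card_out hF hn
  have hone : ψ (⟨x, hx⟩ ^ (2 * m + 1)) = 1 := by
    obtain ⟨c, hc⟩ := hd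
    rw [map_pow, hc, pow_mul, ← h7, pow_card_eq_one', one_pow]
  obtain ⟨s, hs⟩ := (QuotientGroup.eq_one_iff _).mp hone
  set y : Subgroup.normalizer (K : Set G) := ⟨x, hx⟩ ^ (2 * m + 1) with hy
  refine ⟨(e.symm s : K), (e.symm s).2, fun a ha => ?_⟩
  have key : K.normalizerMonoidHom y ⟨a, ha⟩ = e.symm s * ⟨a, ha⟩ * (e.symm s)⁻¹ := by
    apply e.injective
    rw [map_mul, map_mul, map_inv, e.apply_symm_apply]
    have := DFunLike.congr_fun hs (e ⟨a, ha⟩)
    simpa [MulAut.congr] using this.symm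
  have key' : (y : G) * a * (y : G)⁻¹ = (e.symm s : K) * a * ((e.symm s : K) : G)⁻¹ := congrArg Subtype.val key
  rw [show x ^ (2 * m + 1) = (y : G) by simp [hy]]
  show a * (((e.symm s : K) : G)⁻¹ * (y : G)) = ((e.symm s : K) : G)⁻¹ * (y : G) * a
  have := congrArg (fun z => ((e.symm s : K) : G)⁻¹ * z * (y : G)) key'
  simpa [mul_assoc] using this.symm

theorem exists_component (hR : solvableRadical G = ⊥) (hns : ¬ Group.IsSolvable G) :
    ∃ K : Subgroup G, IsComponent K := by
  by_contra hcon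
  push Not at hcon
  have hall : ∀ g : G, g = 1 := fun g => eq_one_of_commute_layer hR fun L hL => absurd hL (hcon L)
  exact hns (Group.isSolvable_of_comm fun a b => by rw [hall a, hall b])

/-- A single component is almost everything. -/
theorem one_component (h : Orders m G) (hR : solvableRadical G = ⊥) {K : Subgroup G} (hK : IsComponent K)
    (hone : ∀ L : Subgroup G, IsComponent L → L = K) :
    (∃ n, IsSz m n K) ∧ K.Normal ∧ ∀ x : G, x ^ (2 * m + 1) ∈ K := by
  obtain ⟨n, hn⟩ := component_model h hR hK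
  have hN : ∀ x : G, x ∈ Subgroup.normalizer (K : Set G) := fun x =>
    mem_normalizer_of_map (hone _ (conj_component hK x))
  refine ⟨⟨n, hn⟩, ⟨fun a ha x => (Subgroup.mem_normalizer_iff.mp (hN x) a).mp ha⟩, fun x => ?_⟩
  obtain ⟨k, hk, hc⟩ := exists_inner_pow hn (hN x)
  have h1 : k⁻¹ * x ^ (2 * m + 1) = 1 := eq_one_of_commute_layer hR fun L hL a ha => by
    obtain rfl := hone L hL
    exact hc a ha
  rwa [inv_mul_eq_one.mp h1] at hk

/-- The data of two components. -/
structure Pair (G : Type u) [Group G] (K L : Subgroup G) : Prop where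
  compK : IsComponent K
  compL : IsComponent L
  ne : L ≠ K
  two : ∀ M : Subgroup G, IsComponent M → M = K ∨ M = L

/-- At most two components. -/
theorem exists_pair (h : Orders m G) (hR : solvableRadical G = ⊥) {K : Subgroup G} (hK : IsComponent K)
    (hmore : ¬ ∀ L : Subgroup G, IsComponent L → L = K) : ∃ L : Subgroup G, Pair G K L := by
  push Not at hmore
  obtain ⟨L, hL, hLK⟩ := hmore
  refine ⟨L, hK, hL, hLK, fun M hM => ?_⟩
  by_contra hcon
  push Not at hcon
  obtain ⟨n₁, F₁, _, _, hF₁, hn₁, -, ⟨eK⟩⟩ := component_model h hR hK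
  obtain ⟨n₂, F₂, _, _, hF₂, hn₂, -, ⟨eL⟩⟩ := component_model h hR hL
  obtain ⟨n₃, F₃, _, _, hF₃, hn₃, -, ⟨eM⟩⟩ := component_model h hR hM
  obtain ⟨a, ha, -⟩ := fixed_two hF₁ hn₁
  obtain ⟨b, hb, -⟩ := fixed_five hF₂ hn₂
  obtain ⟨l, U, t, -, -, -, hl, hld, -, -, hto, -⟩ :=
    (shape_model hF₃ hn₃ ((h.subgroup M).of_surjective eM.toMonoidHom eM.surjective)).torus
  refine h.triple (a := ((eK.symm a : K) : G)) (b := ((eL.symm b : L) : G)) (c := ((eM.symm t : M) : G))
    (r := 2) (s := 5) (t := l) Nat.prime_two (by norm_num) hl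
    (by rw [Subgroup.orderOf_coe, MulEquiv.orderOf_eq, ha]) (by rw [Subgroup.orderOf_coe, MulEquiv.orderOf_eq, hb])
    (by rw [Subgroup.orderOf_coe, MulEquiv.orderOf_eq, hto])
    (commute_of_ne hK hL hLK.symm (eK.symm a).2 (eL.symm b).2)
    (commute_of_ne hK hM hcon.1.symm (eK.symm a).2 (eM.symm t).2)
    (commute_of_ne hL hM hcon.2.symm (eL.symm b).2 (eM.symm t).2) ?_ ?_ ?_
  · rw [cls_two]; exact (cls_five m).1.symm
  · rw [cls_two]; exact (cls_ne_zero (ne_two (Or.inl hld))).symm
  · rw [cls_one hld]; exact (cls_five m).2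

namespace Pair

variable {K L : Subgroup G} (P : Pair G K L)
include P

theorem comm : ∀ a ∈ K, ∀ b ∈ L, Commute a b := fun _ ha _ hb => commute_of_ne P.compK P.compL P.ne.symm ha hb

theorem disjoint (hR : solvableRadical G = ⊥) {a : G} (ha : a ∈ K) (hb : a ∈ L) : a = 1 := by
  have hc : (⟨a, ha⟩ : K) ∈ Subgroup.center K :=
    Subgroup.mem_center_iff.mpr fun z => Subtype.ext (P.comm z z.2 a hb).eq
  rw [center_eq_bot hR P.compK] at hc
  exact congrArg Subtype.val (Subgroup.mem_bot.mp hc)

/-- The product of the two components. -/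
def prod : Subgroup G :=
  (MonoidHom.noncommCoprod K.subtype L.subtype fun a b => P.comm a a.2 b b.2).range

theorem mem_prod {x : G} : x ∈ P.prod ↔ ∃ k ∈ K, ∃ l ∈ L, x = k * l := by
  constructor
  · rintro ⟨⟨a, b⟩, rfl⟩
    exact ⟨a, a.2, b, b.2, rfl⟩
  · rintro ⟨k, hk, l, hl, rfl⟩
    exact ⟨(⟨k, hk⟩, ⟨l, hl⟩), rfl⟩

theorem equiv (hR : solvableRadical G = ⊥) : Nonempty (↥P.prod ≃* K × L) := by
  let φ : K × L →* G := MonoidHom.noncommCoprod K.subtype L.subtype fun a b => P.comm a a.2 b b.2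
  have hinj : Function.Injective φ := (injective_iff_map_eq_one φ).mpr fun p hp => by
    have hp' : (p.1 : G) * (p.2 : G) = 1 := hp
    have h1 : (p.1 : G) = 1 := P.disjoint hR p.1.2 (by rw [eq_inv_of_mul_eq_one_left hp']; exact inv_mem p.2.2)
    have h2 : (p.2 : G) = 1 := by rwa [h1, one_mul] at hp'
    exact Prod.ext (Subtype.ext h1) (Subtype.ext h2)
  exact ⟨(MonoidHom.ofInjective hinj).symm⟩

theorem normalizer_other {x : G} (hx : K.map (MulAut.conj x).toMonoidHom = K) :
    L.map (MulAut.conj x).toMonoidHom = L :=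
  (P.two _ (conj_component P.compL x)).resolve_left fun e =>
    P.ne (Subgroup.map_injective (MulAut.conj x).injective (e.trans hx.symm))

theorem pow_mem_prod (hR : solvableRadical G = ⊥) (h : Orders m G) {x : G}
    (hx : K.map (MulAut.conj x).toMonoidHom = K) : x ^ (2 * m + 1) ∈ P.prod := by
  obtain ⟨n₁, h₁⟩ := component_model h hR P.compK
  obtain ⟨n₂, h₂⟩ := component_model h hR P.compL
  obtain ⟨k, hk, hkc⟩ := exists_inner_pow h₁ (mem_normalizer_of_map hx)
  obtain ⟨l, hl, hlc⟩ := exists_inner_pow h₂ (mem_normalizer_of_map (P.normalizer_other hx))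
  refine P.mem_prod.mpr ⟨k, hk, l, hl, ?_⟩
  have h1 : (k * l)⁻¹ * x ^ (2 * m + 1) = 1 := eq_one_of_commute_layer hR fun M hM a ha => by
    rcases P.two M hM with rfl | rfl
    · rw [show (k * l)⁻¹ * x ^ (2 * m + 1) = l⁻¹ * (k⁻¹ * x ^ (2 * m + 1)) by group]
      exact ((P.comm a ha l hl).inv_right).mul_right (hkc a ha)
    · rw [(P.comm k hk l hl).eq, show (l * k)⁻¹ * x ^ (2 * m + 1) = k⁻¹ * (l⁻¹ * x ^ (2 * m + 1)) by group]
      exact ((P.comm k hk a ha).symm.inv_right).mul_right (hlc a ha)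
  exact (inv_mul_eq_one.mp h1).symm

theorem sq_fix (x : G) : K.map (MulAut.conj (x * x)).toMonoidHom = K := by
  rw [map_conj_mul]
  rcases P.two _ (conj_component P.compK x) with e | e
  · rw [e, e]
  · rw [e]
    refine (P.two _ (conj_component P.compL x)).resolve_right fun e2 => P.ne ?_
    exact Subgroup.map_injective (MulAut.conj x).injective (e2.trans e.symm)

theorem pow_two_mem_prod (hR : solvableRadical G = ⊥) (h : Orders m G) (x : G) :
    x ^ (2 * (2 * m + 1)) ∈ P.prod := by
  rw [pow_mul, pow_two]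
  exact P.pow_mem_prod hR h (P.sq_fix x)

end Pair

end CfsgLib.SzPairGen
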