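import Cfsg.Agent.Lib.SzPairGen.Single

/-!
Solvable extensions of a product of two Suzuki groups.
-/

set_option autoImplicit false
set_option maxHeartbeats 1000000
set_option linter.style.haveILetI false
set_option linter.unusedSectionVars false

namespace CfsgLib.SzPairGen

open scoped commutatorElement

universe u v w

/-- The torus of a group of full level. -/
def Full (m : ℕ) (S : Type v) [Group S] : Prop :=
  ∀ p : ℕ, p.Prime → p ∣ tor1 m → ∃ (U : Subgroup S) (t q : S) (a : ℕ), IsPGroup 2 U ∧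
    t ∈ Subgroup.normalizer (U : Set S) ∧ 1 ≤ a ∧ orderOf t = p ^ a ∧ ¬ p ^ (a + 1) ∣ tor1 m ∧ q ∈ U ∧
    ⁅t ^ p ^ (a - 1), q⁆ ≠ 1

variable {m : ℕ} {X : Type u} [Group X] [Finite X] {S : Type v} [Group S] {T : Type w} [Group T]

/-- A layer for a prime of `q - 1` is centralised over a group of full level. -/
theorem covers_torus (h : Orders m X) (hS : Shape m S) (hfull : Full m S) (f : X →* S) (hf : Function.Surjective f)
    (W : Subgroup X) [W.Normal] (hab : ∀ a ∈ W, ∀ b ∈ W, a * b = b * a) {p : ℕ} (hp : p.Prime) (hpd : p ∣ tor1 m)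
    (hexp : ∀ a ∈ W, a ^ p = 1) : Covers f (Subgroup.centralizer (W : Set X)) := by
  haveI := Fact.mk hp
  haveI := Fact.mk Nat.prime_two
  by_contra hcov
  obtain ⟨U, tb, qb, a, hU, htb, ha, hto, hnd, hqb, hne⟩ := hfull p hp hpd
  obtain ⟨Q, x, hQ, hQf, hxQ, hfx, -, k, hk⟩ := exists_lift_normalizer f hf U hU hp (a := a) htb hto
  obtain ⟨c, hc, hfc⟩ := hQf qb hqb
  have hxa : x ^ p ^ a = 1 := by
    obtain ⟨j, -, hj⟩ := (Nat.dvd_prime_pow hp).mp (orderOf_dvd_of_pow_eq_one hk)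
    refine orderOf_dvd_iff_pow_eq_one.mp (hj ▸ Nat.pow_dvd_pow p ?_)
    by_contra hlt
    exact hnd (h.bound x p (a + 1) hp hpd (hj ▸ Nat.pow_dvd_pow p (by omega)))
  obtain ⟨w, -, hw⟩ := exists_long (p := p) (q := 2) (ne_two (Or.inl hpd)) W hab hexp Q hQ hxQ (n := a) ha hxa
    ⟨c, hc, not_mem_of_image hS hf hcov (by rw [map_commutatorElement, map_pow, hfx, hfc]; exact hne)⟩
    (fun j b _ hb e => by
      rcases Nat.eq_zero_or_pos j with rfl | hj
      · simp at e
      · exact not_tor_and_succ hp hpd (e ▸ dvd_pow_self p hj.ne'))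
  exact hnd (h.bound (w * x) p (a + 1) hp hpd (by rw [hw]))

theorem isPGroup_of_zpowers_two {z : X} (hz : z * z = 1) : IsPGroup 2 (Subgroup.zpowers z) := fun e => by
  obtain ⟨i, hi⟩ := Subgroup.mem_zpowers_iff.mp e.2
  refine ⟨1, Subtype.ext ?_⟩
  rw [Subgroup.coe_pow, ← hi, ← zpow_natCast, ← zpow_mul, mul_comm, zpow_mul, zpow_natCast, pow_one, pow_two, hz,
    one_zpow, Subgroup.coe_one]

/-- Both factors centralising a layer is impossible. -/
theorem both_covered (h : Orders m X) (hS : Shape m S) (hT : Shape m T) (f : X →* S × T) (hf : Function.Surjective f)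
    (L : Subgroup X) [L.Normal] {p : ℕ} (hp : p.Prime) (hexp : ∀ a ∈ L, a ^ p = 1) (hne : L ≠ ⊥)
    (c1 : Covers ((MonoidHom.fst S T).comp f) (Subgroup.centralizer (L : Set X)))
    (c2 : Covers ((MonoidHom.snd S T).comp f) (Subgroup.centralizer (L : Set X))) : False := by
  classical
  obtain ⟨v, hv, hv1⟩ := (Subgroup.bot_or_exists_ne_one L).resolve_left hne
  obtain ⟨a, r, hr, ha, hra, -⟩ := exists_third hS (cls m p) (cls m p)
  obtain ⟨b, s, hs, hb, hsb, hsr⟩ := exists_third hT (cls m p) (cls m r)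
  haveI : ((Subgroup.centralizer (L : Set X)).map f).Normal := Subgroup.Normal.map inferInstance f hf
  have ha1 : a ≠ 1 := fun e => hr.ne_one (by rw [← ha, e, orderOf_one])
  have hb1 : b ≠ 1 := fun e => hs.ne_one (by rw [← hb, e, orderOf_one])
  obtain ⟨c, hc, hfc⟩ := c1 a
  obtain ⟨d, hd, hfd⟩ := c2 b
  have hab' : ((a, b) : S × T) ∈ (Subgroup.centralizer (L : Set X)).map f := by
    have e1 := (factor_le hS hT _ (Subgroup.mem_map_of_mem f hc)).1
      (show (MonoidHom.fst S T).comp f c ≠ 1 by rw [hfc]; exact ha1) a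
    have e2 := (factor_le hS hT _ (Subgroup.mem_map_of_mem f hd)).2
      (show (MonoidHom.snd S T).comp f d ≠ 1 by rw [hfd]; exact hb1) b
    simpa using mul_mem e1 e2
  obtain ⟨g, hg, hfg⟩ := Subgroup.mem_map.mp hab'
  have hdvd : Nat.lcm r s ∣ orderOf g := by
    rw [← ha, ← hb, ← Prod.orderOf ((a, b) : S × T), ← hfg]; exact orderOf_map_dvd f g
  exact h.triple hp hr hs (orderOf_of_prime hp (hexp v hv) hv1).symm.dvd ((Nat.dvd_lcm_left r s).trans hdvd)
    ((Nat.dvd_lcm_right r s).trans hdvd) (Subgroup.mem_centralizer_iff.mp hg v hv)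
    (Subgroup.mem_centralizer_iff.mp hg v hv) (Commute.refl g) hra.symm hsb.symm hsr.symm

/-- A covering subgroup for both factors in which the `2`-elements of the kernel are central. -/
theorem exists_env_pair (h : Orders m X) (hS : Shape m S) (hT : Shape m T) (f : X →* S × T)
    (hf : Function.Surjective f) :
    ∃ Y : Subgroup X, (∀ s : S × T, ∃ y ∈ Y, f y = s) ∧
      ∀ c ∈ Y, f c = 1 → ∀ k : ℕ, c ^ 2 ^ k = 1 → ∀ y ∈ Y, Commute c y := by
  haveI := Fact.mk Nat.prime_two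
  obtain ⟨P⟩ : Nonempty (Sylow 2 f.ker) := inferInstance
  set P₁ := (P : Subgroup f.ker).map f.ker.subtype with hP₁
  set N := Subgroup.normalizer (P₁ : Set X) with hN
  have hcN : ∀ s : S × T, ∃ n ∈ N, f n = s := fun s => by
    obtain ⟨c, hc⟩ := hf s
    have hmem : c ∈ N ⊔ f.ker := by rw [hN, hP₁, Sylow.normalizer_sup_eq_top P]; exact Subgroup.mem_top c
    obtain ⟨n, hn, k, hk, rfl⟩ := Subgroup.mem_sup_of_normal_right.mp hmem
    refine ⟨n, hn, ?_⟩
    rw [map_mul, MonoidHom.mem_ker.mp hk, mul_one] at hc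
    exact hc
  haveI : (P₁.subgroupOf N).Normal := Subgroup.normal_in_normalizer
  have hfN : Function.Surjective (f.comp N.subtype) := fun s => by
    obtain ⟨n, hn, hns⟩ := hcN s
    exact ⟨⟨n, hn⟩, hns⟩
  have hPk : ∀ a : N, a ∈ P₁.subgroupOf N → f (a : X) = 1 := fun a ha => MonoidHom.mem_ker.mp
    (Subgroup.map_subtype_le (P : Subgroup f.ker) (Subgroup.mem_subgroupOf.mp ha) : (a : X) ∈ f.ker)
  have c1 := covers_two_group hS _ N (h.subgroup N) (((MonoidHom.fst S T).comp f).comp N.subtype)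
    (fun s => by obtain ⟨n, hn⟩ := hfN (s, 1); exact ⟨n, congrArg Prod.fst hn⟩) (P₁.subgroupOf N)
    ((P.2.map _).comap_of_injective N.subtype N.subtype_injective)
    (fun a ha => show (f (a : X)).1 = 1 by rw [hPk a ha]; rfl) le_rfl
  have c2 := covers_two_group hT _ N (h.subgroup N) (((MonoidHom.snd S T).comp f).comp N.subtype)
    (fun s => by obtain ⟨n, hn⟩ := hfN (1, s); exact ⟨n, congrArg Prod.snd hn⟩) (P₁.subgroupOf N)
    ((P.2.map _).comap_of_injective N.subtype N.subtype_injective)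
    (fun a ha => show (f (a : X)).2 = 1 by rw [hPk a ha]; rfl) le_rfl
  haveI : ((Subgroup.centralizer ((P₁.subgroupOf N : Subgroup N) : Set N)).map (f.comp N.subtype)).Normal :=
    Subgroup.Normal.map inferInstance _ hfN
  refine ⟨Subgroup.centralizer (P₁ : Set X), fun s => ?_, fun c hc hfc k hk y hy => env_central P hc hfc hk hy⟩
  obtain ⟨a₀, b₀, hab⟩ := hS.nonab
  obtain ⟨a₁, b₁, hab₁⟩ := hT.nonab
  have e1 : ∀ a : S, ((a, 1) : S × T) ∈
      (Subgroup.centralizer ((P₁.subgroupOf N : Subgroup N) : Set N)).map (f.comp N.subtype) := by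
    obtain ⟨d, hd, hd1⟩ := c1 a₀
    exact (factor_le hS hT _ (Subgroup.mem_map_of_mem _ hd)).1 (fun e => hab (by
      have : a₀ = 1 := hd1.symm.trans e
      rw [this, one_mul, mul_one]))
  have e2 : ∀ b : T, ((1, b) : S × T) ∈
      (Subgroup.centralizer ((P₁.subgroupOf N : Subgroup N) : Set N)).map (f.comp N.subtype) := by
    obtain ⟨d, hd, hd1⟩ := c2 a₁
    exact (factor_le hS hT _ (Subgroup.mem_map_of_mem _ hd)).2 (fun e => hab₁ (by
      have : a₁ = 1 := hd1.symm.trans e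
      rw [this, one_mul, mul_one]))
  obtain ⟨d, hd, hds⟩ := Subgroup.mem_map.mp (mul_mem (e1 s.1) (e2 s.2))
  refine ⟨(d : X), Subgroup.mem_centralizer_iff.mpr fun w hw => ?_, hds.trans (by ext <;> simp)⟩
  exact congrArg Subtype.val
    (Subgroup.mem_centralizer_iff.mp hd ⟨w, Subgroup.le_normalizer hw⟩ (Subgroup.mem_subgroupOf.mpr hw))

/-- An odd layer not centralised by the second factor. -/
theorem layer_step (h : Orders m X) (hS : Shape m S) (hT : Shape m T) (f : X →* S × T) (hf : Function.Surjective f)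
    (hK : Group.IsSolvable f.ker) (L : Subgroup X) [L.Normal] (hab : ∀ a ∈ L, ∀ b ∈ L, a * b = b * a) {p : ℕ}
    (hp : p.Prime) (hp2 : p ≠ 2) (hexp : ∀ a ∈ L, a ^ p = 1) (hLK : L ≤ f.ker)
    (hcase : cls m p ≠ 1 ∨ Full m S)
    (hncov : ¬ ∀ b : T, ∃ x ∈ Subgroup.centralizer (L : Set X), (f x).1 = 1 ∧ (f x).2 = b) : False := by
  classical
  haveI := Fact.mk Nat.prime_two
  obtain ⟨Y, hY, hcen⟩ := exists_env_pair h hS hT f hf
  let f₁ : X →* S := (MonoidHom.fst S T).comp f
  let f₂ : X →* T := (MonoidHom.snd S T).comp f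
  -- an involution of the second factor with a fixed point
  set Y₂ := Y ⊓ f₁.ker with hY₂
  have hg₂ : Function.Surjective (f₂.comp Y₂.subtype) := fun b => by
    obtain ⟨y, hy, hfy⟩ := hY (1, b)
    exact ⟨⟨y, Subgroup.mem_inf.mpr ⟨hy, show (f y).1 = 1 by rw [hfy]⟩⟩, show (f y).2 = b by rw [hfy]⟩
  obtain ⟨z₀, hzz₀, hfz₀⟩ := exists_invol (h.subgroup Y₂) hT _ hg₂
  set z : X := (z₀ : X) with hz
  obtain ⟨hzY, hzK⟩ := Subgroup.mem_inf.mp z₀.2
  have hzz : z * z = 1 := congrArg Subtype.val hzz₀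
  have hz1 : (f z).1 = 1 := hzK
  have hz2 : (f z).2 ≠ 1 := hfz₀
  set X₂ := f₁.ker with hX₂
  have hf₂ : Function.Surjective (f₂.comp X₂.subtype) := fun b => by
    obtain ⟨y, hfy⟩ := hf (1, b)
    exact ⟨⟨y, show (f y).1 = 1 by rw [hfy]⟩, show (f y).2 = b by rw [hfy]⟩
  have hLX₂ : L ≤ X₂ := fun a ha => show (f a).1 = 1 by rw [MonoidHom.mem_ker.mp (hLK ha)]; rfl
  obtain ⟨v, hv, hv1, hzv⟩ : ∃ v ∈ L, v ≠ 1 ∧ Commute z v := by
    obtain ⟨v, hv, hv1, hzv⟩ := exists_fixed_invol hT (f₂.comp X₂.subtype) hf₂ (L.subgroupOf X₂)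
      (fun a ha b hb => Subtype.ext (hab _ ha _ hb)) (z := ⟨z, hzK⟩) (Subtype.ext hzz) hfz₀ (fun hc => hncov fun b => by
        obtain ⟨x, hx, hxb⟩ := hc b
        refine ⟨(x : X), Subgroup.mem_centralizer_iff.mpr fun a ha => ?_, x.2, hxb⟩
        exact congrArg Subtype.val (Subgroup.mem_centralizer_iff.mp hx ⟨a, hLX₂ ha⟩ ha))
    exact ⟨(v : X), hv, fun e => hv1 (Subtype.ext e), congrArg Subtype.val hzv⟩
  -- the centraliser of `z` over the first factor
  set B : Subgroup X := (Subgroup.zpowers (f₂ z)).comap f₂ with hB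
  have hzB : z ∈ B := Subgroup.mem_zpowers (f₂ z)
  set Y' := Y ⊓ B with hY'
  have hzY' : z ∈ Y' := Subgroup.mem_inf.mpr ⟨hzY, hzB⟩
  let g₁ : Y' →* S := f₁.comp Y'.subtype
  have hg₁ : Function.Surjective g₁ := fun a => by
    obtain ⟨y, hy, hfy⟩ := hY (a, 1)
    refine ⟨⟨y, Subgroup.mem_inf.mpr ⟨hy, ?_⟩⟩, show (f y).1 = a by rw [hfy]⟩
    show f₂ y ∈ Subgroup.zpowers (f₂ z)
    rw [show f₂ y = (f y).2 from rfl, hfy]
    exact one_mem _
  set z' : Y' := ⟨z, hzY'⟩ with hz'
  have hz'K : z' ∈ g₁.ker := hzK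
  obtain ⟨Q, hQ⟩ := (isPGroup_of_zpowers_two (z := (⟨z', hz'K⟩ : g₁.ker)) (Subtype.ext (Subtype.ext hzz))).exists_le_sylow
  set Q₁ := (Q : Subgroup g₁.ker).map g₁.ker.subtype with hQ₁
  set N := Subgroup.normalizer (Q₁ : Set Y') with hN
  have hzQ : z' ∈ Q₁ := ⟨⟨z', hz'K⟩, hQ (Subgroup.mem_zpowers _), rfl⟩
  have hgN : Function.Surjective (g₁.comp N.subtype) := (covers_normalizer g₁ hg₁ le_rfl Q).surj
  have hcomm : ∀ n : N, ∀ y ∈ Y, Commute ((⁅(n : Y'), z'⁆ : Y') : X) y := by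
    intro n y hy
    have hm : ⁅(n : Y'), z'⁆ ∈ Q₁ := by
      rw [commutatorElement_def]
      exact mul_mem ((Subgroup.mem_normalizer_iff.mp n.2 z').mp hzQ) (inv_mem hzQ)
    obtain ⟨k, hk⟩ := (Q.2.map g₁.ker.subtype) ⟨_, hm⟩
    refine hcen _ (Subgroup.mem_inf.mp (⁅(n : Y'), z'⁆ : Y').2).1 ?_ k
      (by simpa using congrArg (fun w : Q₁ => ((w : Y') : X)) hk) y hy
    have hc2 : Commute (f₂ ((n : Y') : X)) (f₂ z) := by
      obtain ⟨i, hi⟩ := Subgroup.mem_zpowers_iff.mp (Subgroup.mem_inf.mp (n : Y').2).2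
      rw [← hi]
      exact (Commute.refl _).zpow_left i
    show f ⁅((n : Y') : X), z⁆ = 1
    rw [map_commutatorElement]
    ext
    · show ⁅(f ((n : Y') : X)).1, (f z).1⁆ = 1
      rw [hz1, commutatorElement_one_right]
    · show ⁅f₂ ((n : Y') : X), f₂ z⁆ = 1
      exact commutatorElement_eq_one_iff_commute.mpr hc2
  let φ : N →* Y' :=
    { toFun := fun n => ⁅(n : Y'), z'⁆
      map_one' := by simp
      map_mul' := fun a b => by
        have hc : ∀ y : Y', Commute ⁅(b : Y'), z'⁆ y := fun y =>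
          Subtype.ext (hcomm b (y : X) (Subgroup.mem_inf.mp y.2).1).eq
        show ⁅((a : Y') * b), z'⁆ = ⁅(a : Y'), z'⁆ * ⁅(b : Y'), z'⁆
        calc ⁅((a : Y') * b), z'⁆ = (a : Y') * ⁅(b : Y'), z'⁆ * (a : Y')⁻¹ * ⁅(a : Y'), z'⁆ := by
              simp only [commutatorElement_def]; group
          _ = ⁅(a : Y'), z'⁆ * ⁅(b : Y'), z'⁆ := by rw [← (hc a).eq, mul_inv_cancel_right, (hc _).eq] }
  set C : Subgroup X := Subgroup.centralizer ({z} : Set X) ⊓ B with hC
  have hCcov : Covers f₁ C := by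
    rcases covers_or_le hS _ hgN φ.ker with hc | hc
    · intro a
      obtain ⟨n, hn, hna⟩ := hc a
      refine ⟨((n : Y') : X), Subgroup.mem_inf.mpr ⟨Subgroup.mem_centralizer_singleton_iff.mpr ?_,
        (Subgroup.mem_inf.mp (n : Y').2).2⟩, hna⟩
      exact congrArg Subtype.val (commutatorElement_eq_one_iff_mul_comm.mp (MonoidHom.mem_ker.mp hn))
    · exfalso
      obtain ⟨a, b, hne⟩ := hS.nonab
      obtain ⟨a', rfl⟩ := hgN a
      obtain ⟨b', rfl⟩ := hgN b
      refine hne (commutatorElement_eq_one_iff_mul_comm.mp ?_)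
      rw [← map_commutatorElement]
      refine MonoidHom.mem_ker.mp (hc (MonoidHom.mem_ker.mpr ?_))
      rw [map_commutatorElement]
      exact commutatorElement_eq_one_iff_commute.mpr
        (Subtype.ext (hcomm a' ((φ b' : Y') : X) (Subgroup.mem_inf.mp (φ b' : Y').2).1).eq)
  set g : C →* S := f₁.comp C.subtype
  have hg : Function.Surjective g := hCcov.surj
  have hvC : v ∈ C := Subgroup.mem_inf.mpr ⟨Subgroup.mem_centralizer_singleton_iff.mpr hzv.symm.eq,
    show f₂ v ∈ Subgroup.zpowers (f₂ z) by rw [show f₂ v = (f v).2 from rfl, MonoidHom.mem_ker.mp (hLK hv)]; exact one_mem _⟩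
  set W := L.subgroupOf C with hW
  have hWab : ∀ a ∈ W, ∀ b ∈ W, a * b = b * a := fun a ha b hb => Subtype.ext (hab _ ha _ hb)
  have hWexp : ∀ a ∈ W, a ^ p = 1 := fun a ha => Subtype.ext (by rw [Subgroup.coe_pow]; exact hexp _ ha)
  have hzo : orderOf z = 2 := orderOf_of_prime Nat.prime_two (by rw [pow_two]; exact hzz) fun e => hz2 (by
    rw [e, map_one]; rfl)
  have hzC : ∀ c : C, Commute z (c : X) := fun c =>
    (Subgroup.mem_centralizer_singleton_iff.mp (Subgroup.mem_inf.mp c.2).1).symm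
  have fin : ∀ (x : C) (w : C) (d : ℕ), d.Prime → d ∣ orderOf x → w ∈ W → w ≠ 1 → Commute x w →
      cls m d ≠ 0 → cls m d ≠ cls m p → False := by
    intro x w d hd hdx hw hw1 hxw h0 hne
    refine h.triple Nat.prime_two hd hp hzo.symm.dvd (b := (x : X)) (c := (w : X)) (by rwa [Subgroup.orderOf_coe]) ?_
      (hzC x) (hzC w) (congrArg Subtype.val hxw) (by rw [cls_two]; exact h0.symm)
      (by rw [cls_two]; exact (cls_ne_zero hp2).symm) hne
    rw [Subgroup.orderOf_coe, orderOf_of_prime hp (hWexp w hw) hw1]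
  by_cases hcov : Covers g (Subgroup.centralizer (W : Set C))
  · obtain ⟨x, d, hx, hd, hdx, h1, h2⟩ := exists_lift_third hS g hcov 0 (cls m p)
    exact fin x ⟨v, hvC⟩ d hd hdx hv (fun e => hv1 (congrArg Subtype.val e))
      (Subgroup.mem_centralizer_iff.mp hx ⟨v, hvC⟩ hv).symm h1 h2
  by_cases hc1 : cls m p = 1
  · exact hcov (covers_torus (h.subgroup C) hS (hcase.resolve_left fun e => e hc1) g hg W hWab hp (cls_eq_one hc1) hWexp)
  -- the kernel has no prime of `q - 1`
  have hker : ∀ r : ℕ, r.Prime → r ∣ tor1 m → ¬ r ∣ Nat.card g.ker := by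
    intro r hr hrd hdd
    have hsol : Group.IsSolvable g.ker := by
      let φ' : g.ker →* Subgroup.zpowers (f₂ z) :=
        (f₂.comp (C.subtype.comp g.ker.subtype)).codRestrict _ fun x => (Subgroup.mem_inf.mp (x : C).2).2
      haveI : Group.IsSolvable (Subgroup.zpowers (f₂ z)) :=
        Group.isSolvable_of_comm fun a b => by
          obtain ⟨i, hi⟩ := Subgroup.mem_zpowers_iff.mp a.2
          obtain ⟨j, hj⟩ := Subgroup.mem_zpowers_iff.mp b.2
          refine Subtype.ext ?_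
          show (a : T) * b = b * a
          rw [← hi, ← hj]
          exact ((Commute.refl _).zpow_zpow i j).eq
      haveI := hK
      haveI : Group.IsSolvable φ'.ker := Group.isSolvable_of_isSolvable_injective
        (f := (C.subtype.comp (g.ker.subtype.comp φ'.ker.subtype)).codRestrict f.ker fun x => by
          rw [MonoidHom.mem_ker]
          ext
          · exact (x : g.ker).2
          · exact congrArg Subtype.val x.2)
        fun a b e => Subtype.ext (Subtype.ext (Subtype.ext (congrArg (fun y : f.ker => (y : X)) e :)))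
      exact Group.isSolvable_of_ker_le_range φ'.ker.subtype φ' (by rw [Subgroup.range_subtype])
    refine no_mix hS g hg hsol
      (noMix_of_central (h.subgroup C) (y := ⟨z, Subgroup.mem_inf.mpr ⟨Subgroup.mem_centralizer_singleton_iff.mpr rfl,
        hzB⟩⟩) (by rw [Subgroup.orderOf_mk, hzo]) fun c => Subtype.ext (hzC c).eq)
      hr hp (ne_two (Or.inl hrd)) hp2 hdd ?_ (by rw [cls_one hrd]; exact (fun e => hc1 e.symm))
    have hm : (⟨v, hvC⟩ : C) ∈ g.ker := show (f v).1 = 1 by rw [MonoidHom.mem_ker.mp (hLK hv)]; rfl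
    have := Subgroup.orderOf_dvd_natCard _ hm
    rwa [Subgroup.orderOf_mk, orderOf_of_prime hp (hexp v hv) hv1] at this
  obtain ⟨x, hxp, hxd, w, hw, hw1, hxw⟩ := exists_fixed_tor (h.subgroup C) hS g hg W hWab hp hp2 hWexp hcov hker
  exact fin x w _ hxp dvd_rfl hw hw1 hxw (by rw [cls_one hxd]; omega) (by rw [cls_one hxd]; exact (fun e => hc1 e.symm))

/-- Coverage of a factor read in the first-kernel. -/
theorem covers_of_factor (f : X →* S × T) (C : Subgroup X)
    (hc : ∀ b : T, ∃ x ∈ C, (f x).1 = 1 ∧ (f x).2 = b) : Covers ((MonoidHom.snd S T).comp f) C := fun b => by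
  obtain ⟨x, hx, -, hxb⟩ := hc b
  exact ⟨x, hx, hxb⟩

/-- No layer outside the class of `q - 1`. -/
theorem double_layer (h : Orders m X) (hS : Shape m S) (hT : Shape m T) (f : X →* S × T) (hf : Function.Surjective f)
    (hK : Group.IsSolvable f.ker) (L : Subgroup X) [L.Normal] (hab : ∀ a ∈ L, ∀ b ∈ L, a * b = b * a) {p : ℕ}
    (hp : p.Prime) (hexp : ∀ a ∈ L, a ^ p = 1) (hne : L ≠ ⊥) (hLK : L ≤ f.ker) (hc1 : cls m p ≠ 1) : False := by
  classical
  by_cases hp2 : p = 2
  · subst hp2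
    exact both_covered h hS hT f hf L hp hexp hne (covers_two h hS _ (Prod.fst_surjective.comp hf) L hab hexp)
      (covers_two h hT _ (Prod.snd_surjective.comp hf) L hab hexp)
  by_cases h2 : ∀ b : T, ∃ x ∈ Subgroup.centralizer (L : Set X), (f x).1 = 1 ∧ (f x).2 = b
  swap
  · exact layer_step h hS hT f hf hK L hab hp hp2 hexp hLK (Or.inl hc1) h2
  let f' : X →* T × S := (MulEquiv.prodComm (M := S) (N := T)).toMonoidHom.comp f
  have hker : f'.ker = f.ker := by ext x; simp [f']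
  by_cases h1 : ∀ a : S, ∃ x ∈ Subgroup.centralizer (L : Set X), (f' x).1 = 1 ∧ (f' x).2 = a
  swap
  · exact layer_step h hT hS f' ((MulEquiv.prodComm (M := S) (N := T)).surjective.comp hf) (by rw [hker]; exact hK) L
      hab hp hp2 hexp (hker ▸ hLK) (Or.inl hc1) h1
  exact both_covered h hS hT f hf L hp hexp hne (fun a => by
    obtain ⟨x, hx, -, hxa⟩ := h1 a
    exact ⟨x, hx, hxa⟩) (covers_of_factor f _ h2)

/-- The solvable kernel only has primes of `q - 1`. -/
theorem double_cls (h : Orders m X) (hS : Shape m S) (hT : Shape m T) (f : X →* S × T) (hf : Function.Surjective f)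
    (hK : Group.IsSolvable f.ker) {t : ℕ} (ht : t.Prime) (htd : t ∣ Nat.card f.ker) : cls m t = 1 := by
  classical
  obtain ⟨A, ⟨hAn, hAK, hAc⟩, hAmax⟩ := (Set.toFinite {A : Subgroup X | A.Normal ∧ A ≤ f.ker ∧
      ∀ r : ℕ, r.Prime → r ∣ Nat.card A → cls m r = 1}).exists_maximal ⟨⊥, inferInstance, bot_le, fun r hr hd => by
    rw [Subgroup.card_bot, Nat.dvd_one] at hd
    exact absurd hd hr.ne_one⟩
  by_cases hA : A = f.ker
  · exact hAc t ht (hA ▸ htd)
  exfalso
  obtain ⟨M, p, hMn, hAM, hMK, hp, hexp, hcom, -⟩ := exists_chief hK (lt_of_le_of_ne hAK hA)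
  have hpc : cls m p ≠ 1 := fun e => by
    refine hAM.not_ge (hAmax ⟨hMn, hMK, fun r hr hrd => ?_⟩ hAM.le)
    haveI := Fact.mk hr
    obtain ⟨x, hx⟩ := exists_prime_orderOf_dvd_card' (G := M) r hrd
    by_cases hxA : (x : X) ∈ A
    · exact hAc r hr (by rw [← hx, ← Subgroup.orderOf_coe]; exact Subgroup.orderOf_dvd_natCard A hxA)
    · by_contra hrc
      have hcop : p.Coprime r := (Nat.coprime_primes hp hr).mpr fun e2 => hrc (by rw [← e2, e])
      obtain ⟨j, hj⟩ := exists_pow_eq_self_of_coprime (x := (x : X)) (n := p)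
        (by rw [Subgroup.orderOf_coe, hx]; exact hcop)
      exact hxA (hj ▸ pow_mem (hexp _ x.2) j)
  let π := QuotientGroup.mk' A
  haveI : (M.map π).Normal := Subgroup.Normal.map hMn π (QuotientGroup.mk'_surjective A)
  let f' : X ⧸ A →* S × T := QuotientGroup.lift A f hAK
  have hker : f'.ker = f.ker.map π := QuotientGroup.ker_lift A f hAK
  refine double_layer (h.quotient A) hS hT f' (QuotientGroup.lift_surjective_of_surjective A f hf hAK) ?_ (M.map π)
    ?_ hp ?_ ?_ (hker ▸ Subgroup.map_mono hMK) hpc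
  · haveI := hK
    rw [hker]
    exact Group.isSolvable_of_surjective (f := π.subgroupMap f.ker) (π.subgroupMap_surjective f.ker)
  · rintro _ ⟨x, hx, rfl⟩ _ ⟨y, hy, rfl⟩
    rw [← commutatorElement_eq_one_iff_mul_comm, ← map_commutatorElement]
    exact (QuotientGroup.eq_one_iff _).mpr (hcom x hx y hy)
  · rintro _ ⟨x, hx, rfl⟩
    rw [← map_pow]
    exact (QuotientGroup.eq_one_iff _).mpr (hexp x hx)
  · rw [Ne, Subgroup.map_eq_bot_iff, QuotientGroup.ker_mk']
    exact fun e => hAM.not_ge e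

/-- With one factor of full level there is no solvable kernel. -/
theorem double_eq_bot (h : Orders m X) (hS : Shape m S) (hT : Shape m T) (hfull : Full m S) (f : X →* S × T)
    (hf : Function.Surjective f) (hK : Group.IsSolvable f.ker) : f.ker = ⊥ := by
  classical
  by_contra hne
  obtain ⟨L, p, hLn, hLne, hLK, hp, hlexp, hlcom, -⟩ := exists_chief hK (bot_lt_iff_ne_bot.mpr hne)
  have hexp : ∀ a ∈ L, a ^ p = 1 := fun a ha => Subgroup.mem_bot.mp (hlexp a ha)
  have hab : ∀ a ∈ L, ∀ b ∈ L, a * b = b * a := fun a ha b hb =>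
    commutatorElement_eq_one_iff_mul_comm.mp (Subgroup.mem_bot.mp (hlcom a ha b hb))
  obtain ⟨v, hv, hv1⟩ := (Subgroup.bot_or_exists_ne_one L).resolve_left hLne.ne'
  have hc1 : cls m p = 1 := double_cls h hS hT f hf hK hp (by
    rw [← orderOf_of_prime hp (hexp v hv) hv1]; exact Subgroup.orderOf_dvd_natCard _ (hLK hv))
  have hpd := cls_eq_one hc1
  by_cases h2 : ∀ b : T, ∃ x ∈ Subgroup.centralizer (L : Set X), (f x).1 = 1 ∧ (f x).2 = b
  swap
  · exact layer_step h hS hT f hf hK L hab hp (ne_two (Or.inl hpd)) hexp hLK (Or.inr hfull) h2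
  exact both_covered h hS hT f hf L hp hexp hLne.ne'
    (covers_torus h hS hfull _ (Prod.fst_surjective.comp hf) L hab hp hpd hexp) (covers_of_factor f _ h2)

end CfsgLib.SzPairGen
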