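import Cfsg.Agent.Lib.SzPairGen.Tools

/-!
Layers of the kernel of a map onto a Suzuki group.
-/

set_option autoImplicit false
set_option maxHeartbeats 1000000
set_option linter.style.haveILetI false
set_option linter.unusedSectionVars false

namespace CfsgLib.SzPairGen

open scoped commutatorElement

universe u v

variable {m : ℕ} {X : Type u} [Group X] [Finite X] {S : Type v} [Group S]

/-- An elementary abelian normal `2`-subgroup is centralised over `S`. -/
theorem covers_two (h : Orders m X) (hS : Shape m S) (f : X →* S) (hf : Function.Surjective f) (W : Subgroup X)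
    [W.Normal] (hab : ∀ a ∈ W, ∀ b ∈ W, a * b = b * a) (hexp : ∀ a ∈ W, a ^ 2 = 1) :
    Covers f (Subgroup.centralizer (W : Set X)) := by
  by_contra hcov
  obtain ⟨r, Qb, ub, qb, hr, hr5, hQb, hub, huo, hqb, hne⟩ := hS.four
  haveI := Fact.mk hr
  obtain ⟨Q, x, hQ, hQf, hxQ, hfx, -, k, hk⟩ :=
    exists_lift_normalizer f hf Qb hQb Nat.prime_two (a := 2) hub (by rw [huo]; norm_num)
  obtain ⟨c, hc, hfc⟩ := hQf qb hqb
  obtain ⟨w, -, hw⟩ := exists_long (p := 2) (q := r) (by omega) W hab hexp Q hQ hxQ (n := 2) (by norm_num)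
    (by simpa using h.pow_four hk)
    ⟨c, hc, not_mem_of_image hS hf hcov (by
      rw [map_commutatorElement, map_pow, hfx, hfc]; simpa using hne)⟩
    (fun j b hj hb e => by
      have h1 : r ^ 1 ≤ r ^ b := Nat.pow_le_pow_right hr.pos hb
      have h2 : 2 ^ j ≤ 2 ^ 2 := Nat.pow_le_pow_right (by norm_num) hj
      rw [pow_one] at h1
      omega)
  exact h.no_eight (w * x) (by rw [hw]; norm_num)

/-- A normal `2`-subgroup of the kernel is centralised over `S`. -/
theorem covers_two_group {S : Type v} [Group S] (hS : Shape m S) : ∀ (n : ℕ) (X : Type u) [Group X] [Finite X],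
    Orders m X → ∀ (g : X →* S), Function.Surjective g → ∀ (P : Subgroup X) [P.Normal], IsPGroup 2 P → P ≤ g.ker →
      Nat.card P ≤ n → Covers g (Subgroup.centralizer (P : Set X)) := by
  haveI := Fact.mk Nat.prime_two
  intro n
  induction n with
  | zero => intro X _ _ _ g _ P _ _ _ hc; exact absurd hc (by have := Nat.card_pos (α := P); omega)
  | succ n ih =>
    intro X _ _ h g hg P _ hP hPk hc
    by_cases hbot : P = ⊥
    · intro s
      obtain ⟨x, hx⟩ := hg s
      exact ⟨x, Subgroup.mem_centralizer_iff.mpr (by simp [hbot]), hx⟩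
    set W := elemCenter P 2 with hW
    haveI := elemCenter_normal P 2
    set D := Subgroup.centralizer (W : Set X) with hD
    have hcov : Covers g D := covers_two h hS g hg W (elemCenter_comm P 2) fun a ha => ha.2.1
    have hPD : P ≤ D := fun a ha => Subgroup.mem_centralizer_iff.mpr fun w hw => hw.2.2 a ha
    haveI : (W.subgroupOf D).Normal := inferInstance
    have hWk : W.subgroupOf D ≤ (g.comp D.subtype).ker := fun a ha => hPk ha.1
    let g' : D ⧸ W.subgroupOf D →* S := QuotientGroup.lift _ (g.comp D.subtype) hWk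
    have hg' : Function.Surjective g' := fun s => by
      obtain ⟨d, hd, hds⟩ := hcov s
      exact ⟨QuotientGroup.mk ⟨d, hd⟩, hds⟩
    let π := QuotientGroup.mk' (W.subgroupOf D)
    let P' := (P.subgroupOf D).map π
    haveI : P'.Normal := Subgroup.Normal.map inferInstance π (QuotientGroup.mk'_surjective _)
    have hP'c : Nat.card P' ≤ n := by
      have hdv := Subgroup.card_dvd_of_surjective (π.subgroupMap (P.subgroupOf D)) (π.subgroupMap_surjective _)
      have hlt : Nat.card P' < Nat.card P := by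
        rw [Nat.card_congr (Subgroup.subgroupOfEquivOfLe hPD).toEquiv] at hdv
        refine lt_of_le_of_ne (Nat.le_of_dvd Nat.card_pos hdv) fun e => ?_
        have hbij := (Nat.bijective_iff_surjective_and_card (π.subgroupMap (P.subgroupOf D))).mpr
          ⟨π.subgroupMap_surjective _, by rw [Nat.card_congr (Subgroup.subgroupOfEquivOfLe hPD).toEquiv]; exact e.symm⟩
        obtain ⟨a, ha, ha1⟩ := (Subgroup.bot_or_exists_ne_one W).resolve_left (elemCenter_ne_bot hP hbot)
        have : (⟨⟨a, hPD ha.1⟩, ha.1⟩ : P.subgroupOf D) = 1 := hbij.1 (Subtype.ext (by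
          show π ⟨a, hPD ha.1⟩ = _
          rw [map_one]; exact (QuotientGroup.eq_one_iff _).mpr ha))
        exact ha1 (congrArg (fun x : P.subgroupOf D => ((x : D) : X)) this)
      omega
    have hP'k : P' ≤ g'.ker := by
      rintro _ ⟨a, ha, rfl⟩
      exact MonoidHom.mem_ker.mpr (hPk ha)
    have hE := ih (D ⧸ W.subgroupOf D) ((h.subgroup D).quotient _) g' hg' P'
      ((hP.comap_of_injective D.subtype D.subtype_injective).map π) hP'k hP'c
    obtain ⟨s, hs⟩ := hS.five
    obtain ⟨e, he, hes⟩ := hE s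
    obtain ⟨e, rfl⟩ := QuotientGroup.mk_surjective e
    have hcent : ((e : X)) ^ 2 ∈ Subgroup.centralizer (P : Set X) := by
      rw [Subgroup.mem_centralizer_iff]
      intro a ha
      have hw : (e : X) * a * (e : X)⁻¹ * a⁻¹ ∈ W := by
        have h1 := Subgroup.mem_centralizer_iff.mp he (π ⟨a, hPD ha⟩) (Subgroup.mem_map_of_mem π ha)
        have h2 : π (e * ⟨a, hPD ha⟩ * e⁻¹ * (⟨a, hPD ha⟩ : D)⁻¹) = 1 := by
          rw [map_mul, map_mul, map_mul, map_inv, map_inv, show π e = QuotientGroup.mk e from rfl, ← h1]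
          group
        have h3 := (QuotientGroup.eq_one_iff (N := W.subgroupOf D) _).mp h2
        exact h3
      set w := (e : X) * a * (e : X)⁻¹ * a⁻¹ with hwdef
      have hew : Commute (e : X) w := (Subgroup.mem_centralizer_iff.mp e.2 w hw).symm
      have h1 : (e : X) * a * (e : X)⁻¹ = w * a := by rw [hwdef]; group
      have h2 : (e : X) ^ 2 * a * ((e : X) ^ 2)⁻¹ = a := by
        calc (e : X) ^ 2 * a * ((e : X) ^ 2)⁻¹ = (e : X) * ((e : X) * a * (e : X)⁻¹) * (e : X)⁻¹ := by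
              rw [pow_two]; group
          _ = ((e : X) * w) * a * (e : X)⁻¹ := by rw [h1]; group
          _ = w * ((e : X) * a * (e : X)⁻¹) := by rw [hew.eq]; group
          _ = a := by rw [h1, ← mul_assoc, ← pow_two, hw.2.1, one_mul]
      exact (mul_inv_eq_iff_eq_mul.mp h2).symm
    rcases covers_or_le hS g hg (Subgroup.centralizer (P : Set X)) with hc' | hc'
    · exact hc'
    · exfalso
      have h1 := MonoidHom.mem_ker.mp (hc' hcent)
      rw [map_pow] at h1
      have h2 : g (e : X) = s := hes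
      rw [h2] at h1
      have h3 := orderOf_dvd_of_pow_eq_one h1
      rw [hs] at h3
      norm_num at h3

/-- Frattini: the normaliser of a Sylow subgroup of a normal subgroup of the kernel covers. -/
theorem covers_normalizer (f : X →* S) (hf : Function.Surjective f) {p : ℕ} [Fact p.Prime] {K : Subgroup X}
    [K.Normal] (hK : K ≤ f.ker) (P : Sylow p K) :
    Covers f (Subgroup.normalizer (((P : Subgroup K).map K.subtype : Subgroup X) : Set X)) := fun a => by
  obtain ⟨c, hc⟩ := hf a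
  have hmem : c ∈ Subgroup.normalizer (((P : Subgroup K).map K.subtype : Subgroup X) : Set X) ⊔ K := by
    rw [Sylow.normalizer_sup_eq_top P]; exact Subgroup.mem_top c
  obtain ⟨n, hn, k, hk, rfl⟩ := Subgroup.mem_sup_of_normal_right.mp hmem
  refine ⟨n, hn, ?_⟩
  rw [map_mul, MonoidHom.mem_ker.mp (hK hk), mul_one] at hc
  exact hc

/-- In the centraliser of a Sylow `2`-subgroup of a normal subgroup, its `2`-elements are central. -/
theorem env_central {K : Subgroup X} (P : Sylow 2 K) {c y : X}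
    (hc : c ∈ Subgroup.centralizer (((P : Subgroup K).map K.subtype : Subgroup X) : Set X)) (hcK : c ∈ K) {k : ℕ}
    (hk : c ^ 2 ^ k = 1) (hy : y ∈ Subgroup.centralizer (((P : Subgroup K).map K.subtype : Subgroup X) : Set X)) :
    Commute c y := by
  haveI := Fact.mk Nat.prime_two
  suffices hcP : c ∈ (P : Subgroup K).map K.subtype from Subgroup.mem_centralizer_iff.mp hy c hcP
  set c' : K := ⟨c, hcK⟩ with hc'
  have hz : IsPGroup 2 (Subgroup.zpowers c') := by
    have hd : orderOf c' ∣ 2 ^ k := by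
      rw [← Subgroup.orderOf_coe]
      exact orderOf_dvd_of_pow_eq_one hk
    obtain ⟨j, -, hj⟩ := (Nat.dvd_prime_pow Nat.prime_two).mp hd
    exact IsPGroup.of_card (n := j) (by rw [Nat.card_zpowers, hj])
  have hn : c' ∈ Subgroup.normalizer ((P : Subgroup K) : Set K) :=
    Subgroup.mem_normalizer_iff.mpr fun w => by
      have key : ∀ d : K, d ∈ (P : Subgroup K) → c' * d * c'⁻¹ = d := fun d hd => by
        apply Subtype.ext
        show c * (d : X) * c⁻¹ = d
        rw [← Subgroup.mem_centralizer_iff.mp hc (d : X) ⟨d, hd, rfl⟩, mul_inv_cancel_right]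
      refine ⟨fun hw => by rwa [key w hw], fun hw => ?_⟩
      have h1 := key _ hw
      have h2 : c' * w * c'⁻¹ = w := mul_left_cancel (a := c') (mul_right_cancel (b := c'⁻¹) h1)
      rwa [h2] at hw
  have hmem : c' ∈ Subgroup.zpowers c' ⊓ (P : Subgroup K) := by
    rw [← hz.inf_normalizer_sylow P]
    exact ⟨Subgroup.mem_zpowers c', hn⟩
  exact ⟨c', hmem.2, rfl⟩

/-- A covering subgroup in which the `2`-elements of the kernel are central. -/
theorem exists_env (h : Orders m X) (hS : Shape m S) (f : X →* S) (hf : Function.Surjective f) :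
    ∃ Y : Subgroup X, Covers f Y ∧ ∀ c ∈ Y, f c = 1 → ∀ k : ℕ, c ^ 2 ^ k = 1 → ∀ y ∈ Y, Commute c y := by
  haveI := Fact.mk Nat.prime_two
  obtain ⟨P⟩ : Nonempty (Sylow 2 f.ker) := inferInstance
  set P₁ := (P : Subgroup f.ker).map f.ker.subtype with hP₁
  set N := Subgroup.normalizer (P₁ : Set X) with hN
  have hcN : Covers f N := covers_normalizer f hf le_rfl P
  haveI : (P₁.subgroupOf N).Normal := Subgroup.normal_in_normalizer
  have hcov := covers_two_group hS _ N (h.subgroup N) (f.comp N.subtype) hcN.surj (P₁.subgroupOf N)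
    ((P.2.map _).comap_of_injective N.subtype N.subtype_injective)
    (fun a ha => MonoidHom.mem_ker.mpr (Subgroup.map_subtype_le (P : Subgroup f.ker) (Subgroup.mem_subgroupOf.mp ha) :
      (a : X) ∈ f.ker)) le_rfl
  refine ⟨Subgroup.centralizer (P₁ : Set X), fun s => ?_, fun c hc hfc k hk y hy => ?_⟩
  · obtain ⟨a, ha, has⟩ := hcov s
    refine ⟨(a : X), Subgroup.mem_centralizer_iff.mpr fun w hw => ?_, has⟩
    exact congrArg Subtype.val
      (Subgroup.mem_centralizer_iff.mp ha ⟨w, Subgroup.le_normalizer hw⟩ (Subgroup.mem_subgroupOf.mpr hw))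
  · exact env_central P hc hfc hk hy

/-- Lifts of the root group and the torus, with commuting squares. -/
theorem exists_lift_torus (h : Orders m X) (hS : Shape m S) (f : X →* S) (hf : Function.Surjective f) :
    ∃ (l : ℕ) (Q : Subgroup X) (x a b c : X), l.Prime ∧ l ∣ tor1 m ∧ IsPGroup 2 Q ∧
      x ∈ Subgroup.normalizer (Q : Set X) ∧ orderOf (f x) = l ∧ (∃ k : ℕ, x ^ l ^ k = 1) ∧ a ∈ Q ∧ b ∈ Q ∧ c ∈ Q ∧
      (∀ y ∈ Q, ∀ w ∈ Q, Commute (y * y) (w * w)) ∧ (∀ y ∈ Q, Commute (f x) (f y) → f y = 1) ∧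
      f (a * a) ≠ 1 ∧ f (b * b) ≠ 1 ∧ f (c * c) ≠ 1 ∧ f (b * b * (c * c)) ≠ 1 ∧ f (a * a * (b * b)) ≠ 1 ∧
      f (a * a * (c * c)) ≠ 1 ∧ f (a * a * (b * b * (c * c))) ≠ 1 := by
  haveI := Fact.mk Nat.prime_two
  obtain ⟨Y, hY, hcen⟩ := exists_env h hS f hf
  obtain ⟨l, U, t, ab, bb, cb, hl, hld, hU, htU, hto, ha, hb, hc, hfree, hsq, n1, n2, n3, n4, n5, n6, n7⟩ := hS.torus
  obtain ⟨Q₀, x₀, hQ, hQf, hxQ, hfx, hQU, k, hk⟩ := exists_lift_normalizer (f.comp Y.subtype) hY.surj U hU hl (a := 1)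
    htU (by rw [hto, pow_one])
  obtain ⟨a, ha', hfa⟩ := hQf ab ha
  obtain ⟨b, hb', hfb⟩ := hQf bb hb
  obtain ⟨c, hc', hfc⟩ := hQf cb hc
  change f (a : X) = ab at hfa
  change f (b : X) = bb at hfb
  change f (c : X) = cb at hfc
  change f (x₀ : X) = t at hfx
  refine ⟨l, Q₀.map Y.subtype, x₀, a, b, c, hl, hld, hQ.map _, ?_, by rw [hfx]; exact hto,
    ⟨k, by simpa using congrArg Subtype.val hk⟩, ⟨a, ha', rfl⟩, ⟨b, hb', rfl⟩, ⟨c, hc', rfl⟩, ?_, ?_, ?_⟩
  · exact Subgroup.le_normalizer_map Y.subtype ⟨x₀, hxQ, rfl⟩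
  · rintro _ ⟨y, hy, rfl⟩ _ ⟨w, hw, rfl⟩
    simp only [Subgroup.coe_subtype]
    set z : X := (y : X) * y with hz
    set d := z * (w : X) * z⁻¹ * (w : X)⁻¹ with hd
    have hdY : d ∈ Y := mul_mem (mul_mem (mul_mem (mul_mem y.2 y.2) w.2) (inv_mem (mul_mem y.2 y.2))) (inv_mem w.2)
    have hfd : f d = 1 := by
      have hcm : Commute (f z) (f (w : X)) := by rw [hz, map_mul]; exact hsq _ (hQU y hy) _ (hQU w hw)
      rw [hd, map_mul, map_mul, map_mul, map_inv, map_inv, hcm.eq]
      group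
    obtain ⟨i, hi⟩ := hQ ⟨y * y * w * (y * y)⁻¹ * w⁻¹,
      mul_mem (mul_mem (mul_mem (mul_mem hy hy) hw) (inv_mem (mul_mem hy hy))) (inv_mem hw)⟩
    have hd2 : d ^ 2 ^ i = 1 := by
      have := congrArg (fun q : Q₀ => ((q : Y) : X)) hi
      simpa [hd, hz] using this
    have hdc : ∀ v ∈ Y, Commute d v := hcen d hdY hfd i hd2
    have hzwz : z * (w : X) * z⁻¹ = d * w := by rw [hd]; group
    obtain ⟨iy, hiy⟩ := hQ ⟨y, hy⟩
    have hz2 : z * z = 1 := by
      have h4 := h.pow_four (g := (y : X)) (k := iy) (by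
        have := congrArg (fun q : Q₀ => ((q : Y) : X)) hiy
        simpa using this)
      rw [hz, ← h4]
      simp [pow_succ, mul_assoc]
    have hdd : d * d = 1 := by
      have e1 : z * z * (w : X) * (z * z)⁻¹ = d * (d * w) := by
        calc z * z * (w : X) * (z * z)⁻¹ = z * (z * w * z⁻¹) * z⁻¹ := by group
          _ = (z * d) * w * z⁻¹ := by rw [hzwz]; group
          _ = d * (z * w * z⁻¹) := by rw [← (hdc z (mul_mem y.2 y.2)).eq]; group
          _ = d * (d * w) := by rw [hzwz]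
      rw [hz2, one_mul, inv_one, mul_one] at e1
      have e2 : d * d * (w : X) = 1 * w := by rw [one_mul, mul_assoc, ← e1]
      exact mul_right_cancel e2
    have e : z * ((w : X) * w) * z⁻¹ = (w : X) * w := by
      calc z * ((w : X) * w) * z⁻¹ = z * w * z⁻¹ * (z * w * z⁻¹) := by group
        _ = d * ((w : X) * d) * w := by rw [hzwz]; group
        _ = d * d * ((w : X) * w) := by rw [← (hdc w w.2).eq]; group
        _ = (w : X) * w := by rw [hdd, one_mul]
    exact mul_inv_eq_iff_eq_mul.mp e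
  · rintro _ ⟨y, hy, rfl⟩ hcm
    rw [hfx] at hcm
    exact hfree _ (hQU y hy) hcm
  · simp only [map_mul, hfa, hfb, hfc]
    exact ⟨n1, n2, n3, n4, n5, n6, n7⟩

/-- An involution outside the kernel. -/
theorem exists_invol (h : Orders m X) (hS : Shape m S) (f : X →* S) (hf : Function.Surjective f) :
    ∃ z : X, z * z = 1 ∧ f z ≠ 1 := by
  obtain ⟨r, Qb, ub, qb, -, -, -, -, huo, -, -⟩ := hS.four
  obtain ⟨x₀, hx₀⟩ := hf ub
  obtain ⟨n, hn, k, hk⟩ := exists_part f Nat.prime_two (x := x₀) (a := 2) (by rw [hx₀, huo]; norm_num)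
  refine ⟨x₀ ^ n * x₀ ^ n, ?_, fun e => ?_⟩
  · rw [← h.pow_four hk]
    simp [pow_succ, mul_assoc]
  · rw [map_mul, hn, hx₀, ← pow_two] at e
    have h2 := orderOf_dvd_of_pow_eq_one e
    rw [huo] at h2
    norm_num at h2

/-- An uncovered odd layer: some involution centralises a group of rank two in it. -/
theorem exists_rank_two (h : Orders m X) (hS : Shape m S) (f : X →* S) (hf : Function.Surjective f) (W : Subgroup X)
    [W.Normal] (hab : ∀ a ∈ W, ∀ b ∈ W, a * b = b * a) {p : ℕ} (hp : p.Prime) (hp2 : p ≠ 2)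
    (hexp : ∀ a ∈ W, a ^ p = 1) (hcov : ¬ Covers f (Subgroup.centralizer (W : Set X))) :
    ∃ z a b : X, z * z = 1 ∧ f z ≠ 1 ∧ a ∈ W ∧ b ∈ W ∧ orderOf a = p ∧ orderOf b = p ∧ Commute z a ∧ Commute z b ∧
      b ∉ Subgroup.zpowers a := by
  obtain ⟨l, Q, x, qa, qb, qc, -, -, hQ, -, -, -, ha, hb, hc, hsq, -, n1, n2, n3, n4, n5, n6, n7⟩ :=
    exists_lift_torus h hS f hf
  by_contra hno
  push Not at hno
  have hinvol : ∀ y ∈ Q, y * y * (y * y) = 1 := fun y hy => by
    obtain ⟨i, hi⟩ := hQ ⟨y, hy⟩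
    rw [← h.pow_four (show y ^ 2 ^ i = 1 by simpa using congrArg Subtype.val hi)]
    simp [pow_succ, mul_assoc]
  have hmul : ∀ y w : X, y * y = 1 → w * w = 1 → Commute y w → y * w * (y * w) = 1 := fun y w hy hw hc => by
    rw [show y * w * (y * w) = y * (w * y) * w by group, ← hc.eq, show y * (y * w) * w = (y * y) * (w * w) by group,
      hy, hw, one_mul]
  set z₁ := qa * qa with hz₁
  have hz1 : z₁ * z₁ = 1 := hinvol _ ha
  obtain ⟨a, haW, ha1, hza⟩ := exists_fixed_invol hS f hf W hab hz1 n1 hcov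
  have hao : orderOf a = p := orderOf_of_prime hp (hexp a haW) ha1
  have hline : ∀ z : X, z * z = 1 → f z ≠ 1 → Commute z a → ∀ v ∈ W, Commute z v → v ∈ Subgroup.zpowers a := by
    intro z hz hfz hza v hv hzv
    by_cases hv1 : v = 1
    · rw [hv1]; exact one_mem _
    exact hno z a v hz hfz haW hv hao (orderOf_of_prime hp (hexp v hv) hv1) hza hzv
  have hsquare : ∀ v ∈ W, v * v ∈ Subgroup.zpowers a → v ∈ Subgroup.zpowers a := fun v hv hv2 => by
    have hcop : (2 : ℕ).Coprime (orderOf v) :=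
      ((Nat.coprime_primes Nat.prime_two hp).mpr hp2.symm).coprime_dvd_right (orderOf_dvd_of_pow_eq_one (hexp v hv))
    obtain ⟨j, hj⟩ := exists_pow_eq_self_of_coprime hcop
    rw [← hj, pow_two]
    exact pow_mem hv2 j
  have hfix : ∀ w : X, w * w = 1 → Commute z₁ w → Commute w a ∨ w * a * w = a⁻¹ := by
    intro w hw hcw
    have hwi : w⁻¹ = w := inv_eq_of_mul_eq_one_right hw
    have hconj : w * a * w ∈ W := by
      have := Subgroup.Normal.conj_mem (inferInstance : W.Normal) a haW w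
      rwa [hwi] at this
    have hz' : Commute z₁ (w * a * w) := (hcw.mul_right hza).mul_right hcw
    have h1 : a * (w * a * w) ∈ Subgroup.zpowers a :=
      hline z₁ hz1 n1 hza _ (mul_mem haW hconj) (hza.mul_right hz')
    obtain ⟨i, hi⟩ := Subgroup.mem_zpowers_iff.mp h1
    by_cases hi0 : a * (w * a * w) = 1
    · exact Or.inr (eq_inv_of_mul_eq_one_right hi0)
    left
    have hwf : Commute w (a * (w * a * w)) := by
      show w * (a * (w * a * w)) = a * (w * a * w) * w
      calc w * (a * (w * a * w)) = (w * a * w) * (a * w) := by group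
        _ = a * (w * a * w) * w := by rw [← mul_assoc, hab _ hconj _ haW, mul_assoc]
    have hmem : a ∈ Subgroup.zpowers (a * (w * a * w)) := by
      have hco : i.natAbs.Coprime p := Nat.Coprime.symm (hp.coprime_iff_not_dvd.mpr fun hd => hi0 (by
        rw [← hi]
        exact orderOf_dvd_iff_zpow_eq_one.mp (by rw [hao]; exact Int.natCast_dvd.mpr hd)))
      obtain ⟨j, hj⟩ := exists_pow_eq_self_of_coprime (x := a) (n := i.natAbs) (by rw [hao]; exact hco)
      rw [← hi]
      rcases Int.natAbs_eq i with e | e <;> rw [e]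
      · rw [zpow_natCast]
        exact Subgroup.mem_zpowers_iff.mpr ⟨j, by rw [zpow_natCast]; exact hj⟩
      · rw [zpow_neg, zpow_natCast, Subgroup.zpowers_inv]
        exact Subgroup.mem_zpowers_iff.mpr ⟨j, by rw [zpow_natCast]; exact hj⟩
    obtain ⟨k, hk⟩ := Subgroup.mem_zpowers_iff.mp hmem
    rw [← hk]
    exact hwf.zpow_right k
  obtain ⟨w, hw, hfw, hfzw, hcw, hwa⟩ : ∃ w : X, w * w = 1 ∧ f w ≠ 1 ∧ f (z₁ * w) ≠ 1 ∧ Commute z₁ w ∧ Commute w a := by
    rcases hfix (qb * qb) (hinvol _ hb) (hsq _ ha _ hb) with h2 | h2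
    · exact ⟨_, hinvol _ hb, n2, n5, hsq _ ha _ hb, h2⟩
    rcases hfix (qc * qc) (hinvol _ hc) (hsq _ ha _ hc) with h3 | h3
    · exact ⟨_, hinvol _ hc, n3, n6, hsq _ ha _ hc, h3⟩
    have hcm : Commute z₁ (qb * qb * (qc * qc)) := (hsq _ ha _ hb).mul_right (hsq _ ha _ hc)
    have hbc : qb * qb * (qc * qc) * (qb * qb * (qc * qc)) = 1 :=
      hmul _ _ (hinvol _ hb) (hinvol _ hc) (hsq _ hb _ hc)
    refine ⟨_, hbc, n4, n7, hcm, ?_⟩
    have hbi : (qb * qb)⁻¹ = qb * qb := inv_eq_of_mul_eq_one_right (hinvol _ hb)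
    have hci : (qc * qc)⁻¹ = qc * qc := inv_eq_of_mul_eq_one_right (hinvol _ hc)
    have e : qb * qb * (qc * qc) * a * (qb * qb * (qc * qc))⁻¹ = a := by
      calc qb * qb * (qc * qc) * a * (qb * qb * (qc * qc))⁻¹
          = qb * qb * (qc * qc * a * (qc * qc)⁻¹) * (qb * qb)⁻¹ := by group
        _ = qb * qb * a⁻¹ * (qb * qb)⁻¹ := by rw [hci, h3]
        _ = (qb * qb * a * (qb * qb)⁻¹)⁻¹ := by rw [conj_inv]
        _ = a := by rw [hbi, h2, inv_inv]
    exact mul_inv_eq_iff_eq_mul.mp e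
  have hzw : z₁ * w * (z₁ * w) = 1 := hmul _ _ hz1 hw hcw
  -- every element of the layer lies in the line
  have hall : ∀ v ∈ W, v ∈ Subgroup.zpowers a := by
    intro v hv
    have hwi : w⁻¹ = w := inv_eq_of_mul_eq_one_right hw
    have hzi : z₁⁻¹ = z₁ := inv_eq_of_mul_eq_one_right hz1
    have hWc : ∀ g : X, ∀ u ∈ W, g * u * g⁻¹ ∈ W := fun g u hu => Subgroup.Normal.conj_mem inferInstance u hu g
    have hs : ∀ (g : X) (u : X), u ∈ W → g * g = 1 → Commute g (u * (g * u * g⁻¹)) := fun g u hu hg => by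
      have hgi : g⁻¹ = g := inv_eq_of_mul_eq_one_right hg
      have hm := hWc g u hu
      rw [hgi] at hm ⊢
      show g * (u * (g * u * g)) = u * (g * u * g) * g
      rw [show g * (u * (g * u * g)) = g * u * g * (u * g) by group, ← mul_assoc, hab _ hm _ hu]
    set va := z₁ * v * z₁⁻¹
    set vb := w * v * w⁻¹
    have hva : va ∈ W := hWc _ _ hv
    have hvb : vb ∈ W := hWc _ _ hv
    have m1 := hline z₁ hz1 n1 hza _ (mul_mem hv hva) (hs _ _ hv hz1)
    have m2 := hline w hw hfw hwa _ (mul_mem hv hvb) (hs _ _ hv hw)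
    have m3 := hline (z₁ * w) hzw hfzw (hza.mul_left hwa) _ (mul_mem hva hvb) (by
      have h3 := hs (z₁ * w) va hva hzw
      rwa [show z₁ * w * va * (z₁ * w)⁻¹ = vb by
        rw [hcw.eq]
        simp only [va, vb]
        rw [show w * z₁ * (z₁ * v * z₁⁻¹) * (w * z₁)⁻¹ = w * (z₁ * z₁) * v * ((z₁ * z₁))⁻¹ * w⁻¹ by group, hz1]
        group] at h3)
    refine hsquare v hv ?_
    have e : v * v = (v * va) * (v * vb) * (va * vb)⁻¹ := by
      rw [show v * va * (v * vb) = v * v * (va * vb) by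
        rw [show v * va * (v * vb) = v * (va * v) * vb by group, hab _ hva _ hv]
        group]
      group
    rw [e]
    exact mul_mem (mul_mem m1 m2) (inv_mem m3)
  -- so the action is abelian
  obtain ⟨sa, sb, hne⟩ := hS.nonab
  obtain ⟨ga, rfl⟩ := hf sa
  obtain ⟨gb, rfl⟩ := hf sb
  refine not_mem_of_image hS hf hcov (c := ⁅ga, gb⁆)
    (fun e => hne (commutatorElement_eq_one_iff_mul_comm.mp (by rw [← map_commutatorElement]; exact e))) ?_
  rw [Subgroup.mem_centralizer_iff]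
  intro v hv
  have hpow : ∀ g : X, ∃ i : ℤ, ∀ v ∈ W, g * v * g⁻¹ = v ^ i := fun g => by
    obtain ⟨i, hi⟩ := Subgroup.mem_zpowers_iff.mp (hall _ (Subgroup.Normal.conj_mem (inferInstance : W.Normal) a haW g))
    refine ⟨i, fun v hv => ?_⟩
    obtain ⟨j, rfl⟩ := Subgroup.mem_zpowers_iff.mp (hall v hv)
    rw [← conj_zpow, ← hi, ← zpow_mul, mul_comm, zpow_mul]
  obtain ⟨i, hi⟩ := hpow ga
  obtain ⟨j, hj⟩ := hpow gb
  have e1 : ∀ v ∈ W, (ga * gb) * v * (ga * gb)⁻¹ = (gb * ga) * v * (gb * ga)⁻¹ := fun v hv => by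
    rw [show (ga * gb) * v * (ga * gb)⁻¹ = ga * (gb * v * gb⁻¹) * ga⁻¹ by group,
      show (gb * ga) * v * (gb * ga)⁻¹ = gb * (ga * v * ga⁻¹) * gb⁻¹ by group, hj v hv, hi v hv, ← conj_zpow, hi v hv,
      ← conj_zpow, hj v hv, ← zpow_mul, ← zpow_mul, mul_comm]
  have e2 : ⁅ga, gb⁆ * v * ⁅ga, gb⁆⁻¹ = v := by
    have hv' : (gb * ga)⁻¹ * v * (gb * ga) ∈ W := Subgroup.Normal.conj_mem' inferInstance v hv _
    have h3 := e1 _ hv'
    rw [commutatorElement_def]
    calc ga * gb * ga⁻¹ * gb⁻¹ * v * (ga * gb * ga⁻¹ * gb⁻¹)⁻¹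
        = ga * gb * ((gb * ga)⁻¹ * v * (gb * ga)) * (ga * gb)⁻¹ := by group
      _ = gb * ga * ((gb * ga)⁻¹ * v * (gb * ga)) * (gb * ga)⁻¹ := h3
      _ = v := by group
  exact (mul_inv_eq_iff_eq_mul.mp e2).symm

/-- With no prime of `q - 1` in the kernel, a torus element fixes a point of an uncovered odd layer. -/
theorem exists_fixed_tor (h : Orders m X) (hS : Shape m S) (f : X →* S) (hf : Function.Surjective f) (W : Subgroup X)
    [W.Normal] (hab : ∀ a ∈ W, ∀ b ∈ W, a * b = b * a) {p : ℕ} (hp : p.Prime) (hp2 : p ≠ 2)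
    (hexp : ∀ a ∈ W, a ^ p = 1) (hcov : ¬ Covers f (Subgroup.centralizer (W : Set X)))
    (hker : ∀ r : ℕ, r.Prime → r ∣ tor1 m → ¬ r ∣ Nat.card f.ker) :
    ∃ x : X, (orderOf x).Prime ∧ orderOf x ∣ tor1 m ∧ ∃ w ∈ W, w ≠ 1 ∧ Commute x w := by
  classical
  obtain ⟨l, Q, x, qa, qb, qc, hl, hld, hQ, hxQ, hfxo, ⟨k, hk⟩, ha, hb, hc, hsq, hfree, n1, -⟩ :=
    exists_lift_torus h hS f hf
  haveI := Fact.mk hl
  have hl2 : l ≠ 2 := ne_two (Or.inl hld)
  have hxl : x ^ l = 1 := by
    by_contra hne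
    have hker1 : x ^ l ∈ f.ker := by rw [MonoidHom.mem_ker, map_pow, ← hfxo, pow_orderOf_eq_one]
    exact hker l hl hld ((dvd_orderOf hl (w := x ^ l) (k := k)
      (by rw [← pow_mul, mul_comm, pow_mul, hk, one_pow]) hne).trans (Subgroup.orderOf_dvd_natCard f.ker hker1))
  have hxo : orderOf x = l := orderOf_of_prime hl hxl fun e => by
    rw [e, map_one, orderOf_one] at hfxo; exact hl.ne_one hfxo.symm
  refine ⟨x, hxo ▸ hl, hxo ▸ hld, ?_⟩
  by_contra hno
  push Not at hno
  -- the abelian group of squares and its image under `e ↦ [e⁻¹, x]`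
  set E := Subgroup.closure ((fun y => y * y) '' (Q : Set X)) with hE
  have hEQ : E ≤ Q := (Subgroup.closure_le Q).mpr (by rintro _ ⟨y, hy, rfl⟩; exact mul_mem hy hy)
  haveI hEc : IsMulCommutative E := Subgroup.isMulCommutative_closure (by
    rintro _ ⟨y, hy, rfl⟩ _ ⟨w, hw, rfl⟩
    exact (hsq y hy w hw).eq)
  have hEcomm : ∀ e ∈ E, ∀ e' ∈ E, Commute e e' := fun e he e' he' =>
    congrArg Subtype.val (hEc.is_comm.comm ⟨e, he⟩ ⟨e', he'⟩)
  have hxE : ∀ e ∈ E, x * e * x⁻¹ ∈ E := fun e he => by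
    refine Subgroup.closure_induction (p := fun e _ => x * e * x⁻¹ ∈ E) ?_ ?_ ?_ ?_ he
    · rintro _ ⟨y, hy, rfl⟩
      exact Subgroup.subset_closure ⟨x * y * x⁻¹, (Subgroup.mem_normalizer_iff.mp hxQ y).mp hy, by
        show x * y * x⁻¹ * (x * y * x⁻¹) = x * (y * y) * x⁻¹
        group⟩
    · rw [mul_one, mul_inv_cancel]; exact one_mem E
    · intro a b _ _ ha hb
      rw [show x * (a * b) * x⁻¹ = (x * a * x⁻¹) * (x * b * x⁻¹) by group]
      exact mul_mem ha hb
    · intro a _ ha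
      rw [show x * a⁻¹ * x⁻¹ = (x * a * x⁻¹)⁻¹ by group]
      exact inv_mem ha
  let φ : E →* X :=
    { toFun := fun e => (e : X)⁻¹ * (x * e * x⁻¹)
      map_one' := by simp
      map_mul' := fun a b => by
        show ((a : X) * b)⁻¹ * (x * (a * b) * x⁻¹) = (a : X)⁻¹ * (x * a * x⁻¹) * ((b : X)⁻¹ * (x * b * x⁻¹))
        have h1 : Commute ((b : X)⁻¹) ((a : X)⁻¹ * (x * a * x⁻¹)) :=
          hEcomm _ (inv_mem b.2) _ (mul_mem (inv_mem a.2) (hxE _ a.2))
        calc ((a : X) * b)⁻¹ * (x * (a * b) * x⁻¹)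
            = (b : X)⁻¹ * ((a : X)⁻¹ * (x * a * x⁻¹)) * (x * b * x⁻¹) := by group
          _ = (a : X)⁻¹ * (x * a * x⁻¹) * ((b : X)⁻¹ * (x * b * x⁻¹)) := by rw [h1.eq, mul_assoc] }
  set E' := φ.range with hE'
  have hE'E : E' ≤ E := by rintro _ ⟨e, rfl⟩; exact mul_mem (inv_mem e.2) (hxE _ e.2)
  have hxE' : x ∈ Subgroup.normalizer (E' : Set X) := Subgroup.mem_normalizer_fintype fun y hy => by
    obtain ⟨e, rfl⟩ := hy
    refine ⟨⟨_, hxE _ e.2⟩, ?_⟩
    show (x * (e : X) * x⁻¹)⁻¹ * (x * (x * e * x⁻¹) * x⁻¹) = x * ((e : X)⁻¹ * (x * e * x⁻¹)) * x⁻¹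
    group
  have h2pow : ∀ q ∈ E', ∃ i : ℕ, q ^ 2 ^ i = 1 := fun q hq => by
    obtain ⟨i, hi⟩ := hQ ⟨q, hEQ (hE'E hq)⟩
    exact ⟨i, by simpa using congrArg Subtype.val hi⟩
  have hEfree : ∀ q ∈ E', Commute x q → q = 1 := by
    intro q hq hxq
    obtain ⟨e, rfl⟩ := hq
    set c := φ e with hc
    have h1 : x * (e : X) * x⁻¹ = e * c := by
      show _ = (e : X) * ((e : X)⁻¹ * (x * e * x⁻¹))
      group
    have key : ∀ j : ℕ, x ^ j * (e : X) * (x ^ j)⁻¹ = e * c ^ j := by
      intro j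
      induction j with
      | zero => simp
      | succ j ih =>
        rw [pow_succ', show x * x ^ j * (e : X) * (x * x ^ j)⁻¹ = x * (x ^ j * e * (x ^ j)⁻¹) * x⁻¹ by group, ih,
          show x * ((e : X) * c ^ j) * x⁻¹ = (x * e * x⁻¹) * (x * c ^ j * x⁻¹) by group, h1, (hxq.pow_right j).eq,
          mul_inv_cancel_right, mul_assoc, ← pow_succ']
    have h2 := key l
    rw [hxl, one_mul, inv_one, mul_one] at h2
    obtain ⟨i, hi⟩ := h2pow c ⟨e, rfl⟩
    exact eq_one_of_pows hl Nat.prime_two hl2 (i := 1) (by rw [pow_one]; exact (left_eq_mul.mp h2)) hi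
  -- the action on the layer
  letI : CommGroup W :=
    { (inferInstance : Group W) with mul_comm := fun a b => Subtype.ext (hab a a.2 b b.2) }
  letI : MulDistribMulAction X W := MulDistribMulAction.compHom W (MulAut.conjNormal : X →* MulAut W)
  let A := Additive W
  letI : DistribMulAction X A :=
    { smul := fun g a => Additive.ofMul (g • Additive.toMul a)
      one_smul := fun a => congrArg Additive.ofMul (one_smul X (Additive.toMul a))
      mul_smul := fun g g' a => congrArg Additive.ofMul (mul_smul g g' (Additive.toMul a))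
      smul_zero := fun g => congrArg Additive.ofMul (smul_one g)
      smul_add := fun g a b => congrArg Additive.ofMul (smul_mul' g (Additive.toMul a) (Additive.toMul b)) }
  have hval : ∀ (g : X) (a : A), ((Additive.toMul (g • a) : W) : X) = g * (Additive.toMul a : W) * g⁻¹ :=
    fun g a => MulAut.conjNormal_apply g _
  have htriv := trivial_of_fpf (V := A) E' hl hxo hxE' hEfree (fun a ha => by
    obtain ⟨i, hi⟩ := IsPGroup.iff_card.mp (hQ.to_le (hE'E.trans hEQ))
    rw [hi] at ha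
    apply Additive.toMul.injective
    rw [toMul_zero]
    refine Subtype.ext ?_
    have h3 := congrArg (fun b : A => ((Additive.toMul b : W) : X)) ha
    simp only [toMul_nsmul, toMul_zero, Subgroup.coe_pow, Subgroup.coe_one] at h3
    exact eq_one_of_pows hp Nat.prime_two hp2 (i := 1) (by rw [pow_one]; exact hexp _ (Additive.toMul a).2) h3)
    (fun a ha => by
      by_contra h0
      refine hno _ (Additive.toMul a).2 (fun e => h0 (Additive.toMul.injective (Subtype.ext e))) ?_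
      have h1 := hval x a
      rw [ha] at h1
      exact mul_inv_eq_iff_eq_mul.mp h1.symm)
  have hq : qa * qa ∈ E := Subgroup.subset_closure ⟨qa, ha, rfl⟩
  refine not_mem_of_image hS hf hcov (c := φ ⟨_, hq⟩) (fun e => n1 (hfree _ (mul_mem ha ha) ?_)) ?_
  · show f x * f (qa * qa) = f (qa * qa) * f x
    have e' : (f (qa * qa))⁻¹ * (f x * f (qa * qa) * (f x)⁻¹) = 1 := by
      simpa [φ] using e
    exact mul_inv_eq_iff_eq_mul.mp (inv_mul_eq_one.mp e').symm
  · rw [Subgroup.mem_centralizer_iff]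
    intro w hw
    have h1 := hval (φ ⟨_, hq⟩) (Additive.ofMul (⟨w, hw⟩ : W))
    rw [htriv (φ ⟨_, hq⟩) ⟨_, rfl⟩] at h1
    exact mul_inv_eq_iff_eq_mul.mp h1.symm |>.symm

/-- Where an element of the kernel is fixed-point-free on a layer, its centraliser covers. -/
theorem covers_of_fpf (hS : Shape m S) (f : X →* S) (hf : Function.Surjective f) {L : Subgroup X} [L.Normal]
    (hL : ∀ a ∈ L, ∀ b ∈ L, a * b = b * a) (hne : L ≠ ⊥) {p r : ℕ} (hp : p.Prime) (hexp : ∀ a ∈ L, a ^ p = 1)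
    (hr : r.Prime) (hpr : p ≠ r) (hno : ∀ e ∈ f.ker, orderOf e = r → ∀ v ∈ L, v ≠ 1 → Commute e v → False)
    {x : X} (hx : x ∈ f.ker) (hxo : orderOf x = r) :
    Covers f (Subgroup.centralizer ({x} : Set X)) := by
  haveI := Fact.mk hr
  set x' : f.ker := ⟨x, hx⟩ with hx'
  have hxo' : orderOf x' = r := by rw [← hxo, ← Subgroup.orderOf_coe]
  have hq : IsPGroup r (Subgroup.zpowers x') := IsPGroup.of_card (n := 1) (by rw [Nat.card_zpowers, hxo', pow_one])
  obtain ⟨P, hP⟩ := hq.exists_le_sylow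
  have hxP : x' ∈ (P : Subgroup f.ker) := hP (Subgroup.mem_zpowers x')
  haveI : Nontrivial (P : Subgroup f.ker) := (Subgroup.nontrivial_iff_ne_bot _).mpr fun e => by
    rw [e, Subgroup.mem_bot] at hxP
    rw [hxP, orderOf_one] at hxo'
    exact hr.ne_one hxo'.symm
  haveI := P.2.center_nontrivial
  obtain ⟨j, hj0, hjc⟩ := (P.2.to_subgroup (Subgroup.center (P : Subgroup f.ker))).nontrivial_iff_card.mp inferInstance
  obtain ⟨c, hc⟩ := exists_prime_orderOf_dvd_card' (G := Subgroup.center (P : Subgroup f.ker)) r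
    (hjc ▸ dvd_pow_self r (by omega))
  set c₀ : X := (((c : (P : Subgroup f.ker)) : f.ker) : X) with hc₀
  have hco : orderOf c₀ = r := by rw [hc₀, Subgroup.orderOf_coe, Subgroup.orderOf_coe, Subgroup.orderOf_coe, hc]
  have huniq : ∀ e : (P : Subgroup f.ker), orderOf ((e : f.ker) : X) = r → ((e : f.ker) : X) ∈ Subgroup.zpowers c₀ := by
    intro e he
    by_contra hne'
    have hcomm : Commute c₀ ((e : f.ker) : X) :=
      congrArg (fun y : (P : Subgroup f.ker) => ((y : f.ker) : X)) (Subgroup.mem_center_iff.mp c.2 e).symm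
    obtain ⟨y, hy, hyo, v, hv, hv1, hyv⟩ := exists_fixed_pair hL hne hp hexp hr hpr hco he hcomm hne'
    refine hno y ((Subgroup.closure_le f.ker).mpr ?_ hy) hyo v hv hv1 hyv
    rintro w (rfl | rfl)
    · exact ((c : (P : Subgroup f.ker)) : f.ker).2
    · exact (e : f.ker).2
  set P₁ := (P : Subgroup f.ker).map f.ker.subtype with hP₁
  set N := Subgroup.normalizer (P₁ : Set X) with hN
  have hz : Subgroup.zpowers x = Subgroup.zpowers c₀ := Subgroup.eq_of_le_of_card_ge
    (Subgroup.zpowers_le.mpr (huniq ⟨x', hxP⟩ hxo)) (by rw [Nat.card_zpowers, Nat.card_zpowers, hxo, hco])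
  have hNx : ∀ n ∈ N, n * x * n⁻¹ ∈ Subgroup.zpowers x := fun n hn => by
    obtain ⟨e, he, hev⟩ := (Subgroup.mem_normalizer_iff.mp hn x).mp ⟨x', hxP, rfl⟩
    have heo : orderOf ((e : f.ker) : X) = r := by
      have h1 : ((e : f.ker) : X) = MulAut.conj n x := hev
      rw [h1, MulEquiv.orderOf_eq, hxo]
    have h2 := huniq ⟨e, he⟩ heo
    rw [← hz] at h2
    rw [← hev]
    exact h2
  let gN : N →* S := f.comp N.subtype
  have hgN : Function.Surjective gN := (covers_normalizer f hf le_rfl P).surj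
  have hcx : ∀ a : N, ∀ y : X, y ∈ Subgroup.centralizer ({x} : Set X) →
      (a : X) * y * (a : X)⁻¹ ∈ Subgroup.centralizer ({x} : Set X) := fun a y hy => by
    have hcm := (show Commute y x from Subgroup.mem_centralizer_singleton_iff.mp hy)
    obtain ⟨i, hi⟩ := Subgroup.mem_zpowers_iff.mp (hNx _ (inv_mem a.2))
    rw [inv_inv] at hi
    refine Subgroup.mem_centralizer_singleton_iff.mpr ?_
    calc (a : X) * y * (a : X)⁻¹ * x = (a : X) * (y * ((a : X)⁻¹ * x * a)) * (a : X)⁻¹ := by group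
      _ = (a : X) * ((a : X)⁻¹ * x * a * y) * (a : X)⁻¹ := by rw [← hi, (hcm.zpow_right i).eq]
      _ = x * ((a : X) * y * (a : X)⁻¹) := by group
  haveI : ((Subgroup.centralizer ({x} : Set X)).subgroupOf N).Normal := ⟨fun y hy a => hcx a (y : X) hy⟩
  rcases covers_or_le hS gN hgN ((Subgroup.centralizer ({x} : Set X)).subgroupOf N) with hc' | hc'
  · intro a
    obtain ⟨e, he1, he2⟩ := hc' a
    exact ⟨e, he1, he2⟩
  · exfalso
    obtain ⟨a, b, hne'⟩ := hS.nonab
    obtain ⟨a', rfl⟩ := hgN a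
    obtain ⟨b', rfl⟩ := hgN b
    refine hne' ?_
    suffices hc'' : gN ((b' * a')⁻¹ * (a' * b')) = 1 by
      rw [map_mul, map_inv, map_mul, map_mul, inv_mul_eq_one] at hc''
      exact hc''.symm
    refine MonoidHom.mem_ker.mp (hc' ?_)
    have key : ∀ n : N, ∃ i : ℤ, (n : X) * x * (n : X)⁻¹ = x ^ i := fun n => by
      obtain ⟨i, hi⟩ := Subgroup.mem_zpowers_iff.mp (hNx _ n.2)
      exact ⟨i, hi.symm⟩
    obtain ⟨i, hi⟩ := key a'
    obtain ⟨j, hj⟩ := key b'
    show ((b' : X) * a')⁻¹ * ((a' : X) * b') ∈ Subgroup.centralizer ({x} : Set X)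
    have e1 : ((a' : X) * b') * x * ((a' : X) * b')⁻¹ = x ^ (i * j) := by
      rw [show ((a' : X) * b') * x * ((a' : X) * b')⁻¹ = (a' : X) * ((b' : X) * x * (b' : X)⁻¹) * (a' : X)⁻¹ by group,
        hj, ← conj_zpow, hi, ← zpow_mul]
    have e2 : ((b' : X) * a') * x * ((b' : X) * a')⁻¹ = x ^ (i * j) := by
      rw [show ((b' : X) * a') * x * ((b' : X) * a')⁻¹ = (b' : X) * ((a' : X) * x * (a' : X)⁻¹) * (b' : X)⁻¹ by group,
        hi, ← conj_zpow, hj, ← zpow_mul, mul_comm]
    rw [Subgroup.mem_centralizer_singleton_iff]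
    calc ((b' : X) * a')⁻¹ * ((a' : X) * b') * x
        = ((b' : X) * a')⁻¹ * (((a' : X) * b') * x * ((a' : X) * b')⁻¹) * ((a' : X) * b') := by group
      _ = ((b' : X) * a')⁻¹ * (((b' : X) * a') * x * ((b' : X) * a')⁻¹) * ((a' : X) * b') := by rw [e1, e2]
      _ = x * (((b' : X) * a')⁻¹ * ((a' : X) * b')) := by group

end CfsgLib.SzPairGen
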