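import Cfsg.Agent.Lib.SzPairGen.Comp

/-!
Almost-simple-by-solvable groups are excluded; two components have the full level.
-/

set_option autoImplicit false
set_option maxHeartbeats 1000000
set_option linter.style.haveILetI false
set_option linter.unusedSectionVars false

namespace CfsgLib.SzPairGen

open scoped commutatorElement

universe u v w

variable {G : Type u} [Group G] [Finite G] {m : ℕ}

/-- Elements of order prime to `N` lie in a subgroup containing all `N`-th powers. -/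
theorem mem_of_pow_mem {H : Subgroup G} {N : ℕ} {g : G} (hg : g ^ N ∈ H) (hco : (orderOf g).Coprime N) :
    g ∈ H := by
  obtain ⟨j, hj⟩ := exists_pow_eq_self_of_coprime hco.symm
  exact hj ▸ pow_mem hg j

/-- Primitive primes of `2 ^ N - 1`, for the two exponents used. -/
theorem level_of_prime {F : Type v} [Field F] [Fintype F] {n : ℕ} (hF : Fintype.card F = 2 ^ (2 * n + 1))
    (hn : 1 ≤ n) {r N : ℕ} (hr : r.Prime) (hr2 : r ≠ 2) (hprim : ∀ g : ℕ, 1 ≤ g → r ∣ 2 ^ g - 1 → N ∣ g)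
    (a : ↥(Cfsg.Sz F n)) (hd : r ∣ orderOf a) : N ∣ 4 * (2 * n + 1) := by
  refine hprim _ (by omega) ?_
  have e : 2 ^ (4 * (2 * n + 1)) - 1 = ((2 ^ (2 * n + 1)) ^ 2 + 1) * ((2 ^ (2 * n + 1) + 1) * tor1 n) := by
    have h1 : 1 ≤ 2 ^ (2 * n + 1) := Nat.one_le_two_pow
    obtain ⟨b, hb⟩ := Nat.exists_eq_add_of_le h1
    rw [mul_comm 4, pow_mul]
    unfold tor1
    rw [hb, Nat.add_sub_cancel_left]
    refine Nat.sub_eq_of_eq_add ?_
    ring
  rcases orderOf_dvd hF hn a with h | h | h | h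
  · exact absurd ((Nat.prime_dvd_prime_iff_eq hr Nat.prime_two).mp
      (hr.dvd_of_dvd_pow (show r ∣ 2 ^ 2 from hd.trans h))) hr2
  · exact e ▸ ((hd.trans h).trans (dvd_mul_left _ _)).trans (dvd_mul_left _ _)
  · exact e ▸ (dvd_sq_add (Or.inl (hd.trans h))).trans (dvd_mul_right _ _)
  · exact e ▸ (dvd_sq_add (Or.inr (hd.trans h))).trans (dvd_mul_right _ _)

/-- The primes used to separate the classes. -/
theorem exists_reps (hm : 1 ≤ m) (hm2 : m ≠ 2) : ∃ p r s : ℕ, p.Prime ∧ r.Prime ∧ s.Prime ∧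
    p ∣ tor1 m ∧ r ∣ torP m ∧ s ∣ torM m ∧ ¬ p ∣ 2 * m + 1 ∧ ¬ r ∣ 2 * m + 1 ∧ ¬ s ∣ 2 * m + 1 := by
  obtain ⟨p, hp, hpd, hpn, -⟩ := exists_ppd (n := 2 * m + 1) (by omega) (by omega)
  obtain ⟨r, hr, hrd, hrn⟩ := exists_torP hm hm2
  obtain ⟨s, hs, hsd, hsn⟩ := exists_torM hm hm2
  exact ⟨p, r, s, hp, hr, hs, hpd, hrd, hsd, fun e => absurd (Nat.le_of_dvd (by omega) e) (by omega), hrn, hsn⟩

/-- The level-`m` pairs of prime orders. -/
def Pairs (m : ℕ) (G : Type u) [Group G] : Prop :=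
  ∀ r s : ℕ, r.Prime → s.Prime → r ≠ s → (r = 2 ∨ r ∣ tor1 m ∨ r ∣ (2 ^ (2 * m + 1)) ^ 2 + 1) →
    (s = 2 ∨ s ∣ tor1 m ∨ s ∣ (2 ^ (2 * m + 1)) ^ 2 + 1) → ∃ g : G, orderOf g = r * s

/-- The spectrum is not that of an almost simple group by a solvable one. -/
theorem no_one_case (hm : 1 ≤ m) (hm2 : m ≠ 2) (h : Orders m G) (hpairs : Pairs m G) {G1 : Subgroup G}
    (hpow : ∀ g : G, g ^ (2 * m + 1) ∈ G1) {F : Type v} [Field F] [Fintype F] {n : ℕ}
    (hF : Fintype.card F = 2 ^ (2 * n + 1)) (hn : 1 ≤ n) (f : G1 →* ↥(Cfsg.Sz F n))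
    (hf : Function.Surjective f) (hK : Group.IsSolvable f.ker) : False := by
  classical
  have h1 := h.subgroup G1
  have hS := shape_model hF hn (h1.of_surjective f hf)
  haveI := finite_model hF hn
  obtain ⟨p, r, s, hp, hr, hs, hpd, hrd, hsd, hpn, hrn, hsn⟩ := exists_reps hm hm2
  set T : Finset ℕ := {2, p, r, s} with hT
  have hTp : ∀ a ∈ T, a.Prime ∧ ¬ a ∣ 2 * m + 1 ∧ (a = 2 ∨ a ∣ tor1 m ∨ a ∣ (2 ^ (2 * m + 1)) ^ 2 + 1) := by
    intro a ha
    simp only [hT, Finset.mem_insert, Finset.mem_singleton] at ha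
    rcases ha with rfl | rfl | rfl | rfl
    · exact ⟨Nat.prime_two, by omega, Or.inl rfl⟩
    · exact ⟨hp, hpn, Or.inr (Or.inl hpd)⟩
    · exact ⟨hr, hrn, Or.inr (Or.inr (dvd_sq_add (Or.inl hrd)))⟩
    · exact ⟨hs, hsn, Or.inr (Or.inr (dvd_sq_add (Or.inr hsd)))⟩
  have cp := cls_one hpd
  have cr := cls_torP hr hrd
  have cs := cls_torM hs hsd
  have hcls : ∀ a ∈ T, ∀ b ∈ T, a ≠ b → cls m a ≠ cls m b := by
    intro a ha b hb hab
    simp only [hT, Finset.mem_insert, Finset.mem_singleton] at ha hb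
    rcases ha with rfl | rfl | rfl | rfl <;> rcases hb with rfl | rfl | rfl | rfl <;>
      simp only [cls_two, cp, cr, cs] <;> omega
  have hmem : ∀ g : G, (orderOf g).Coprime (2 * m + 1) → g ∈ G1 := fun g hg => mem_of_pow_mem (hpow g) hg
  have hcop : ∀ a ∈ T, a.Coprime (2 * m + 1) := fun a ha =>
    (hTp a ha).1.coprime_iff_not_dvd.mpr (hTp a ha).2.1
  have key : ∀ q ∈ T, q ≠ 2 → q ∣ Nat.card f.ker := by
    intro q hqT hq2
    by_contra hqd
    obtain ⟨hq, hqn, hqs⟩ := hTp q hqT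
    haveI := Fact.mk hq
    obtain ⟨P⟩ : Nonempty (Sylow q G) := inferInstance
    have hP1 : ∀ x ∈ (P : Subgroup G), x ∈ G1 := fun x hx => by
      obtain ⟨k, hk⟩ := P.isPGroup' ⟨x, hx⟩
      refine hmem x ((Nat.Coprime.coprime_dvd_left (orderOf_dvd_of_pow_eq_one
        (show x ^ q ^ k = 1 by simpa using congrArg Subtype.val hk)) ((hcop q hqT).pow_left k)))
    let ι : P →* ↥(Cfsg.Sz F n) := f.comp (Subgroup.inclusion hP1)
    have hι : Function.Injective ι := (injective_iff_map_eq_one ι).mpr fun x hx => by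
      obtain ⟨k, hk⟩ := P.isPGroup' x
      by_contra hx1
      refine hqd ((dvd_orderOf hq hk hx1).trans ?_)
      have hm' : Subgroup.inclusion hP1 x ∈ f.ker := hx
      have h3 := Subgroup.orderOf_dvd_natCard f.ker hm'
      rwa [orderOf_injective _ (Subgroup.inclusion_injective hP1)] at h3
    obtain ⟨P', hP'⟩ := (P.isPGroup'.of_surjective ι.rangeRestrict ι.rangeRestrict_surjective).exists_le_sylow
    haveI : IsCyclic P' := Suzuki.isCyclic_sylow_odd hF hn hq2 P'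
    haveI : IsCyclic P :=
      isCyclic_of_injective ((Subgroup.inclusion hP').comp ι.rangeRestrict) fun a b e => hι
        (congrArg (fun y : P' => (y : ↥(Cfsg.Sz F n))) e)
    -- an element of order `q`
    obtain ⟨g₀, hg₀⟩ := hpairs q 2 hq Nat.prime_two hq2 hqs (Or.inl rfl)
    have hqG : q ∣ Nat.card P := by
      refine (Sylow.dvd_card_of_dvd_card P) ?_
      exact (hg₀ ▸ dvd_mul_right q 2).trans (orderOf_dvd_natCard g₀)
    obtain ⟨a, ha⟩ := exists_prime_orderOf_dvd_card' (G := P) q hqG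
    have haG : orderOf (a : G) = q := by rw [Subgroup.orderOf_coe, ha]
    have haq : (a : G) ∈ G1 := hP1 _ a.2
    set C : Subgroup G1 := Subgroup.centralizer ({(⟨a, haq⟩ : G1)} : Set G1) with hC
    have hCsol : Group.IsSolvable C := by
      let g : C →* ↥(Cfsg.Sz F n) := f.comp C.subtype
      have hfa : (f ⟨a, haq⟩) ^ 4 ≠ 1 := fun e => by
        have hfa1 : f ⟨a, haq⟩ ≠ 1 := fun e1 => by
          have h2 : ι a = 1 := e1
          rw [(injective_iff_map_eq_one ι).mp hι a h2, orderOf_one] at ha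
          exact hq.ne_one ha.symm
        refine hfa1 (eq_one_of_pows hq Nat.prime_two hq2 (i := 1) (j := 2) ?_ e)
        rw [pow_one, ← map_pow, ← map_one f]
        exact congrArg f (Subtype.ext (by rw [Subgroup.coe_pow, Subgroup.coe_one]; exact orderOf_dvd_iff_pow_eq_one.mp haG.dvd))
      haveI : Group.IsSolvable g.range := Group.isSolvable_of_comm fun x y => by
        obtain ⟨_, c, rfl⟩ := x
        obtain ⟨_, d, rfl⟩ := y
        refine Subtype.ext (centralizer_comm hF hn _ hfa (g c) (g d) ?_ ?_)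
        · exact Commute.map (Subgroup.mem_centralizer_singleton_iff.mp c.2 : Commute (c : G1) _) f
        · exact Commute.map (Subgroup.mem_centralizer_singleton_iff.mp d.2 : Commute (d : G1) _) f
      haveI := hK
      haveI : Group.IsSolvable g.ker := Group.isSolvable_of_isSolvable_injective
        (f := (C.subtype.comp g.ker.subtype).codRestrict f.ker fun x => x.2)
        fun x y e => Subtype.ext (Subtype.ext (congrArg (fun z : f.ker => (z : G1)) e :))
      exact Group.isSolvable_of_ker_le_range g.ker.subtype g.rangeRestrict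
        (by rw [MonoidHom.ker_rangeRestrict, Subgroup.range_subtype])
    have hdiv : ∀ t ∈ T, t ≠ q → t ∣ Nat.card C := by
      intro t htT htq
      obtain ⟨ht, htn, hts⟩ := hTp t htT
      obtain ⟨g, hg⟩ := hpairs q t hq ht (Ne.symm htq) hqs hts
      have hb : orderOf (g ^ t) = q := by
        rw [orderOf_pow, hg, Nat.gcd_eq_right (dvd_mul_left t q), Nat.mul_div_cancel q ht.pos]
      have hc : orderOf (g ^ q) = t := by
        rw [orderOf_pow, hg, Nat.gcd_eq_right (dvd_mul_right q t), Nat.mul_div_cancel_left t hq.pos]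
      obtain ⟨P₂, hP₂⟩ : ∃ P₂ : Sylow q G, Subgroup.zpowers (g ^ t) ≤ P₂ :=
        (IsPGroup.of_card (n := 1) (by rw [Nat.card_zpowers, hb, pow_one])).exists_le_sylow
      obtain ⟨y, hy⟩ := MulAction.exists_smul_eq G P₂ P
      have hbP : y * g ^ t * y⁻¹ ∈ (P : Subgroup G) := by
        rw [← hy, Sylow.coe_subgroup_smul]
        exact Subgroup.mem_map.mpr ⟨g ^ t, hP₂ (Subgroup.mem_zpowers _), rfl⟩
      set b : P := ⟨_, hbP⟩ with hbdef
      have hbo : orderOf b = q := by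
        rw [← Subgroup.orderOf_coe, hbdef]
        show orderOf (y * g ^ t * y⁻¹) = q
        rw [← MulAut.conj_apply, MulEquiv.orderOf_eq, hb]
      obtain ⟨i, hi⟩ : ∃ i : ℤ, b ^ i = a := by
        rw [← Subgroup.mem_zpowers_iff]
        haveI : Fintype P := Fintype.ofFinite _
        have hsub : (Subgroup.zpowers b : Set P).toFinset ⊆ Finset.univ.filter fun x : P => x ^ q = 1 := by
          intro x hx
          rw [Set.mem_toFinset, SetLike.mem_coe, Subgroup.mem_zpowers_iff] at hx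
          obtain ⟨i, rfl⟩ := hx
          simp only [Finset.mem_filter, Finset.mem_univ, true_and]
          rw [← zpow_natCast, ← zpow_mul, mul_comm, zpow_mul, zpow_natCast, orderOf_dvd_iff_pow_eq_one.mp hbo.dvd, one_zpow]
        have hcard : (Finset.univ.filter fun x : P => x ^ q = 1).card ≤ (Subgroup.zpowers b : Set P).toFinset.card := by
          refine (IsCyclic.card_pow_eq_one_le hq.pos).trans ?_
          rw [Set.toFinset_card, ← Nat.card_eq_fintype_card]
          exact (hbo ▸ Nat.card_zpowers b).ge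
        have ha' : a ∈ Finset.univ.filter fun x : P => x ^ q = 1 := by
          simp only [Finset.mem_filter, Finset.mem_univ, true_and]
          exact orderOf_dvd_iff_pow_eq_one.mp ha.dvd
        rw [← Finset.eq_of_subset_of_card_le hsub hcard, Set.mem_toFinset] at ha'
        exact ha'
      set c : G := y * g ^ q * y⁻¹ with hcdef
      have hco : orderOf c = t := by rw [hcdef, ← MulAut.conj_apply, MulEquiv.orderOf_eq, hc]
      have hcm : Commute c (a : G) := by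
        rw [← hi, Subgroup.coe_zpow]
        exact (((Commute.refl g).pow_pow q t).map (MulAut.conj y).toMonoidHom).zpow_right i
      have hc1 : c ∈ G1 := hmem c (hco ▸ hcop t htT)
      have h4 := Subgroup.orderOf_dvd_natCard C
        (x := (⟨c, hc1⟩ : G1)) (Subgroup.mem_centralizer_singleton_iff.mpr (Subtype.ext hcm.eq))
      rwa [Subgroup.orderOf_mk, hco] at h4
    obtain ⟨t₁, t₂, t₃, hT1, hT2, hT3, h12, h13, h23, q1, q2, q3⟩ : ∃ t₁ t₂ t₃ : ℕ, t₁ ∈ T ∧ t₂ ∈ T ∧ t₃ ∈ T ∧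
        t₁ ≠ t₂ ∧ t₁ ≠ t₃ ∧ t₂ ≠ t₃ ∧ t₁ ≠ q ∧ t₂ ≠ q ∧ t₃ ≠ q := by
      have hne : ∀ a b : ℕ, cls m a ≠ cls m b → a ≠ b := fun a b hab e => hab (e ▸ rfl)
      have n1 : (2 : ℕ) ≠ p := hne _ _ (by rw [cls_two, cp]; omega)
      have n2 : (2 : ℕ) ≠ r := hne _ _ (by rw [cls_two, cr]; omega)
      have n3 : (2 : ℕ) ≠ s := hne _ _ (by rw [cls_two, cs]; omega)
      have n4 : p ≠ r := hne _ _ (by rw [cp, cr]; omega)
      have n5 : p ≠ s := hne _ _ (by rw [cp, cs]; omega)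
      have n6 : r ≠ s := hne _ _ (by rw [cr, cs]; omega)
      have hq' := hqT
      simp only [hT, Finset.mem_insert, Finset.mem_singleton] at hq'
      rcases hq' with rfl | rfl | rfl | rfl
      · exact absurd rfl hq2
      · exact ⟨2, r, s, by simp [hT], by simp [hT], by simp [hT], n2, n3, n6, n1, n4.symm, n5.symm⟩
      · exact ⟨2, p, s, by simp [hT], by simp [hT], by simp [hT], n1, n3, n5, n2, n4, n6.symm⟩
      · exact ⟨2, p, r, by simp [hT], by simp [hT], by simp [hT], n1, n2, n4, n3, n5, n6⟩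
    refine lucido hCsol (hTp _ hT1).1 (hTp _ hT2).1 (hTp _ hT3).1 h12 h13 h23 (hdiv _ hT1 q1) (hdiv _ hT2 q2)
      (hdiv _ hT3 q3) fun g hg a' ha' b' hb' hab da db => ?_
    have hsub : ∀ x ∈ ({t₁, t₂, t₃} : Finset ℕ), x ∈ T ∧ x ≠ q := fun x hx => by
      simp only [Finset.mem_insert, Finset.mem_singleton] at hx
      rcases hx with rfl | rfl | rfl <;> exact ⟨by assumption, by assumption⟩
    have hcm : Commute (a : G) (g : G) :=
      (congrArg Subtype.val (Subgroup.mem_centralizer_singleton_iff.mp hg) : (g : G) * a = a * g).symm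
    exact h.triple hq (hTp _ (hsub a' ha').1).1 (hTp _ (hsub b' hb').1).1 haG.symm.dvd
      (b := (g : G)) (c := (g : G)) (by rwa [Subgroup.orderOf_coe]) (by rwa [Subgroup.orderOf_coe])
      hcm hcm (Commute.refl _)
      (hcls _ hqT _ (hsub a' ha').1 (hsub a' ha').2.symm) (hcls _ hqT _ (hsub b' hb').1 (hsub b' hb').2.symm)
      (hcls _ (hsub a' ha').1 _ (hsub b' hb').1 hab)
  have hp2 := ne_two (Or.inl hpd : p ∣ tor1 m ∨ p ∣ torP m ∨ p ∣ torM m)
  have hr2 := ne_two (Or.inr (Or.inl hrd) : r ∣ tor1 m ∨ r ∣ torP m ∨ r ∣ torM m)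
  have hs2 := ne_two (Or.inr (Or.inr hsd) : s ∣ tor1 m ∨ s ∣ torP m ∨ s ∣ torM m)
  exact no_single h1 hS f hf hK hp hr hs cp cr cs (key p (by simp [hT]) hp2) (key r (by simp [hT]) hr2)
    (key s (by simp [hT]) hs2)

/-- Two components are of level `m`, without solvable part. -/
theorem two_case (hm : 1 ≤ m) (h : Orders m G) (hpairs : Pairs m G) {H : Subgroup G}
    (hpow : ∀ g : G, g ^ (2 * (2 * m + 1)) ∈ H) {F₁ : Type v} [Field F₁] [Fintype F₁] {n₁ : ℕ}
    (hF₁ : Fintype.card F₁ = 2 ^ (2 * n₁ + 1)) (hn₁ : 1 ≤ n₁) (hd₁ : 2 * n₁ + 1 ∣ 2 * m + 1)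
    {F₂ : Type w} [Field F₂] [Fintype F₂] {n₂ : ℕ}
    (hF₂ : Fintype.card F₂ = 2 ^ (2 * n₂ + 1)) (hn₂ : 1 ≤ n₂) (hd₂ : 2 * n₂ + 1 ∣ 2 * m + 1)
    (f : H →* ↥(Cfsg.Sz F₁ n₁) × ↥(Cfsg.Sz F₂ n₂))
    (hf : Function.Surjective f) (hK : Group.IsSolvable f.ker) : f.ker = ⊥ ∧ n₁ = m ∧ n₂ = m := by
  classical
  have hH := h.subgroup H
  haveI := finite_model hF₁ hn₁
  haveI := finite_model hF₂ hn₂
  have hS₁ := shape_model hF₁ hn₁ (hH.of_surjective ((MonoidHom.fst _ _).comp f) (Prod.fst_surjective.comp hf))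
  have hS₂ := shape_model hF₂ hn₂ (hH.of_surjective ((MonoidHom.snd _ _).comp f) (Prod.snd_surjective.comp hf))
  obtain ⟨p, hp, hpd, hpn, hpp⟩ := exists_ppd (n := 2 * m + 1) (by omega) (by omega)
  obtain ⟨s, hs, hsd, hsn, hsp⟩ := exists_ppd (n := 4 * (2 * m + 1)) (by omega) (by omega)
  have hp2 : p ≠ 2 := by omega
  have hs2 : s ≠ 2 := by omega
  have hsq : s ∣ (2 ^ (2 * m + 1)) ^ 2 + 1 := by
    have e : 2 ^ (4 * (2 * m + 1)) - 1 = (2 ^ (2 * (2 * m + 1)) - 1) * ((2 ^ (2 * m + 1)) ^ 2 + 1) := by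
      rw [show (2 ^ (2 * m + 1)) ^ 2 = 2 ^ (2 * (2 * m + 1)) by rw [← pow_mul, mul_comm],
        show 4 * (2 * m + 1) = 2 * (2 * m + 1) + 2 * (2 * m + 1) by ring, pow_add, mul_comm (_ - 1)]
      generalize 2 ^ (2 * (2 * m + 1)) = a
      rw [← Nat.sq_sub_sq, one_pow, pow_two]
    rw [e] at hsd
    refine (hs.dvd_mul.mp hsd).resolve_left fun h2 => ?_
    have := Nat.le_of_dvd (by omega) (hsp _ (by omega) h2)
    omega
  obtain ⟨hs0, hs1⟩ := cls_sq hs hsq
  have hcp : cls m p = 1 := cls_one hpd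
  have hps : p ≠ s := fun e => hs1 (e ▸ hcp)
  have hN : (p * s).Coprime (2 * (2 * m + 1)) := by
    refine Nat.Coprime.mul_left ?_ ?_
    · exact Nat.Coprime.mul_right ((Nat.coprime_primes hp Nat.prime_two).mpr hp2)
        (hp.coprime_iff_not_dvd.mpr fun e => absurd (Nat.le_of_dvd (by omega) e) (by omega))
    · exact Nat.Coprime.mul_right ((Nat.coprime_primes hs Nat.prime_two).mpr hs2)
        (hs.coprime_iff_not_dvd.mpr fun e => absurd (Nat.le_of_dvd (by omega) e) (by omega))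
  obtain ⟨g, hg⟩ := hpairs p s hp hs hps (Or.inr (Or.inl hpd)) (Or.inr (Or.inr hsq))
  have hgH : g ∈ H := mem_of_pow_mem (hpow g) (hg ▸ hN)
  set g' : H := ⟨g, hgH⟩ with hg'
  have hgo : orderOf g' = p * s := by rw [← Subgroup.orderOf_coe, hg', hg]
  -- the second prime is seen in a factor
  have hsker : ¬ s ∣ Nat.card f.ker := fun e => hs1 (double_cls hH hS₁ hS₂ f hf hK hs e)
  have hsf : s ∣ orderOf (f g') := by
    by_contra hns
    have hd : orderOf (f g') ∣ p := by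
      have h2 := orderOf_map_dvd f g'
      rw [hgo] at h2
      exact (hs.coprime_iff_not_dvd.mpr hns).symm.dvd_of_dvd_mul_right h2
    have hm' : g' ^ p ∈ f.ker := by
      rw [MonoidHom.mem_ker, map_pow]
      exact orderOf_dvd_iff_pow_eq_one.mp hd
    have h3 := Subgroup.orderOf_dvd_natCard f.ker hm'
    rw [orderOf_pow, hgo, Nat.gcd_eq_right (dvd_mul_right p s), Nat.mul_div_cancel_left s hp.pos] at h3
    exact hsker h3
  have split : ∀ (y : ↥(Cfsg.Sz F₁ n₁) × ↥(Cfsg.Sz F₂ n₂)) (r : ℕ), r.Prime → r ∣ orderOf y →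
      r ∣ orderOf y.1 ∨ r ∣ orderOf y.2 := fun y r hr hd => by
    rw [Prod.orderOf] at hd
    exact hr.dvd_mul.mp (hd.trans (Nat.lcm_dvd_mul _ _))
  have eq_level : ∀ n, 2 * n + 1 ∣ 2 * m + 1 → 4 * (2 * m + 1) ∣ 4 * (2 * n + 1) ∨ 2 * m + 1 ∣ 4 * (2 * n + 1) →
      n = m := fun n hd hN' => by
    have h1 : 2 * m + 1 ∣ 4 * (2 * n + 1) := hN'.elim (fun e => (dvd_mul_left _ 4).trans e) id
    have h2 : 2 * m + 1 ∣ 2 * n + 1 := by
      refine Nat.Coprime.dvd_of_dvd_mul_left ?_ h1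
      exact ((Nat.prime_two.coprime_iff_not_dvd.mpr (by omega)).pow_left 2).symm
    have := Nat.dvd_antisymm h2 hd
    omega
  have hker : f.ker = ⊥ := by
    rcases split (f g') s hs hsf with e | e
    · obtain rfl := eq_level n₁ hd₁ (Or.inl (level_of_prime hF₁ hn₁ hs hs2 hsp _ e))
      exact double_eq_bot hH hS₁ hS₂ (full_model hF₁ hn₁) f hf hK
    · obtain rfl := eq_level n₂ hd₂ (Or.inl (level_of_prime hF₂ hn₂ hs hs2 hsp _ e))
      let f' : H →* ↥(Cfsg.Sz F₂ n₂) × ↥(Cfsg.Sz F₁ n₁) :=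
        (MulEquiv.prodComm (M := ↥(Cfsg.Sz F₁ n₁)) (N := ↥(Cfsg.Sz F₂ n₂))).toMonoidHom.comp f
      have hk : f'.ker = f.ker := by ext x; simp [f']
      rw [← hk]
      exact double_eq_bot hH hS₂ hS₁ (full_model hF₂ hn₂) f' (MulEquiv.prodComm.surjective.comp hf) (hk ▸ hK)
  refine ⟨hker, ?_⟩
  have ho : orderOf (f g') = p * s := (orderOf_injective f ((f.ker_eq_bot_iff).mp hker) g').trans hgo
  have hpf : p ∣ orderOf (f g') := ho ▸ dvd_mul_right p s
  have l1p : p ∣ orderOf (f g').1 → n₁ = m := fun e => eq_level n₁ hd₁ (Or.inr (level_of_prime hF₁ hn₁ hp hp2 hpp _ e))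
  have l2p : p ∣ orderOf (f g').2 → n₂ = m := fun e => eq_level n₂ hd₂ (Or.inr (level_of_prime hF₂ hn₂ hp hp2 hpp _ e))
  have l1s : s ∣ orderOf (f g').1 → n₁ = m := fun e => eq_level n₁ hd₁ (Or.inl (level_of_prime hF₁ hn₁ hs hs2 hsp _ e))
  have l2s : s ∣ orderOf (f g').2 → n₂ = m := fun e => eq_level n₂ hd₂ (Or.inl (level_of_prime hF₂ hn₂ hs hs2 hsp _ e))
  rcases split _ p hp hpf with a | a <;> rcases split _ s hs hsf with b | b
  · obtain rfl := l1p a
    exact absurd (cls_eq hF₁ hn₁ _ hp hs a b) (by rw [hcp]; exact hs1.symm)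
  · exact ⟨l1p a, l2s b⟩
  · exact ⟨l1s b, l2p a⟩
  · obtain rfl := l2p a
    exact absurd (cls_eq hF₂ hn₂ _ hp hs a b) (by rw [hcp]; exact hs1.symm)

end CfsgLib.SzPairGen
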