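import Cfsg.Agent.Lib.SzPairGen.Double
import Cfsg.Agent.Lib.Suzuki.Partition
import Cfsg.Agent.Lib.Suzuki.Sylow
import Cfsg.Agent.Lib.Suzuki.Aut
import Cfsg.Agent.Lib.Suzuki.Fixed
import Cfsg.Agent.Lib.Suzuki.Subfield

/-!
The Suzuki groups as models for `Shape` and `Full`, and the element orders of the square.
-/

set_option autoImplicit false
set_option maxHeartbeats 1000000
set_option linter.style.haveILetI false
set_option linter.unusedSectionVars false

namespace CfsgLib.SzPairGen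

open scoped commutatorElement

universe v

variable {F : Type v} [Field F] [Fintype F] {n : ℕ} (hF : Fintype.card F = 2 ^ (2 * n + 1))
include hF

theorem finite_model (hn : 1 ≤ n) : Finite ↥(Cfsg.Sz F n) :=
  Nat.finite_of_card_ne_zero (by
    rw [Suzuki.card_Sz hF hn]
    have : 2 ^ (2 * n + 1) = 2 * 2 ^ (2 * n) := pow_succ' 2 (2 * n)
    have := Nat.two_pow_pos (2 * n)
    exact Nat.mul_ne_zero (Nat.mul_ne_zero (pow_ne_zero _ (by omega)) (by omega)) (by omega))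

theorem pow_four_U {u : ↥(Cfsg.Sz F n)} (hu : u ∈ Suzuki.U hF) : u ^ 4 = 1 := by
  obtain ⟨a, b, rfl⟩ := (Suzuki.mem_U hF).mp hu
  rw [show ∀ x : ↥(Cfsg.Sz F n), x ^ 4 = x * x * (x * x) from fun x => by simp [pow_succ, mul_assoc],
    Suzuki.uS_sq, Suzuki.uS_sq, Suzuki.th_zero, zero_mul, Suzuki.uS_zero]

theorem pow_four_conj {g k : ↥(Cfsg.Sz F n)} (hk : k⁻¹ * g * k ∈ Suzuki.U hF) : g ^ 4 = 1 := by
  have h4 := pow_four_U hF hk
  have e : (k⁻¹ * g * k) ^ 4 = k⁻¹ * g ^ 4 * k := by simpa using conj_pow (i := 4) (a := k⁻¹) (b := g)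
  rw [e] at h4
  simpa [mul_assoc] using congrArg (fun x => k * x * k⁻¹) h4

/-- The four kinds of element orders. -/
theorem orderOf_dvd (hn : 1 ≤ n) (g : ↥(Cfsg.Sz F n)) :
    orderOf g ∣ 4 ∨ orderOf g ∣ tor1 n ∨ orderOf g ∣ torP n ∨ orderOf g ∣ torM n := by
  haveI := finite_model hF hn
  by_cases hg : g = 1
  · exact Or.inl (by rw [hg, orderOf_one]; exact one_dvd _)
  obtain ⟨Ap, Am, -, hAp, -, -, -, hAm, -, -, hall⟩ := Suzuki.classify hF hn
  rcases hall g hg with h | h | h | h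
  · obtain ⟨-, k, hk⟩ := h
    exact Or.inl (orderOf_dvd_of_pow_eq_one (pow_four_conj hF hk))
  · exact Or.inr (Or.inl ((Suzuki.orderOf_dvd_of_conjSet _ h).trans (by rw [Suzuki.card_T])))
  · exact Or.inr (Or.inr (Or.inl ((Suzuki.orderOf_dvd_of_conjSet _ h).trans (by rw [hAp]))))
  · exact Or.inr (Or.inr (Or.inr ((Suzuki.orderOf_dvd_of_conjSet _ h).trans (by rw [hAm]))))

theorem orderOf_dvd_all (hn : 1 ≤ n) (g : ↥(Cfsg.Sz F n)) : orderOf g ∣ tor1 n * (4 * (torP n * torM n)) := by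
  rcases orderOf_dvd hF hn g with h | h | h | h
  · exact h.trans ((dvd_mul_right _ _).trans (dvd_mul_left _ _))
  · exact h.trans (dvd_mul_right _ _)
  · exact h.trans (((dvd_mul_right _ _).trans (dvd_mul_left _ _)).trans (dvd_mul_left _ _))
  · exact h.trans (((dvd_mul_left _ _).trans (dvd_mul_left _ _)).trans (dvd_mul_left _ _))

/-- No element joins two classes of the own level. -/
theorem cls_eq (hn : 1 ≤ n) (g : ↥(Cfsg.Sz F n)) {r s : ℕ} (hr : r.Prime) (hs : s.Prime) (dr : r ∣ orderOf g)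
    (ds : s ∣ orderOf g) : cls n r = cls n s := by
  have two : ∀ {x : ℕ}, x.Prime → x ∣ 4 → cls n x = 0 := fun hx hd => by
    rw [(Nat.prime_dvd_prime_iff_eq hx Nat.prime_two).mp (hx.dvd_of_dvd_pow (show _ ∣ 2 ^ 2 from hd)), cls_two]
  rcases orderOf_dvd hF hn g with h | h | h | h
  · rw [two hr (dr.trans h), two hs (ds.trans h)]
  · rw [cls_one (dr.trans h), cls_one (ds.trans h)]
  · rw [cls_torP hr (dr.trans h), cls_torP hs (ds.trans h)]
  · rw [cls_torM hr (dr.trans h), cls_torM hs (ds.trans h)]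

theorem spec_model (hn : 1 ≤ n) {r : ℕ} (hr : r.Prime) {g : ↥(Cfsg.Sz F n)} (hd : r ∣ orderOf g) : InSpec n r := by
  rcases orderOf_dvd hF hn g with h | h | h | h
  · exact Or.inl ((Nat.prime_dvd_prime_iff_eq hr Nat.prime_two).mp (hr.dvd_of_dvd_pow (show r ∣ 2 ^ 2 from hd.trans h)))
  · exact Or.inr (Or.inl (hd.trans h))
  · exact Or.inr (Or.inr (Or.inl (hd.trans h)))
  · exact Or.inr (Or.inr (Or.inr (hd.trans h)))

theorem dvd_card_model (hn : 1 ≤ n) {r : ℕ} (h : r ∣ tor1 n ∨ r ∣ (2 ^ (2 * n + 1)) ^ 2 + 1) :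
    r ∣ Nat.card ↥(Cfsg.Sz F n) := by
  rw [Suzuki.card_Sz hF hn]
  rcases h with h | h
  · exact h.trans (dvd_mul_left _ _)
  · exact h.trans ((dvd_mul_left _ _).trans (dvd_mul_right _ _))

theorem exists_order (hn : 1 ≤ n) {r : ℕ} (hr : r.Prime) (h : r ∣ tor1 n ∨ r ∣ (2 ^ (2 * n + 1)) ^ 2 + 1) :
    ∃ a : ↥(Cfsg.Sz F n), orderOf a = r := by
  haveI := finite_model hF hn
  haveI := Fact.mk hr
  exact exists_prime_orderOf_dvd_card' r (dvd_card_model hF hn h)

theorem centralizer_comm (hn : 1 ≤ n) (a : ↥(Cfsg.Sz F n)) (ha : a ^ 4 ≠ 1) (x y : ↥(Cfsg.Sz F n))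
    (hx : Commute x a) (hy : Commute y a) : Commute x y := by
  haveI := finite_model hF hn
  obtain ⟨Ap, Am, cp, -, up, -, cm, -, um, -, hall⟩ := Suzuki.classify hF hn
  have ha1 : a ≠ 1 := fun e => ha (by rw [e, one_pow])
  have main : ∀ H : Subgroup ↥(Cfsg.Sz F n), IsCyclic H →
      (∀ h ∈ H, h ≠ 1 → Subgroup.centralizer ({h} : Set ↥(Cfsg.Sz F n)) ≤ H) → a ∈ Suzuki.conjSet H →
      Commute x y := by
    intro H hH hle haH
    obtain ⟨h1, k, hk⟩ := haH
    have hsub := Suzuki.centralizer_le_map_conj H hle h1 hk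
    have hx' := (Suzuki.mem_map_conj_iff H k x).mp (hsub (Subgroup.mem_centralizer_singleton_iff.mpr hx.eq))
    have hy' := (Suzuki.mem_map_conj_iff H k y).mp (hsub (Subgroup.mem_centralizer_singleton_iff.mpr hy.eq))
    letI : CommGroup H := IsCyclic.commGroup
    have hc : Commute (k⁻¹ * x * k) (k⁻¹ * y * k) := congrArg Subtype.val (mul_comm (⟨_, hx'⟩ : H) ⟨_, hy'⟩)
    have := hc.map (MulAut.conj k).toMonoidHom
    simpa [mul_assoc] using this
  rcases hall a ha1 with h | h | h | h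
  · obtain ⟨-, k, hk⟩ := h
    exact absurd (pow_four_conj hF hk) ha
  · exact main _ (Suzuki.isCyclic_T hF) (Suzuki.centralizer_T_le hF hn) h
  · exact main _ cp (fun u hu h1 => (up u hu h1).le) h
  · exact main _ cm (fun u hu h1 => (um u hu h1).le) h

theorem exists_dS_order {d : ℕ} (hd : d ∣ tor1 n) :
    ∃ s : Fˣ, orderOf s = d ∧ orderOf (Suzuki.dS hF s) = d := by
  obtain ⟨g, hg⟩ := IsCyclic.exists_generator (α := Fˣ)
  have hc : orderOf g = tor1 n := by
    rw [orderOf_eq_card_of_forall_mem_zpowers hg, Nat.card_units, Nat.card_eq_fintype_card, hF]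
  obtain ⟨c, hc'⟩ := hd
  have hc0 : c ≠ 0 := by
    rintro rfl
    exact (orderOf_pos g).ne' (by rw [hc, hc', mul_zero])
  have ho : orderOf (g ^ c) = d := by
    rw [orderOf_pow' g hc0, hc, hc', Nat.gcd_eq_right (dvd_mul_left c d),
      Nat.mul_div_cancel d (Nat.pos_of_ne_zero hc0)]
  refine ⟨g ^ c, ho, ?_⟩
  rw [show Suzuki.dS hF (g ^ c) = Suzuki.dHomS hF (g ^ c) from rfl,
    orderOf_injective _ (fun s t e => Suzuki.dS_inj hF e), ho]

theorem dS_mem_normalizer_U (hn : 1 ≤ n) (s : Fˣ) :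
    Suzuki.dS hF s ∈ Subgroup.normalizer (Suzuki.U hF : Set ↥(Cfsg.Sz F n)) := by
  haveI := finite_model hF hn
  exact Subgroup.mem_normalizer_fintype fun x hx => by
    obtain ⟨a, b, rfl⟩ := (Suzuki.mem_U hF).mp hx
    exact (Suzuki.mem_U hF).mpr ⟨_, _, Suzuki.dS_uS hF s a b⟩

/-- The torus acts without fixed points on the root group. -/
theorem free_U (hn : 1 ≤ n) {s : Fˣ} (hs : s ≠ 1) {x : ↥(Cfsg.Sz F n)} (hx : x ∈ Suzuki.U hF)
    (hc : Commute (Suzuki.dS hF s) x) : x = 1 := by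
  haveI := finite_model hF hn
  have hxT : x ∈ Suzuki.T hF := by
    rw [← Suzuki.centralizer_torus hF hn hs, Subgroup.mem_centralizer_singleton_iff]
    exact hc.symm.eq
  have h1 := Subgroup.orderOf_dvd_natCard (Suzuki.T hF) hxT
  rw [Suzuki.card_T] at h1
  refine orderOf_eq_one_iff.mp (Nat.eq_one_of_dvd_coprimes ?_ (orderOf_dvd_of_pow_eq_one (pow_four_U hF hx)) h1)
  exact (((Nat.prime_two.coprime_iff_not_dvd).mpr (two_not_dvd n).1).pow_left 2)

theorem shape_model (hn : 1 ≤ n) {m : ℕ} (h : Orders m ↥(Cfsg.Sz F n)) : Shape m ↥(Cfsg.Sz F n) where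
  simple := Suzuki.isSimple hF hn
  nonab := by
    refine ⟨Suzuki.uS hF 1 0, Suzuki.wS hF, fun h => ?_⟩
    have hu1 : Suzuki.uS hF (1 : F) 0 ≠ 1 := fun e =>
      one_ne_zero (Suzuki.uS_inj hF (e.trans (Suzuki.uS_zero hF).symm)).1
    have hw := Suzuki.centralizer_unipotent hF hn ((Suzuki.mem_U hF).mpr ⟨1, 0, rfl⟩) hu1
      (Subgroup.mem_centralizer_singleton_iff.mpr h.symm)
    have hfix := MulAction.mem_stabilizer_iff.mp (Suzuki.U_le_stabInf hF hw)
    rw [Suzuki.smul_wS_inf] at hfix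
    exact Suzuki.pt_ne_inf (m := n) (0 : F) 0 (by rw [Suzuki.pt_zero]; exact hfix)
  four := by
    haveI := finite_model hF hn
    haveI : Fact (Nat.Prime 2) := ⟨Nat.prime_two⟩
    obtain ⟨Ap, Am, -, -, -, -, cm, hAm, um, nm, -⟩ := Suzuki.classify hF hn
    have hAm' : Nat.card Am = torM n := hAm
    obtain ⟨r, hr, hrd⟩ := Nat.exists_prime_and_dvd (n := torM n) (by
      have := torM_big hn
      have := Nat.pow_le_pow_right (show 0 < 2 by norm_num) (show 2 ≤ 2 * n by omega)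
      omega)
    haveI := Fact.mk hr
    have hr2 : r ≠ 2 := ne_two (Or.inr (Or.inr hrd))
    have hr5 : 5 ≤ r := by
      have h3 : r ≠ 3 := fun e => three_not_spec n (Or.inr (Or.inr (Or.inr (e ▸ hrd))))
      have h4 : r ≠ 4 := fun e => by rw [e] at hr; norm_num at hr
      have := hr.two_le
      omega
    set Q := elemCenter Am r with hQ
    have hQle : Q ≤ Am := fun a ha => ha.1
    haveI : IsCyclic Am := cm
    obtain ⟨a0, ha0⟩ := exists_prime_orderOf_dvd_card' (G := Am) r (hAm' ▸ hrd)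
    have haQ : (a0 : ↥(Cfsg.Sz F n)) ∈ Q := ⟨a0.2, by
      have := pow_orderOf_eq_one a0
      rw [ha0] at this
      simpa using congrArg Subtype.val this, fun d hd => by
        letI : CommGroup Am := IsCyclic.commGroup
        exact congrArg Subtype.val (mul_comm a0 ⟨d, hd⟩)⟩
    have ha1 : (a0 : ↥(Cfsg.Sz F n)) ≠ 1 := fun e => hr.ne_one (by
      rw [← ha0, ← Subgroup.orderOf_coe, e, orderOf_one])
    haveI : IsCyclic Q := isCyclic_of_injective (Subgroup.inclusion hQle) (Subgroup.inclusion_injective hQle)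
    have hcardQ : Nat.card Q = r := by
      obtain ⟨g, hg⟩ := IsCyclic.exists_generator (α := Q)
      have h1 : orderOf g ∣ r := orderOf_dvd_of_pow_eq_one (Subtype.ext (by simpa using g.2.2.1))
      rw [← orderOf_eq_card_of_forall_mem_zpowers hg]
      refine ((Nat.dvd_prime hr).mp h1).resolve_left fun e => ha1 ?_
      obtain ⟨i, hi⟩ := Subgroup.mem_zpowers_iff.mp (hg ⟨_, haQ⟩)
      rw [orderOf_eq_one_iff.mp e, one_zpow] at hi
      exact congrArg Subtype.val hi.symm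
    set N := Subgroup.normalizer (Am : Set ↥(Cfsg.Sz F n)) with hN
    obtain ⟨R, hR⟩ := Sylow.exists_subgroup_card_pow_prime 2 (n := 2) (G := N) (by rw [hN, nm]; exact ⟨_, rfl⟩)
    have hNQ : ∀ x ∈ N, x ∈ Subgroup.normalizer (Q : Set ↥(Cfsg.Sz F n)) := fun x hx => by
      refine Subgroup.mem_normalizer_fintype fun b hb => ⟨(Subgroup.mem_normalizer_iff.mp hx b).mp hb.1, ?_, ?_⟩
      · rw [conj_pow, hb.2.1, mul_one, mul_inv_cancel]
      · intro d hd
        letI : CommGroup Am := IsCyclic.commGroup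
        exact congrArg Subtype.val
          (mul_comm (⟨_, (Subgroup.mem_normalizer_iff.mp hx b).mp hb.1⟩ : Am) ⟨d, hd⟩)
    let φ : R →* MulAut Q := (Subgroup.normalizerMonoidHom Q).comp
      ((N.subtype.comp R.subtype).codRestrict _ fun x => hNQ _ (x : N).2)
    have hcop : Nat.Coprime 4 (torM n) :=
      (Nat.prime_two.coprime_iff_not_dvd.mpr (two_not_dvd n).2.2).pow_left 2
    have hφ : Function.Injective φ := by
      refine (injective_iff_map_eq_one φ).mpr fun x hx => ?_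
      by_contra hx1
      have hfix : ((x : N) : ↥(Cfsg.Sz F n)) * a0 * ((x : N) : ↥(Cfsg.Sz F n))⁻¹ = a0 :=
        congrArg Subtype.val (DFunLike.congr_fun hx (⟨_, haQ⟩ : Q))
      have hm : ((x : N) : ↥(Cfsg.Sz F n)) ∈ Am := by
        rw [← um a0 a0.2 ha1, Subgroup.mem_centralizer_singleton_iff]
        exact mul_inv_eq_iff_eq_mul.mp hfix
      have h1 := Subgroup.orderOf_dvd_natCard Am hm
      rw [Subgroup.orderOf_coe, Subgroup.orderOf_coe, hAm'] at h1
      have h2 : orderOf x ∣ 4 := (orderOf_dvd_natCard x).trans (by rw [hR]; norm_num)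
      exact hx1 (orderOf_eq_one_iff.mp (Nat.eq_one_of_dvd_coprimes hcop h2 h1))
    haveI : IsCyclic (MulAut Q) := by
      haveI : IsCyclic (ZMod (Nat.card Q))ˣ := by rw [hcardQ]; infer_instance
      exact isCyclic_of_surjective (IsCyclic.mulAutMulEquiv Q).symm.toMonoidHom
        (IsCyclic.mulAutMulEquiv Q).symm.surjective
    haveI : IsCyclic R := isCyclic_of_injective φ hφ
    obtain ⟨u, hu⟩ := IsCyclic.exists_generator (α := R)
    have huo : orderOf u = 4 := by rw [orderOf_eq_card_of_forall_mem_zpowers hu, hR]; norm_num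
    refine ⟨r, Q, ((u : N) : ↥(Cfsg.Sz F n)), a0, hr, hr5, IsPGroup.of_card (n := 1) (by rw [hcardQ, pow_one]),
      hNQ _ (u : N).2, by rw [Subgroup.orderOf_coe, Subgroup.orderOf_coe, huo], haQ, fun e => ?_⟩
    have hc := commutatorElement_eq_one_iff_commute.mp e
    have hm : ((u : N) : ↥(Cfsg.Sz F n)) ^ 2 ∈ Am := by
      rw [← um a0 a0.2 ha1, Subgroup.mem_centralizer_singleton_iff]; exact hc.eq
    have h1 := Subgroup.orderOf_dvd_natCard Am hm
    have h2 : orderOf (((u : N) : ↥(Cfsg.Sz F n)) ^ 2) = 2 := by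
      rw [orderOf_pow, Subgroup.orderOf_coe, Subgroup.orderOf_coe, huo]; rfl
    rw [h2, hAm'] at h1
    exact (two_not_dvd n).2.2 h1
  five := exists_order hF hn (by norm_num) (Or.inr (five_dvd n))
  torus := by
    classical
    haveI := finite_model hF hn
    obtain ⟨l, hl, hld⟩ := Nat.exists_prime_and_dvd (n := tor1 n) (by
      have := Nat.pow_le_pow_right (show 0 < 2 by norm_num) (show 2 ≤ 2 * n + 1 by omega)
      simp only [tor1]; omega)
    obtain ⟨s, hs, hto⟩ := exists_dS_order hF hld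
    have hs1 : s ≠ 1 := fun e => hl.ne_one (by rw [← hs, e, orderOf_one])
    haveI : CharP F 2 := Suzuki.charTwo hF
    obtain ⟨y2, h20, h21⟩ := Suzuki.exists_not_zero_one hF hn
    obtain ⟨y3, h3⟩ : ∃ y : F, y ∉ ({0, 1, y2, 1 + y2} : Finset F) := by
      by_contra hcon
      push Not at hcon
      have h1 := Finset.card_le_card (show (Finset.univ : Finset F) ⊆ {0, 1, y2, 1 + y2} from fun y _ => hcon y)
      rw [Finset.card_univ] at h1
      have h2 := h1.trans Finset.card_le_four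
      have := Suzuki.four_le_card hF hn
      omega
    simp only [Finset.mem_insert, Finset.mem_singleton, not_or] at h3
    obtain ⟨x1, hx1⟩ := Suzuki.th_mul_surj hF (b := (1 : F)) one_ne_zero
    obtain ⟨x2, hx2⟩ := Suzuki.th_mul_surj hF h20
    obtain ⟨x3, hx3⟩ := Suzuki.th_mul_surj hF h3.1
    have hne : ∀ y : F, y ≠ 0 → Suzuki.uS hF 0 y ≠ 1 := fun y hy e =>
      hy (Suzuki.uS_inj hF (e.trans (Suzuki.uS_zero hF).symm)).2
    have hadd : ∀ y z : F, Suzuki.uS hF 0 y * Suzuki.uS hF 0 z = Suzuki.uS hF 0 (y + z) := fun y z => by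
      rw [Suzuki.uS_mul]; simp
    have hsum : ∀ y z : F, y ≠ z → y + z ≠ 0 := fun y z hyz e => hyz (CharTwo.add_eq_zero.mp e)
    refine ⟨l, Suzuki.U hF, Suzuki.dS hF s, Suzuki.uS hF (x1 : F) 0, Suzuki.uS hF (x2 : F) 0,
      Suzuki.uS hF (x3 : F) 0, hl, small_tor hl (h.primes _ l hl hto.symm.dvd) hld, Suzuki.U_isPGroup hF,
      dS_mem_normalizer_U hF hn s, hto, (Suzuki.mem_U hF).mpr ⟨_, _, rfl⟩, (Suzuki.mem_U hF).mpr ⟨_, _, rfl⟩,
      (Suzuki.mem_U hF).mpr ⟨_, _, rfl⟩, fun x hx hc => free_U hF hn hs1 hx hc, fun x hx y hy => ?_, ?_⟩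
    · obtain ⟨a, b, rfl⟩ := (Suzuki.mem_U hF).mp hx
      obtain ⟨c, d, rfl⟩ := (Suzuki.mem_U hF).mp hy
      show _ * _ = _ * _
      rw [Suzuki.uS_sq, Suzuki.uS_mul, Suzuki.uS_mul]
      simp [add_comm]
    · simp only [Suzuki.uS_sq, hx1, hx2, hx3, hadd]
      refine ⟨hne _ one_ne_zero, hne _ h20, hne _ h3.1, hne _ (hsum _ _ (fun e => h3.2.2.1 e.symm)),
        hne _ (hsum _ _ (fun e => h21 e.symm)), hne _ (hsum _ _ (fun e => h3.2.1 e.symm)), hne _ ?_⟩
      rw [← add_assoc]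
      exact hsum _ _ fun e => h3.2.2.2 e.symm

/-- The own level is full. -/
theorem full_model (hn : 1 ≤ n) : Full n ↥(Cfsg.Sz F n) := by
  intro p hp hpd
  haveI := finite_model hF hn
  obtain ⟨a, d, hd, he⟩ := Nat.exists_eq_pow_mul_and_not_dvd (n := tor1 n) (by
    have := Nat.pow_le_pow_right (show 0 < 2 by norm_num) (show 2 ≤ 2 * n + 1 by omega)
    simp only [tor1]; omega) p hp.one_lt.ne'
  have ha : 1 ≤ a := by
    by_contra h0
    rw [show a = 0 by omega, pow_zero, one_mul] at he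
    exact hd (he ▸ hpd)
  obtain ⟨s, hs, hto⟩ := exists_dS_order hF (d := p ^ a) ⟨d, he⟩
  refine ⟨Suzuki.U hF, Suzuki.dS hF s, Suzuki.uS hF 1 0, a, Suzuki.U_isPGroup hF, dS_mem_normalizer_U hF hn s, ha,
    hto, fun hdd => hd ?_, (Suzuki.mem_U hF).mpr ⟨1, 0, rfl⟩, fun e => ?_⟩
  · rw [he, pow_succ] at hdd
    exact Nat.dvd_of_mul_dvd_mul_left (pow_pos hp.pos a) hdd
  · have hs1 : s ^ p ^ (a - 1) ≠ 1 := fun e1 => by
      have h1 := orderOf_dvd_of_pow_eq_one e1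
      rw [hs] at h1
      have := (Nat.pow_dvd_pow_iff_le_right hp.one_lt).mp h1
      omega
    have he2 : Suzuki.dS hF s ^ p ^ (a - 1) = Suzuki.dS hF (s ^ p ^ (a - 1)) := (map_pow (Suzuki.dHomS hF) s _).symm
    rw [he2] at e
    exact one_ne_zero (Suzuki.uS_inj hF ((free_U hF hn hs1 ((Suzuki.mem_U hF).mpr ⟨1, 0, rfl⟩)
      (commutatorElement_eq_one_iff_commute.mp e)).trans (Suzuki.uS_zero hF).symm)).1

/-- The level of a Suzuki group inside the spectrum. -/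
theorem level_dvd (hn : 1 ≤ n) {m : ℕ} (h : Orders m ↥(Cfsg.Sz F n)) : 2 * n + 1 ∣ 2 * m + 1 := by
  obtain ⟨s, -, hto⟩ := exists_dS_order hF (d := tor1 n) dvd_rfl
  refine dvd_of_tor_dvd ((Nat.dvd_iff_prime_pow_dvd_dvd _ _).mpr fun p k hp hpk => ?_)
  rcases Nat.eq_zero_or_pos k with rfl | hk
  · simp
  have hpn : p ∣ tor1 n := (dvd_pow_self p hk.ne').trans hpk
  exact h.bound (Suzuki.dS hF s) p k hp (small_tor hp (h.primes _ p hp (hto ▸ hpn)) hpn) (hto ▸ hpk)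

/-! ### The square -/

theorem orders_square (hn : 1 ≤ n) : Orders n (↥(Cfsg.Sz F n) × ↥(Cfsg.Sz F n)) := by
  have hN : ∀ g : ↥(Cfsg.Sz F n) × ↥(Cfsg.Sz F n), orderOf g ∣ tor1 n * (4 * (torP n * torM n)) := fun g => by
    rw [Prod.orderOf]
    exact Nat.lcm_dvd (orderOf_dvd_all hF hn g.1) (orderOf_dvd_all hF hn g.2)
  have split : ∀ (g : ↥(Cfsg.Sz F n) × ↥(Cfsg.Sz F n)) (r : ℕ), r.Prime → r ∣ orderOf g →
      r ∣ orderOf g.1 ∨ r ∣ orderOf g.2 := fun g r hr hd => by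
    rw [Prod.orderOf] at hd
    exact hr.dvd_mul.mp (hd.trans (Nat.lcm_dvd_mul _ _))
  obtain ⟨t1, t2, t3⟩ := two_not_dvd n
  refine ⟨fun g r hr hd => (split g r hr hd).elim (spec_model hF hn hr) (spec_model hF hn hr),
    fun g r s t hr hs ht dr ds dt h1 h2 h3 => ?_, fun g hd => ?_, fun g r k hr h1 hd => ?_⟩
  · rcases split g r hr dr with a | a <;> rcases split g s hs ds with b | b <;> rcases split g t ht dt with c | c
    all_goals first
      | exact h1 (cls_eq hF hn _ hr hs a b)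
      | exact h2 (cls_eq hF hn _ hr ht a c)
      | exact h3 (cls_eq hF hn _ hs ht b c)
  · have h1 := hd.trans (hN g)
    rw [show tor1 n * (4 * (torP n * torM n)) = 4 * (tor1 n * (torP n * torM n)) by ring,
      show (8 : ℕ) = 4 * 2 from rfl] at h1
    rcases Nat.prime_two.dvd_mul.mp (Nat.dvd_of_mul_dvd_mul_left (by norm_num) h1) with h2 | h2
    · exact t1 h2
    · exact (Nat.prime_two.dvd_mul.mp h2).elim t2 t3
  · refine Nat.Coprime.dvd_of_dvd_mul_right ?_ (hd.trans (hN g))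
    refine Nat.Coprime.pow_left k (hr.coprime_iff_not_dvd.mpr fun h2 => ?_)
    rcases hr.dvd_mul.mp h2 with h4 | h4
    · exact ne_two (Or.inl h1) ((Nat.prime_dvd_prime_iff_eq hr Nat.prime_two).mp
        (hr.dvd_of_dvd_pow (show r ∣ 2 ^ 2 from h4)))
    · rw [torP_mul_torM] at h4
      exact not_both hr h1 h4

theorem pairs_square (hn : 1 ≤ n) {r s : ℕ} (hr : r.Prime) (hs : s.Prime) (hne : r ≠ s)
    (dr : r ∣ Nat.card ↥(Cfsg.Sz F n)) (ds : s ∣ Nat.card ↥(Cfsg.Sz F n)) :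
    ∃ g : ↥(Cfsg.Sz F n) × ↥(Cfsg.Sz F n), orderOf g = r * s := by
  haveI := finite_model hF hn
  haveI := Fact.mk hr
  haveI := Fact.mk hs
  obtain ⟨a, ha⟩ := exists_prime_orderOf_dvd_card' r dr
  obtain ⟨b, hb⟩ := exists_prime_orderOf_dvd_card' s ds
  refine ⟨(a, b), ?_⟩
  rw [Prod.orderOf, ha, hb]
  exact ((Nat.coprime_primes hr hs).mpr hne).lcm_eq_mul

/-! ### Fixed points of the field automorphisms -/

theorem fixed_two (hn : 1 ≤ n) :
    ∃ z : ↥(Cfsg.Sz F n), orderOf z = 2 ∧ ∀ i, Suzuki.fAut hF hn i z = z := by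
  refine ⟨Suzuki.uS hF 0 1, orderOf_of_prime Nat.prime_two ?_ ?_, fun i => ?_⟩
  · rw [pow_two, Suzuki.uS_sq, Suzuki.th_zero, zero_mul, Suzuki.uS_zero]
  · exact fun e => one_ne_zero (Suzuki.uS_inj hF (e.trans (Suzuki.uS_zero hF).symm)).2
  · rw [Suzuki.fAut_uS, one_pow, zero_pow (by positivity)]

theorem fixed_five (hn : 1 ≤ n) :
    ∃ z : ↥(Cfsg.Sz F n), orderOf z = 5 ∧ ∀ i, Suzuki.fAut hF hn i z = z := by
  refine ⟨Suzuki.uS hF 0 1 * Suzuki.wS hF, orderOf_of_prime (by norm_num) ?_ ?_, fun i => ?_⟩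
  · haveI : CharP F 2 := Suzuki.charTwo hF
    let c : ZMod 2 →+* F := ZMod.castHom (dvd_refl 2) F
    have h2 : Fintype.card (ZMod 2) = 2 ^ (2 * 0 + 1) := by simp
    have e : Matrix.SpecialLinearGroup.map c (Suzuki.uEl 0 0 1 * Suzuki.wEl) = Suzuki.uEl n 0 1 * Suzuki.wEl := by
      rw [map_mul, Suzuki.map_uEl_hom hF h2 (one_dvd _) c, map_one, map_zero, Suzuki.map_wEl_hom]
    have e5 : (Suzuki.uEl 0 0 1 * Suzuki.wEl : Matrix.SpecialLinearGroup (Fin 4) (ZMod 2)) ^ 5 = 1 := by decide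
    refine Subtype.ext ?_
    show (Suzuki.uEl n (0 : F) 1 * Suzuki.wEl) ^ 5 = 1
    rw [← e, ← map_pow, e5, map_one]
  · intro e
    have h1 := congrArg (fun g : ↥(Cfsg.Sz F n) => g • Cfsg.suzukiPointInfinity F) e
    simp only [mul_smul, Suzuki.smul_wS_inf, Suzuki.smul_uS_zero, one_smul] at h1
    exact Suzuki.pt_ne_inf (m := n) (0 : F) 1 h1
  · rw [map_mul, Suzuki.fAut_uS, Suzuki.fAut_wS, one_pow, zero_pow (by positivity)]

theorem fixed_torus (hn : 1 ≤ n) {l i : ℕ} (hl : l ∣ tor1 n) (hi : l ∣ 2 ^ i - 1) :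
    ∃ a : ↥(Cfsg.Sz F n), orderOf a = l ∧ Suzuki.fAut hF hn i a = a := by
  obtain ⟨s, hs, ho⟩ := exists_dS_order hF hl
  refine ⟨Suzuki.dS hF s, ho, ?_⟩
  rw [Suzuki.fAut_dS]
  congr 1
  refine Units.ext ?_
  show (s : F) ^ 2 ^ i = (s : F)
  have h1 : s ^ (2 ^ i - 1) = 1 := orderOf_dvd_iff_pow_eq_one.mp (hs ▸ hi)
  conv_lhs => rw [← Nat.sub_add_cancel (Nat.one_le_two_pow (n := i)), pow_succ, ← Units.val_pow_eq_pow_val, h1,
    Units.val_one, one_mul]

theorem fAut_pow_uS (hn : 1 ≤ n) (i k : ℕ) (x : F) :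
    (Suzuki.fAut hF hn i ^ k) (Suzuki.uS hF x 0) = Suzuki.uS hF (x ^ 2 ^ (i * k)) 0 := by
  induction k with
  | zero => simp
  | succ k ih =>
    rw [pow_succ', MulAut.mul_apply, ih, Suzuki.fAut_uS, zero_pow (by positivity), ← pow_mul, ← pow_add]
    congr 2

/-- An inner power of a field automorphism is trivial. -/
theorem inner_pow (hn : 1 ≤ n) {i k : ℕ} {g : ↥(Cfsg.Sz F n)} (h : MulAut.conj g = Suzuki.fAut hF hn i ^ k) :
    2 * n + 1 ∣ i * k := by
  have key : ∀ x : F, g * Suzuki.uS hF x 0 * g⁻¹ = Suzuki.uS hF (x ^ 2 ^ (i * k)) 0 := fun x => by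
    rw [← fAut_pow_uS hF hn, ← h, MulAut.conj_apply]
  have hmem : g * Suzuki.uS hF 1 0 * g⁻¹ ∈ Suzuki.U hF := ⟨_, _, key 1⟩
  have hfix : g • Cfsg.suzukiPointInfinity F = Cfsg.suzukiPointInfinity F :=
    Suzuki.conj_fix_inf hF ⟨1, 0, rfl⟩ (fun e => one_ne_zero ((Suzuki.eq_one_iff_uS hF).mp e).1) hmem
  obtain ⟨a, b, t, rfl⟩ := (Suzuki.mem_stabInf_iff hF hn).mp hfix
  have key1 : ∀ x : F, Suzuki.th n (t : F) * x = x ^ 2 ^ (i * k) := fun x => by
    have := key x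
    rw [Suzuki.conj_uS] at this
    exact (Suzuki.uS_inj hF this).1
  have ht : Suzuki.th n (t : F) = 1 := by simpa using key1 1
  obtain ⟨s, hs, -⟩ := exists_dS_order hF (d := tor1 n) dvd_rfl
  refine dvd_of_tor_dvd ?_
  show tor1 n ∣ _
  rw [← hs]
  refine orderOf_dvd_of_pow_eq_one (Units.ext ?_)
  have h1 := key1 (s : F)
  rw [ht, one_mul, show 2 ^ (i * k) = 2 ^ (i * k) - 1 + 1 from (Nat.sub_add_cancel Nat.one_le_two_pow).symm,
    pow_succ] at h1
  rw [Units.val_pow_eq_pow_val, Units.val_one]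
  exact mul_right_cancel₀ s.ne_zero (h1.symm.trans (one_mul (s : F)).symm)

end CfsgLib.SzPairGen
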