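import Cfsg.Agent.Lib.SzPairGen.Layers

/-!
No group is solvable-by-Suzuki with all three odd classes in the solvable part.
-/

set_option autoImplicit false
set_option maxHeartbeats 1000000
set_option linter.style.haveILetI false
set_option linter.unusedSectionVars false

namespace CfsgLib.SzPairGen

open scoped commutatorElement

universe u v

variable {m : ℕ} {X : Type u} [Group X] [Finite X] {S : Type v} [Group S]

/-- An element of a class other than two given ones. -/
theorem exists_third (hS : Shape m S) (c₁ c₂ : ℕ) :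
    ∃ (a : S) (d : ℕ), d.Prime ∧ orderOf a = d ∧ cls m d ≠ c₁ ∧ cls m d ≠ c₂ := by
  obtain ⟨a5, ha5⟩ := hS.five
  obtain ⟨l, U, t, a, b, c, hl, hld, hU, -, hto, haU, -, -, -, -, haa, -⟩ := hS.torus
  obtain ⟨k, hk⟩ := hU ⟨a * a, mul_mem haU haU⟩
  have hk' : (a * a) ^ 2 ^ k = 1 := by simpa using congrArg Subtype.val hk
  have hao := dvd_orderOf Nat.prime_two hk' haa
  have ha2 : orderOf ((a * a) ^ (orderOf (a * a) / 2)) = 2 :=
    orderOf_pow_orderOf_div (fun e => by
      have h0 := orderOf_dvd_of_pow_eq_one hk'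
      rw [e, zero_dvd_iff] at h0
      exact (Nat.two_pow_pos k).ne' h0) hao
  have h1 := cls_one hld
  have h2 := cls_two m
  obtain ⟨h50, h51⟩ := cls_five m
  by_cases e0 : cls m 2 ≠ c₁ ∧ cls m 2 ≠ c₂
  · exact ⟨_, 2, Nat.prime_two, ha2, e0⟩
  by_cases e1 : cls m l ≠ c₁ ∧ cls m l ≠ c₂
  · exact ⟨t, l, hl, hto, e1⟩
  exact ⟨a5, 5, by norm_num, ha5, by omega, by omega⟩

/-- In a covering subgroup: an element of a class other than two given ones. -/
theorem exists_lift_third (hS : Shape m S) (f : X →* S) {H : Subgroup X} (hH : Covers f H) (c₁ c₂ : ℕ) :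
    ∃ (g : X) (d : ℕ), g ∈ H ∧ d.Prime ∧ d ∣ orderOf g ∧ cls m d ≠ c₁ ∧ cls m d ≠ c₂ := by
  obtain ⟨a, d, hd, ha, h1, h2⟩ := exists_third hS c₁ c₂
  obtain ⟨g, hg, hga⟩ := hH a
  exact ⟨g, d, hg, hd, by rw [← ha, ← hga]; exact orderOf_map_dvd f g, h1, h2⟩

/-- An element of odd order with covering centraliser only commutes with its own class inside the kernel. -/
theorem no_other_class (h : Orders m X) (hS : Shape m S) (f : X →* S) {x y : X} {r s : ℕ} (hr : r.Prime) (hr2 : r ≠ 2)
    (hs : s.Prime) (hxo : r ∣ orderOf x) (hyo : s ∣ orderOf y) (hyK : y ∈ f.ker) (hxy : Commute x y)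
    (hcls : cls m r ≠ cls m s) (hcov : Covers f (Subgroup.centralizer ({x} : Set X))) : False := by
  classical
  haveI := Fact.mk hs
  set X' := Subgroup.centralizer ({x} : Set X) with hX'
  let g : X' →* S := f.comp X'.subtype
  have hg : Function.Surjective g := hcov.surj
  have hsd : s ∣ Nat.card g.ker := by
    refine hyo.trans ?_
    have hm : (⟨y, Subgroup.mem_centralizer_singleton_iff.mpr hxy.symm.eq⟩ : X') ∈ g.ker := hyK
    have := orderOf_dvd_natCard (⟨_, hm⟩ : g.ker)
    rwa [Subgroup.orderOf_mk, Subgroup.orderOf_mk] at this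
  obtain ⟨P⟩ : Nonempty (Sylow s g.ker) := inferInstance
  set P₁ := (P : Subgroup g.ker).map g.ker.subtype with hP₁
  set N := Subgroup.normalizer (P₁ : Set X') with hN
  have hgN := (covers_normalizer g hg le_rfl P).surj
  haveI : (P₁.subgroupOf N).Normal := Subgroup.normal_in_normalizer
  set V := elemCenter (P₁.subgroupOf N) s with hV
  haveI := elemCenter_normal (P₁.subgroupOf N) s
  have hVne : V ≠ ⊥ := elemCenter_ne_bot ((P.2.map _).comap_of_injective N.subtype N.subtype_injective) fun e => by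
    have h1 : P₁ = ⊥ := by rw [← Subgroup.map_subgroupOf_eq_of_le (Subgroup.le_normalizer : P₁ ≤ N), e, Subgroup.map_bot]
    rw [hP₁, Subgroup.map_eq_bot_iff, Subgroup.ker_subtype, le_bot_iff] at h1
    exact P.ne_bot_of_dvd_card hsd h1
  have hON : Orders m N := (h.subgroup X').subgroup N
  obtain ⟨v, hv, hv1⟩ := (Subgroup.bot_or_exists_ne_one V).resolve_left hVne
  have fin : ∀ (a c : N), a ∈ V → a ≠ 1 → Commute a c → ∀ d : ℕ, d.Prime → d ∣ orderOf c →
      cls m d ≠ cls m r → cls m d ≠ cls m s → False := by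
    intro a c ha ha1 hac d hd hdc h1 h2
    have hxc : ∀ b : N, Commute x ((b : X') : X) := fun b => (Subgroup.mem_centralizer_singleton_iff.mp (b : X').2).symm
    refine h.triple hr hs hd hxo (b := ((a : X') : X)) (c := ((c : X') : X)) ?_
      (by rwa [Subgroup.orderOf_coe, Subgroup.orderOf_coe]) (hxc a) (hxc c)
      (hac.map (X'.subtype.comp N.subtype)) hcls h1.symm h2.symm
    rw [Subgroup.orderOf_coe, Subgroup.orderOf_coe, orderOf_of_prime hs ha.2.1 ha1]
  by_cases hC : Covers (g.comp N.subtype) (Subgroup.centralizer (V : Set N))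
  · obtain ⟨c, d, hc, hd, hdc, h1, h2⟩ := exists_lift_third hS _ hC (cls m r) (cls m s)
    exact fin v c hv hv1 (Subgroup.mem_centralizer_iff.mp hc v hv) d hd hdc h1 h2
  · by_cases hs2 : s = 2
    · subst hs2
      exact hC (covers_two hON hS _ hgN V (elemCenter_comm _ 2) fun a ha => ha.2.1)
    obtain ⟨z, hzz, hfz⟩ := exists_invol hON hS _ hgN
    obtain ⟨a, ha, ha1, hza⟩ := exists_fixed_invol hS _ hgN V (elemCenter_comm _ s) hzz hfz hC
    exact fin a z ha ha1 hza.symm 2 Nat.prime_two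
      (by rw [orderOf_of_prime Nat.prime_two (by rw [pow_two]; exact hzz) fun e => hfz (by rw [e, map_one])])
      (by rw [cls_two]; exact (cls_ne_zero hr2).symm) (by rw [cls_two]; exact (cls_ne_zero hs2).symm)

/-- A chief factor above a normal subgroup inside a solvable one. -/
theorem exists_chief {A K : Subgroup X} [A.Normal] [K.Normal] (hK : Group.IsSolvable K) (hlt : A < K) :
    ∃ (M : Subgroup X) (p : ℕ), M.Normal ∧ A < M ∧ M ≤ K ∧ p.Prime ∧ (∀ x ∈ M, x ^ p ∈ A) ∧
      (∀ x ∈ M, ∀ y ∈ M, ⁅x, y⁆ ∈ A) ∧ ∀ M' : Subgroup X, M'.Normal → A < M' → M' ≤ M → M' = M := by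
  obtain ⟨M, ⟨hMn, hAM, hMK⟩, hmin⟩ := (Set.toFinite {M : Subgroup X | M.Normal ∧ A < M ∧ M ≤ K}).exists_minimal
    ⟨K, inferInstance, hlt, le_rfl⟩
  let π := QuotientGroup.mk' A
  haveI : (M.map π).Normal := Subgroup.Normal.map hMn π (QuotientGroup.mk'_surjective A)
  have hMs : Group.IsSolvable (M.map π) := by
    haveI := hK
    haveI : Group.IsSolvable M :=
      Group.isSolvable_of_isSolvable_injective (f := Subgroup.inclusion hMK) (Subgroup.inclusion_injective _)
    exact Group.isSolvable_of_surjective (f := π.subgroupMap M) (π.subgroupMap_surjective M)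
  obtain ⟨hcomm, p, hp, hexp⟩ := CfsgLib.minimal_normal_elementary (N := M.map π) (fun e => by
    rw [Subgroup.map_eq_bot_iff, QuotientGroup.ker_mk'] at e
    exact hAM.not_ge e) hMs (fun Y hY hYM => by
      have hle : A ≤ Y.comap π := fun z hz => by
        rw [Subgroup.mem_comap, QuotientGroup.mk'_apply, (QuotientGroup.eq_one_iff z).mpr hz]
        exact one_mem Y
      have hYM' : Y.comap π ≤ M := by
        refine (Subgroup.comap_mono hYM).trans ?_
        rw [Subgroup.comap_map_eq, QuotientGroup.ker_mk']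
        exact sup_le le_rfl hAM.le
      have hY' := Subgroup.map_comap_eq_self_of_surjective (QuotientGroup.mk'_surjective A) Y
      rcases eq_or_lt_of_le hle with he | hlt'
      · refine Or.inl ?_
        rw [← hY', Subgroup.map_eq_bot_iff, QuotientGroup.ker_mk', ← he]
      · refine Or.inr ?_
        rw [← hY', le_antisymm hYM' (hmin ⟨hY.comap π, hlt', hYM'.trans hMK⟩ hYM')])
  refine ⟨M, p, hMn, hAM, hMK, hp, fun x hx => ?_, fun x hx y hy => ?_,
    fun M' hM' hA' hle => le_antisymm hle (hmin ⟨hM', hA', hle.trans hMK⟩ hle)⟩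
  · rw [← QuotientGroup.eq_one_iff, QuotientGroup.mk_pow]
    exact hexp _ ⟨x, hx, rfl⟩
  · rw [← QuotientGroup.eq_one_iff]
    change π ⁅x, y⁆ = 1
    rw [map_commutatorElement, commutatorElement_eq_one_iff_mul_comm]
    exact congrArg Subtype.val (hcomm.is_comm.comm (⟨π x, x, hx, rfl⟩ : M.map π) ⟨π y, y, hy, rfl⟩)

/-- A maximal normal `2`-subgroup of the kernel. -/
theorem exists_two_core (f : X →* S) : ∃ A : Subgroup X, A.Normal ∧ A ≤ f.ker ∧ IsPGroup 2 A ∧
    ∀ B : Subgroup X, B.Normal → A ≤ B → B ≤ f.ker → IsPGroup 2 B → B ≤ A := by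
  obtain ⟨A, ⟨h1, h2, h3⟩, hmax⟩ := (Set.toFinite {A : Subgroup X | A.Normal ∧ A ≤ f.ker ∧ IsPGroup 2 A}).exists_maximal
    ⟨⊥, inferInstance, bot_le, IsPGroup.of_bot⟩
  exact ⟨A, h1, h2, h3, fun B b1 b2 b3 b4 => hmax ⟨b1, b3, b4⟩ b2⟩

/-- An odd prime of the kernel survives a quotient by a `2`-group. -/
theorem dvd_card_lift (f : X →* S) {A : Subgroup X} [A.Normal] (hA : IsPGroup 2 A) (hle : A ≤ f.ker) {r : ℕ}
    (hr : r.Prime) (hr2 : r ≠ 2) (hd : r ∣ Nat.card f.ker) : r ∣ Nat.card (QuotientGroup.lift A f hle).ker := by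
  haveI := Fact.mk hr
  obtain ⟨e, he⟩ := exists_prime_orderOf_dvd_card' (G := f.ker) r hd
  have he' : orderOf (e : X) = r := by rw [Subgroup.orderOf_coe, he]
  have hm : (QuotientGroup.mk (e : X) : X ⧸ A) ∈ (QuotientGroup.lift A f hle).ker := e.2
  have h1 := orderOf_map_dvd (QuotientGroup.mk' A) (e : X)
  rw [he'] at h1
  rcases (Nat.dvd_prime hr).mp h1 with h2 | h2
  · exfalso
    obtain ⟨k, hk⟩ := hA ⟨_, (QuotientGroup.eq_one_iff _).mp (orderOf_eq_one_iff.mp h2)⟩
    have h3 := eq_one_of_pows hr Nat.prime_two hr2 (w := (e : X)) (i := 1) (j := k)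
      (by rw [pow_one, ← he', pow_orderOf_eq_one]) (by simpa using congrArg Subtype.val hk)
    rw [h3, orderOf_one] at he'
    exact hr.ne_one he'.symm
  · rw [← h2]
    exact Subgroup.orderOf_dvd_natCard _ hm

theorem NoMix.pair {G : Type u} [Group G] [Finite G] (hM : NoMix m G) {a b : G} {r s : ℕ} (hr : r.Prime) (hs : s.Prime)
    (hr2 : r ≠ 2) (hs2 : s ≠ 2) (ha : r ∣ orderOf a) (hb : s ∣ orderOf b) (hab : Commute a b)
    (hne : cls m r ≠ cls m s) : False := by
  have ea := exists_pow_prime ha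
  have eb := exists_pow_prime hb
  have e1 : orderOf (a ^ (orderOf a / r) * b ^ (orderOf b / s)) = r * s := by
    rw [(hab.pow_pow _ _).orderOf_mul_eq_mul_orderOf_of_coprime (by
      rw [ea, eb]; exact (Nat.coprime_primes hr hs).mpr fun e => hne (by rw [e])), ea, eb]
  exact hM _ r s hr hs hr2 hs2 (e1 ▸ dvd_mul_right r s) (e1 ▸ dvd_mul_left s r) hne

theorem noMix_of_central {G : Type u} [Group G] [Finite G] (h : Orders m G) {y : G} (hy : 2 ∣ orderOf y)
    (hc : ∀ g : G, Commute y g) : NoMix m G := fun g r s hr hs hr2 hs2 dr ds hne =>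
  h.triple Nat.prime_two hr hs hy dr ds (hc g) (hc g) (Commute.refl g) (by rw [cls_two]; exact (cls_ne_zero hr2).symm)
    (by rw [cls_two]; exact (cls_ne_zero hs2).symm) hne

/-- Without mixed elements the kernel has at most one odd class. -/
theorem no_mix (hS : Shape m S) (f : X →* S) (hf : Function.Surjective f)
    (hK : Group.IsSolvable f.ker) (hM : NoMix m X) {r s : ℕ} (hr : r.Prime) (hs : s.Prime) (hr2 : r ≠ 2) (hs2 : s ≠ 2)
    (hrd : r ∣ Nat.card f.ker) (hsd : s ∣ Nat.card f.ker) (hne : cls m r ≠ cls m s) : False := by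
  classical
  obtain ⟨A, hAn, hAK, hA2, hAmax⟩ := exists_two_core f
  let f' : X ⧸ A →* S := QuotientGroup.lift A f hAK
  have hf' : Function.Surjective f' := QuotientGroup.lift_surjective_of_surjective A f hf hAK
  have hrd' := dvd_card_lift f hA2 hAK hr hr2 hrd
  have hsd' := dvd_card_lift f hA2 hAK hs hs2 hsd
  have hlt : A < f.ker := lt_of_le_of_ne hAK fun e => by
    haveI := Fact.mk hr
    obtain ⟨e', he'⟩ := exists_prime_orderOf_dvd_card' (G := f.ker) r hrd
    obtain ⟨k, hk⟩ := hA2 ⟨(e' : X), e ▸ e'.2⟩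
    have h3 := eq_one_of_pows hr Nat.prime_two hr2 (w := (e' : X)) (i := 1) (j := k)
      (by rw [pow_one, ← he', ← Subgroup.orderOf_coe, pow_orderOf_eq_one]) (by simpa using congrArg Subtype.val hk)
    rw [← Subgroup.orderOf_coe, h3, orderOf_one] at he'
    exact hr.ne_one he'.symm
  obtain ⟨M, p, hMn, hAM, hMK, hp, hexp, hcom, -⟩ := exists_chief hK hlt
  have hp2 : p ≠ 2 := by
    rintro rfl
    refine hAM.not_ge (hAmax M hMn hAM.le hMK fun x => ?_)
    obtain ⟨k, hk⟩ := hA2 ⟨_, hexp x x.2⟩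
    have h1 : ((x : X) ^ 2) ^ 2 ^ k = 1 := by simpa using congrArg Subtype.val hk
    exact ⟨k + 1, Subtype.ext (by rw [Subgroup.coe_pow, pow_succ', pow_mul]; exact h1)⟩
  let π := QuotientGroup.mk' A
  set W := M.map π with hW
  haveI : W.Normal := Subgroup.Normal.map hMn π (QuotientGroup.mk'_surjective A)
  have hWexp : ∀ a ∈ W, a ^ p = 1 := by
    rintro _ ⟨x, hx, rfl⟩
    rw [← map_pow]
    exact (QuotientGroup.eq_one_iff _).mpr (hexp x hx)
  have hWab : ∀ a ∈ W, ∀ b ∈ W, a * b = b * a := by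
    rintro _ ⟨x, hx, rfl⟩ _ ⟨y, hy, rfl⟩
    rw [← commutatorElement_eq_one_iff_mul_comm, ← map_commutatorElement]
    exact (QuotientGroup.eq_one_iff _).mpr (hcom x hx y hy)
  have hWne : W ≠ ⊥ := by
    rw [hW, Ne, Subgroup.map_eq_bot_iff, QuotientGroup.ker_mk']
    exact fun e => hAM.not_ge e
  obtain ⟨t, ht, ht2, htd, htp⟩ : ∃ t, t.Prime ∧ t ≠ 2 ∧ t ∣ Nat.card f'.ker ∧ cls m p ≠ cls m t := by
    by_cases e : cls m p = cls m r
    · exact ⟨s, hs, hs2, hsd', by rw [e]; exact hne⟩
    · exact ⟨r, hr, hr2, hrd', e⟩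
  haveI := Fact.mk ht
  obtain ⟨e, he⟩ := exists_prime_orderOf_dvd_card' (G := f'.ker) t htd
  have heo : orderOf (e : X ⧸ A) = t := by rw [Subgroup.orderOf_coe, he]
  have hM' := hM.quotient A
  have hcov := covers_of_fpf hS f' hf' hWab hWne hp hWexp ht (fun e => htp (by rw [e]))
    (fun e' _ heo' v hv hv1 hev => hM'.pair ht hp ht2 hp2 heo'.symm.dvd
      (orderOf_of_prime hp (hWexp v hv) hv1).symm.dvd hev htp.symm) e.2 heo
  obtain ⟨g, d, hg, hd, hdg, h1, h2⟩ := exists_lift_third hS f' hcov (cls m t) 0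
  refine hM'.pair ht hd ht2 (fun e => h2 (by rw [e, cls_two])) heo.symm.dvd hdg ?_ h1.symm
  exact (Subgroup.mem_centralizer_singleton_iff.mp hg).symm

/-- Two covering classes among three pairwise. -/
theorem lucido_covering (h : Orders m X) (hS : Shape m S) (f : X →* S) (hK : Group.IsSolvable f.ker)
    {p r s : ℕ} (hp : p.Prime) (hr : r.Prime) (hs : s.Prime) (h1 : cls m p = 1) (h2 : cls m r = 2) (h3 : cls m s = 3)
    (dp : p ∣ Nat.card f.ker) (dr : r ∣ Nat.card f.ker) (ds : s ∣ Nat.card f.ker) (c : ℕ)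
    (hcov : ∀ e ∈ f.ker, ∀ t : ℕ, t.Prime → t ≠ 2 → orderOf e = t → cls m t ≠ c →
      Covers f (Subgroup.centralizer ({e} : Set X))) : False := by
  refine lucido hK hp hr hs (fun e => by rw [e] at h1; omega) (fun e => by rw [e] at h1; omega)
    (fun e => by rw [e] at h2; omega) dp dr ds ?_
  intro g hg a ha b hb hab hda hdb
  simp only [Finset.mem_insert, Finset.mem_singleton] at ha hb
  have key : ∀ x ∈ ({p, r, s} : Finset ℕ), x.Prime ∧ x ≠ 2 := by
    intro x hx
    simp only [Finset.mem_insert, Finset.mem_singleton] at hx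
    rcases hx with rfl | rfl | rfl <;> refine ⟨by assumption, fun e => ?_⟩ <;> subst e <;>
      first
        | (rw [cls_two] at h1; omega)
        | (rw [cls_two] at h2; omega)
        | (rw [cls_two] at h3; omega)
  obtain ⟨hap, ha2⟩ := key a (by simpa using ha)
  obtain ⟨hbp, hb2⟩ := key b (by simpa using hb)
  have hne : cls m a ≠ cls m b := by
    rcases ha with rfl | rfl | rfl <;> rcases hb with rfl | rfl | rfl <;> first | exact absurd rfl hab | omega
  have hc : Commute (g ^ (orderOf g / a)) (g ^ (orderOf g / b)) := (Commute.refl g).pow_pow _ _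
  by_cases hac : cls m a = c
  · exact no_other_class h hS f hbp hb2 hap (exists_pow_prime hdb).symm.dvd (exists_pow_prime hda).symm.dvd
      (pow_mem hg _) hc.symm hne.symm (hcov _ (pow_mem hg _) b hbp hb2 (exists_pow_prime hdb) (by omega))
  · exact no_other_class h hS f hap ha2 hbp (exists_pow_prime hda).symm.dvd (exists_pow_prime hdb).symm.dvd
      (pow_mem hg _) hc hne (hcov _ (pow_mem hg _) a hap ha2 (exists_pow_prime hda) hac)

theorem inverts_of_fpf {y : X} (hy : y * y = 1) (L : Subgroup X) [L.Normal] (hab : ∀ a ∈ L, ∀ b ∈ L, a * b = b * a)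
    (hfree : ∀ v ∈ L, Commute y v → v = 1) {v : X} (hv : v ∈ L) : y * v * y = v⁻¹ := by
  have hyi : y⁻¹ = y := inv_eq_of_mul_eq_one_right hy
  have hm : y * v * y ∈ L := by
    have := Subgroup.Normal.conj_mem (inferInstance : L.Normal) v hv y
    rwa [hyi] at this
  refine eq_inv_of_mul_eq_one_right (hfree _ (mul_mem hv hm) ?_)
  show y * (v * (y * v * y)) = v * (y * v * y) * y
  rw [show y * (v * (y * v * y)) = y * v * y * (v * y) by group, ← mul_assoc, hab _ hm _ hv]

/-- The kernel of a solvable-by-Suzuki group with odd layers only misses a class. -/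
theorem single_core (h : Orders m X) (hS : Shape m S) (f : X →* S) (hf : Function.Surjective f)
    (hK : Group.IsSolvable f.ker) (hO2 : ∀ B : Subgroup X, B.Normal → B ≤ f.ker → IsPGroup 2 B → B = ⊥)
    {p r s : ℕ} (hp : p.Prime) (hr : r.Prime) (hs : s.Prime) (h1 : cls m p = 1) (h2 : cls m r = 2) (h3 : cls m s = 3)
    (dp : p ∣ Nat.card f.ker) (dr : r ∣ Nat.card f.ker) (ds : s ∣ Nat.card f.ker) : False := by
  classical
  have hkne : (⊥ : Subgroup X) < f.ker := bot_lt_iff_ne_bot.mpr fun e => by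
    rw [e, Subgroup.card_bot] at dp
    exact hp.ne_one (Nat.dvd_one.mp dp)
  obtain ⟨L, l, hLn, hLne, hLK, hl, hlexp, hlcom, -⟩ := exists_chief hK hkne
  have hexp : ∀ a ∈ L, a ^ l = 1 := fun a ha => Subgroup.mem_bot.mp (hlexp a ha)
  have hLab : ∀ a ∈ L, ∀ b ∈ L, a * b = b * a := fun a ha b hb =>
    commutatorElement_eq_one_iff_mul_comm.mp (Subgroup.mem_bot.mp (hlcom a ha b hb))
  have hLne' : L ≠ ⊥ := hLne.ne'
  have hl2 : l ≠ 2 := by
    rintro rfl
    exact hLne' (hO2 L hLn hLK fun x => ⟨1, Subtype.ext (by rw [Subgroup.coe_pow]; simpa using hexp x x.2)⟩)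
  set c := cls m l with hc
  obtain ⟨v₀, hv₀, hv₀1⟩ := (Subgroup.bot_or_exists_ne_one L).resolve_left hLne'
  by_cases hcovL : Covers f (Subgroup.centralizer (L : Set X))
  · refine lucido_covering h hS f hK hp hr hs h1 h2 h3 dp dr ds c fun e he t ht ht2 heo htc => ?_
    refine covers_of_fpf hS f hf hLab hLne' hl hexp ht (fun e => htc (by rw [← e])) ?_ he heo
    intro e' he' heo' v hv hv1 hev
    refine no_other_class h hS f hl hl2 ht (orderOf_of_prime hl (hexp v hv) hv1).symm.dvd heo'.symm.dvd he' hev.symm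
      (Ne.symm htc) (hcovL.mono fun g hg => ?_)
    exact Subgroup.mem_centralizer_singleton_iff.mpr (Subgroup.mem_centralizer_iff.mp hg v hv).symm
  -- a maximal normal subgroup of the class of `L`
  obtain ⟨A, ⟨hAn, hLA, hAK, hAc⟩, hAmax⟩ := (Set.toFinite {A : Subgroup X | A.Normal ∧ L ≤ A ∧ A ≤ f.ker ∧
      ∀ t : ℕ, t.Prime → t ∣ Nat.card A → cls m t = c}).exists_maximal ⟨L, hLn, le_rfl, hLK, fun t ht hd => by
    haveI := Fact.mk hl
    obtain ⟨k, hk⟩ := IsPGroup.iff_card.mp (show IsPGroup l L from fun x =>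
      ⟨1, Subtype.ext (by rw [Subgroup.coe_pow]; simpa using hexp x x.2)⟩)
    rw [hk] at hd
    rw [hc, (Nat.prime_dvd_prime_iff_eq ht hl).mp (ht.dvd_of_dvd_pow hd)]⟩
  have hcA : ∀ t : ℕ, t.Prime → cls m t ≠ c → (Nat.card A).Coprime t := fun t ht htc =>
    (ht.coprime_iff_not_dvd.mpr fun hd => htc (hAc t ht hd)).symm
  have hAlt : A < f.ker := lt_of_le_of_ne hAK fun e => by
    by_cases e1 : c = 1
    · have := hAc r hr (e ▸ dr); omega
    · have := hAc p hp (e ▸ dp); omega
  obtain ⟨M, d, hMn, hAM, hMK, hd, hMexp, hMcom, hMmin⟩ := exists_chief hK hAlt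
  have hdc : cls m d ≠ c := fun e => by
    refine hAM.not_ge (hAmax ⟨hMn, hLA.trans hAM.le, hMK, fun t ht htd => ?_⟩ hAM.le)
    haveI := Fact.mk ht
    obtain ⟨x, hx⟩ := exists_prime_orderOf_dvd_card' (G := M) t htd
    by_cases hxA : (x : X) ∈ A
    · exact hAc t ht (by rw [← hx, ← Subgroup.orderOf_coe]; exact Subgroup.orderOf_dvd_natCard A hxA)
    · by_contra htc
      have hcop : d.Coprime t := (Nat.coprime_primes hd ht).mpr fun e2 => htc (by rw [← e2, e])
      obtain ⟨j, hj⟩ := exists_pow_eq_self_of_coprime (x := (x : X)) (n := d)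
        (by rw [Subgroup.orderOf_coe, hx]; exact hcop)
      exact hxA (hj ▸ pow_mem (hMexp _ x.2) j)
  haveI := Fact.mk hd
  have hdA : (Nat.card A).Coprime d := hcA d hd hdc
  obtain ⟨P⟩ : Nonempty (Sylow d M) := inferInstance
  set D := (P : Subgroup M).map M.subtype with hD
  have hDM : D ≤ M := Subgroup.map_subtype_le _
  have hADbot : ∀ y ∈ D, y ∈ A → y = 1 := fun y hy hyA => by
    obtain ⟨k, hk⟩ := (P.2.map M.subtype) ⟨y, hy⟩
    have h1 : orderOf y ∣ d ^ k := orderOf_dvd_of_pow_eq_one (by simpa using congrArg Subtype.val hk)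
    exact orderOf_eq_one_iff.mp (Nat.eq_one_of_dvd_coprimes (hdA.pow_right k) (Subgroup.orderOf_dvd_natCard A hyA) h1)
  have hDexp : ∀ y ∈ D, y ^ d = 1 := fun y hy => hADbot _ (pow_mem hy _) (hMexp y (hDM hy))
  have hDab : ∀ a ∈ D, ∀ b ∈ D, a * b = b * a := fun a ha b hb =>
    commutatorElement_eq_one_iff_mul_comm.mp (hADbot _ (by
      rw [commutatorElement_def]; exact mul_mem (mul_mem (mul_mem ha hb) (inv_mem ha)) (inv_mem hb))
      (hMcom a (hDM ha) b (hDM hb)))
  set N := Subgroup.normalizer (D : Set X) with hN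
  have hcN : Covers f N := covers_normalizer f hf hMK P
  have hDN : D ≤ N := Subgroup.le_normalizer
  -- `M = A D` and `X = A N`
  have hMAD : ∀ y ∈ M, ∃ a ∈ A, ∃ b ∈ D, y = a * b := by
    let g : M →* M.map (QuotientGroup.mk' A) := (QuotientGroup.mk' A).subgroupMap M
    have hg : Function.Surjective g := (QuotientGroup.mk' A).subgroupMap_surjective M
    have htop : ((P.mapSurjective hg : Sylow d (M.map (QuotientGroup.mk' A))) : Subgroup (M.map (QuotientGroup.mk' A))) = ⊤ := by
      refine ((P.mapSurjective hg).3 (Q := ⊤) (fun z => ?_) le_top).symm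
      obtain ⟨⟨z, hz⟩, -⟩ := z
      obtain ⟨x, hx, rfl⟩ := hz
      exact ⟨1, Subtype.ext (Subtype.ext (by
        show (QuotientGroup.mk' A x) ^ d ^ 1 = 1
        rw [pow_one, ← map_pow]; exact (QuotientGroup.eq_one_iff _).mpr (hMexp x hx)))⟩
    intro y hy
    have hm : g ⟨y, hy⟩ ∈ ((P.mapSurjective hg : Sylow d (M.map (QuotientGroup.mk' A))) :
        Subgroup (M.map (QuotientGroup.mk' A))) :=
      htop ▸ Subgroup.mem_top _
    rw [Sylow.coe_mapSurjective] at hm
    obtain ⟨b, hb, hbe⟩ := Subgroup.mem_map.mp hm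
    have hba : y * (b : X)⁻¹ ∈ A := by
      rw [← QuotientGroup.eq_one_iff, QuotientGroup.mk_mul, QuotientGroup.mk_inv, mul_inv_eq_one]
      exact (congrArg Subtype.val hbe).symm
    exact ⟨y * (b : X)⁻¹, hba, b, ⟨b, hb, rfl⟩, by group⟩
  have hXAN : ∀ x : X, ∃ a ∈ A, ∃ n ∈ N, x = a * n := fun x => by
    have hmem : x ∈ M ⊔ N := by rw [sup_comm, hN, hD, Sylow.normalizer_sup_eq_top P]; exact Subgroup.mem_top x
    obtain ⟨y, hy, n, hn, rfl⟩ := Subgroup.mem_sup_of_normal_left.mp hmem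
    obtain ⟨a, ha, b, hb, rfl⟩ := hMAD y hy
    exact ⟨a, ha, b * n, mul_mem (hDN hb) hn, mul_assoc a b n⟩
  -- odd elements of other classes are found in the normaliser
  have hNker : ∀ t : ℕ, t.Prime → cls m t ≠ c → t ∣ Nat.card f.ker → ∃ u ∈ N, u ∈ f.ker ∧ orderOf u = t := by
    intro t ht htc htd
    haveI := Fact.mk ht
    obtain ⟨e, he⟩ := exists_prime_orderOf_dvd_card' (G := f.ker) t htd
    obtain ⟨a, ha, n, hn, hen⟩ := hXAN (e : X)
    have hnK : n ∈ f.ker := by
      have h4 : (e : X) ∈ f.ker := e.2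
      rw [hen] at h4
      exact (Subgroup.mul_mem_cancel_left _ (hAK ha)).mp h4
    refine ⟨n ^ (orderOf n / t), pow_mem hn _, pow_mem hnK _, exists_pow_prime ?_⟩
    have h5 : (QuotientGroup.mk (e : X) : X ⧸ A) = QuotientGroup.mk n := by
      rw [hen, QuotientGroup.mk_mul, (QuotientGroup.eq_one_iff a).mpr ha, one_mul]
    have h6 : orderOf (QuotientGroup.mk' A (e : X)) ∣ t := by
      rw [← he, ← Subgroup.orderOf_coe]; exact orderOf_map_dvd _ _
    rcases (Nat.dvd_prime ht).mp h6 with h7 | h7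
    · exfalso
      have h8 : (e : X) ∈ A := (QuotientGroup.eq_one_iff _).mp (orderOf_eq_one_iff.mp h7)
      refine htc (hAc t ht ?_)
      rw [← he, ← Subgroup.orderOf_coe]; exact Subgroup.orderOf_dvd_natCard A h8
    · rw [← h7, QuotientGroup.mk'_apply, h5]
      exact orderOf_map_dvd (QuotientGroup.mk' A) n
  haveI : (D.subgroupOf N).Normal := Subgroup.normal_in_normalizer
  have hD'ab : ∀ a ∈ D.subgroupOf N, ∀ b ∈ D.subgroupOf N, a * b = b * a := fun a ha b hb =>
    Subtype.ext (hDab _ ha _ hb)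
  have hD'exp : ∀ a ∈ D.subgroupOf N, a ^ d = 1 := fun a ha => Subtype.ext (by
    rw [Subgroup.coe_pow]; exact hDexp _ ha)
  obtain ⟨y₀, hy₀, hy₀1⟩ : ∃ y ∈ D, y ≠ 1 := by
    obtain ⟨x, hx, hxA⟩ := SetLike.exists_of_lt hAM
    obtain ⟨a, ha, b, hb, rfl⟩ := hMAD x hx
    exact ⟨b, hb, fun e => hxA (by rw [e, mul_one]; exact ha)⟩
  have hdo : ∀ y ∈ D, y ≠ 1 → orderOf y = d := fun y hy hy1 => orderOf_of_prime hd (hDexp y hy) hy1
  by_cases hcovD : Covers (f.comp N.subtype) (Subgroup.centralizer ((D.subgroupOf N : Subgroup N) : Set N))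
  swap
  · -- the uncovered case
    by_cases hd2 : d = 2
    · subst hd2
      exact hcovD (covers_two (h.subgroup N) hS _ hcN.surj _ hD'ab hD'exp)
    obtain ⟨z, a, b, hzz, hfz, ha, hb, hao, hbo, hza, hzb, hnb⟩ :=
      exists_rank_two (h.subgroup N) hS _ hcN.surj (D.subgroupOf N) hD'ab hd hd2 hD'exp hcovD
    have hzz' : (z : X) * z = 1 := congrArg Subtype.val hzz
    obtain ⟨v, hv, hv1, hzv⟩ := exists_fixed_invol hS f hf L hLab hzz' hfz hcovL
    set C := Subgroup.centralizer ({(z : X)} : Set X) with hC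
    have hvC : v ∈ C := Subgroup.mem_centralizer_singleton_iff.mpr hzv.symm.eq
    have haC : (a : X) ∈ C := Subgroup.mem_centralizer_singleton_iff.mpr (congrArg Subtype.val hza.symm.eq)
    have hbC : (b : X) ∈ C := Subgroup.mem_centralizer_singleton_iff.mpr (congrArg Subtype.val hzb.symm.eq)
    have hab' : ∀ a ∈ L.subgroupOf C, ∀ b ∈ L.subgroupOf C, a * b = b * a := fun a ha b hb =>
      Subtype.ext (hLab _ ha _ hb)
    have hexp' : ∀ a ∈ L.subgroupOf C, a ^ l = 1 := fun a ha => Subtype.ext (by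
      rw [Subgroup.coe_pow]; exact hexp _ ha)
    have hne' : L.subgroupOf C ≠ ⊥ := fun e => by
      have h15 : (⟨v, hvC⟩ : C) ∈ L.subgroupOf C := hv
      rw [e, Subgroup.mem_bot] at h15
      exact hv1 (congrArg Subtype.val h15)
    obtain ⟨e, -, heo, w, hw, hw1, hew⟩ := exists_fixed_pair hab' hne' hl hexp' hd (fun e => hdc (by rw [← e]))
      (a := ⟨(a : X), haC⟩) (b := ⟨(b : X), hbC⟩) (by rw [Subgroup.orderOf_mk, Subgroup.orderOf_coe, hao])
      (by rw [Subgroup.orderOf_mk, Subgroup.orderOf_coe, hbo]) (Subtype.ext (hDab _ ha _ hb)) (fun hm => hnb (by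
        obtain ⟨i, hi⟩ := Subgroup.mem_zpowers_iff.mp hm
        exact Subgroup.mem_zpowers_iff.mpr ⟨i, Subtype.ext (by simpa using congrArg Subtype.val hi)⟩))
    have hzo : orderOf (z : X) = 2 := orderOf_of_prime Nat.prime_two (by rw [pow_two]; exact hzz') fun e => hfz (by
      show f (z : X) = 1
      rw [e, map_one])
    refine h.triple Nat.prime_two hd hl hzo.symm.dvd (b := (e : X)) (c := (w : X))
      (by rw [Subgroup.orderOf_coe, heo]) (by rw [Subgroup.orderOf_coe,
        orderOf_of_prime hl (show w ^ l = 1 from Subtype.ext (by rw [Subgroup.coe_pow]; exact hexp _ hw)) hw1])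
      (Subgroup.mem_centralizer_singleton_iff.mp e.2).symm (Subgroup.mem_centralizer_singleton_iff.mp w.2).symm
      (congrArg Subtype.val hew) ?_ ?_ hdc
    · rw [cls_two]; exact (cls_ne_zero hd2).symm
    · rw [cls_two]; exact (cls_ne_zero hl2).symm
  -- the covered case
  have hcy : ∀ y ∈ D, Covers f (Subgroup.centralizer ({y} : Set X)) := fun y hy s' => by
    obtain ⟨g, hg, hgs⟩ := hcovD s'
    refine ⟨(g : X), Subgroup.mem_centralizer_singleton_iff.mpr ?_, hgs⟩
    exact (congrArg Subtype.val (Subgroup.mem_centralizer_iff.mp hg ⟨y, hDN hy⟩ hy)).symm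
  have hsol : ∀ H : Subgroup X, Group.IsSolvable (f.comp H.subtype).ker := fun H => by
    haveI := hK
    exact Group.isSolvable_of_isSolvable_injective
      (f := (H.subtype.comp (f.comp H.subtype).ker.subtype).codRestrict f.ker fun x => x.2)
      fun a b hab' => Subtype.ext (Subtype.ext (congrArg (fun z : f.ker => (z : X)) hab' :))
  by_cases hd2 : d = 2
  · subst hd2
    have hcmix : ∀ y ∈ D, y ≠ 1 → ∀ e₁ e₂ : X, e₁ ∈ f.ker → e₂ ∈ f.ker → Commute y e₁ → Commute y e₂ →
        ∀ t₁ t₂ : ℕ, t₁.Prime → t₂.Prime → t₁ ≠ 2 → t₂ ≠ 2 → t₁ ∣ orderOf e₁ → t₂ ∣ orderOf e₂ →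
        cls m t₁ ≠ cls m t₂ → False := by
      intro y hy hy1 e₁ e₂ he₁ he₂ hc₁ hc₂ t₁ t₂ ht₁ ht₂ h21 h22 hd₁ hd₂ hne
      set C := Subgroup.centralizer ({y} : Set X) with hC
      have hm : ∀ e : X, e ∈ f.ker → Commute y e → ∀ t, t ∣ orderOf e → t ∣ Nat.card (f.comp C.subtype).ker := by
        intro e he hce t htd
        refine htd.trans ?_
        have hm' : (⟨e, Subgroup.mem_centralizer_singleton_iff.mpr hce.symm.eq⟩ : C) ∈ (f.comp C.subtype).ker := he
        have := Subgroup.orderOf_dvd_natCard _ hm'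
        rwa [Subgroup.orderOf_mk] at this
      refine no_mix hS _ (hcy y hy).surj (hsol C) ?_ ht₁ ht₂ h21 h22 (hm e₁ he₁ hc₁ t₁ hd₁)
        (hm e₂ he₂ hc₂ t₂ hd₂) hne
      refine noMix_of_central (h.subgroup C) (y := ⟨y, Subgroup.mem_centralizer_singleton_iff.mpr rfl⟩)
        (by rw [Subgroup.orderOf_mk, hdo y hy hy1]) fun g => Subtype.ext ?_
      exact (Subgroup.mem_centralizer_singleton_iff.mp g.2).symm
    by_cases hinv : ∃ y ∈ D, y ≠ 1 ∧ ∀ v ∈ L, Commute y v → v = 1
    · obtain ⟨y, hy, hy1, hyfree⟩ := hinv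
      have hsq : ∀ w ∈ D, w * w = 1 := fun w hw => by simpa [pow_two] using hDexp w hw
      -- `y` is central in `N`
      have hcen : ∀ n ∈ N, Commute y n := by
        intro n hn
        set y₂ := n * y * n⁻¹ with hy₂
        have hy₂D : y₂ ∈ D := (Subgroup.mem_normalizer_iff.mp hn y).mp hy
        have hfree₂ : ∀ v ∈ L, Commute y₂ v → v = 1 := fun v hv hcv => by
          have h4 := hyfree _ (Subgroup.Normal.conj_mem' (inferInstance : L.Normal) v hv n) (by
            have := hcv.map (MulAut.conj n⁻¹).toMonoidHom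
            simpa [hy₂, mul_assoc] using this)
          simpa [mul_assoc] using congrArg (fun z => n * z * n⁻¹) h4
        have hwL : y * y₂ ∈ Subgroup.centralizer (L : Set X) := Subgroup.mem_centralizer_iff.mpr fun v hv => by
          have e1 := inverts_of_fpf (hsq y hy) L hLab hyfree hv
          have e2 := inverts_of_fpf (hsq y₂ hy₂D) L hLab hfree₂ hv
          have hyi : y⁻¹ = y := inv_eq_of_mul_eq_one_right (hsq y hy)
          have hy₂i : y₂⁻¹ = y₂ := inv_eq_of_mul_eq_one_right (hsq y₂ hy₂D)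
          have h6 : y * y₂ * v * (y * y₂)⁻¹ = v := by
            calc y * y₂ * v * (y * y₂)⁻¹ = y * (y₂ * v * y₂⁻¹) * y⁻¹ := by group
              _ = y * v⁻¹ * y⁻¹ := by rw [hy₂i, e2]
              _ = (y * v * y⁻¹)⁻¹ := by rw [conj_inv]
              _ = v := by rw [hyi, e1, inv_inv]
          exact (mul_inv_eq_iff_eq_mul.mp h6).symm
        by_contra hne'
        have hw1 : y * y₂ ≠ 1 := fun e => hne' (by
          have h7 : y₂ = y := by rw [eq_inv_of_mul_eq_one_right e, inv_eq_of_mul_eq_one_right (hsq y hy)]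
          rw [hy₂] at h7
          exact (mul_inv_eq_iff_eq_mul.mp h7).symm)
        set D₀ := D ⊓ Subgroup.centralizer (L : Set X) with hD₀
        have hAD₀ : (A ⊔ D₀).Normal := by
          refine ⟨fun g hg x => ?_⟩
          obtain ⟨a, ha, b, hb, rfl⟩ := Subgroup.mem_sup_of_normal_left.mp hg
          obtain ⟨a', ha', n', hn', rfl⟩ := hXAN x
          have hb' : n' * b * n'⁻¹ ∈ D₀ := Subgroup.mem_inf.mpr ⟨(Subgroup.mem_normalizer_iff.mp hn' b).mp hb.1,
            Subgroup.Normal.conj_mem Subgroup.normal_centralizer b hb.2 n'⟩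
          rw [show a' * n' * (a * b) * (a' * n')⁻¹ = a' * (n' * a * n'⁻¹) * (n' * b * n'⁻¹) * a'⁻¹ by group]
          refine mul_mem (mul_mem (Subgroup.mem_sup_left (mul_mem ha' ?_)) (Subgroup.mem_sup_right hb'))
            (Subgroup.mem_sup_left (inv_mem ha'))
          exact hAn.conj_mem a ha n'
        have hlt' : A < A ⊔ D₀ := lt_of_le_of_ne le_sup_left fun e => hw1
          (hADbot _ (mul_mem hy hy₂D) (e ▸ Subgroup.mem_sup_right (Subgroup.mem_inf.mpr ⟨mul_mem hy hy₂D, hwL⟩)))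
        have hEq := hMmin _ hAD₀ hlt' (sup_le hAM.le (inf_le_left.trans hDM))
        have hym : y ∈ A ⊔ D₀ := hEq ▸ hDM hy
        obtain ⟨a, ha, b, hb, hyab⟩ := Subgroup.mem_sup_of_normal_left.mp hym
        have ha1 : a = 1 := hADbot a (by
          have h8 : a = y * b⁻¹ := by rw [← hyab]; group
          rw [h8]; exact mul_mem hy (inv_mem hb.1)) ha
        rw [ha1, one_mul] at hyab
        exact hv₀1 (hyfree v₀ hv₀ (Subgroup.mem_centralizer_iff.mp (hyab ▸ hb.2) v₀ hv₀).symm)
      obtain ⟨t₁, t₂, ht₁, ht₂, h21, h22, hc₁, hc₂, d₁, d₂, hne⟩ :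
          ∃ t₁ t₂ : ℕ, t₁.Prime ∧ t₂.Prime ∧ t₁ ≠ 2 ∧ t₂ ≠ 2 ∧ cls m t₁ ≠ c ∧ cls m t₂ ≠ c ∧
            t₁ ∣ Nat.card f.ker ∧ t₂ ∣ Nat.card f.ker ∧ cls m t₁ ≠ cls m t₂ := by
        have p2 : p ≠ 2 := fun e => by rw [e, cls_two] at h1; omega
        have r2 : r ≠ 2 := fun e => by rw [e, cls_two] at h2; omega
        have s2 : s ≠ 2 := fun e => by rw [e, cls_two] at h3; omega
        by_cases e1 : c = 1
        · exact ⟨r, s, hr, hs, r2, s2, by omega, by omega, dr, ds, by omega⟩
        by_cases e2 : c = 2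
        · exact ⟨p, s, hp, hs, p2, s2, by omega, by omega, dp, ds, by omega⟩
        exact ⟨p, r, hp, hr, p2, r2, by omega, by omega, dp, dr, by omega⟩
      obtain ⟨u₁, hu₁, hu₁K, ho₁⟩ := hNker t₁ ht₁ hc₁ d₁
      obtain ⟨u₂, hu₂, hu₂K, ho₂⟩ := hNker t₂ ht₂ hc₂ d₂
      exact hcmix y hy hy1 u₁ u₂ hu₁K hu₂K (hcen u₁ hu₁) (hcen u₂ hu₂) t₁ t₂ ht₁ ht₂ h21 h22 ho₁.symm.dvd
        ho₂.symm.dvd hne
    push Not at hinv
    refine lucido_covering h hS f hK hp hr hs h1 h2 h3 dp dr ds c fun e he t ht ht2 heo htc => ?_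
    haveI := Fact.mk ht
    let π := QuotientGroup.mk' A
    let f' : X ⧸ A →* S := QuotientGroup.lift A f hAK
    have hf' : Function.Surjective f' := QuotientGroup.lift_surjective_of_surjective A f hf hAK
    haveI : (M.map π).Normal := Subgroup.Normal.map hMn π (QuotientGroup.mk'_surjective A)
    have hMne : M.map π ≠ ⊥ := by
      rw [Ne, Subgroup.map_eq_bot_iff, QuotientGroup.ker_mk']
      exact fun e => hAM.not_ge e
    have hfix : ∀ g : X, g ∈ f.ker → orderOf g = t → ∀ w ∈ M, w ∉ A → ⁅g, w⁆ ∈ A → False := by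
      intro g hg hgo w hw hwA hgw
      obtain ⟨a, ha, hwa⟩ := CfsgLib.Comp.exists_fixed_lift (p := t) (K := A ⊔ Subgroup.zpowers w) (W := A)
        le_sup_left (fun x _ => by rw [Subgroup.normalizer_eq_top]; exact Subgroup.mem_top x) (hcA t ht htc) hgo
        (fun k hk => by
          obtain ⟨a, ha, b, hb, rfl⟩ := Subgroup.mem_sup_of_normal_left.mp hk
          obtain ⟨i, rfl⟩ := Subgroup.mem_zpowers_iff.mp hb
          have h9 : ∀ x : X, x ∈ A → π x = 1 := fun x hx => (QuotientGroup.eq_one_iff x).mpr hx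
          have hc' : Commute (π g) (π (w ^ i)) := by
            rw [map_zpow]
            exact Commute.zpow_right (commutatorElement_eq_one_iff_commute.mp
              (by rw [← map_commutatorElement]; exact h9 _ hgw)) i
          rw [← QuotientGroup.eq_one_iff]
          change π (g * (a * w ^ i) * g⁻¹ * (a * w ^ i)⁻¹) = 1
          rw [map_mul, map_mul, map_mul, map_inv, map_inv, map_mul, h9 a ha, one_mul, hc'.eq]
          group)
        (Subgroup.mem_sup_right (Subgroup.mem_zpowers w))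
      set w' := w * a with hw'
      have hw'M : w' ∈ M := mul_mem hw (hAM.le ha)
      have hw'A : w' ∉ A := fun e => hwA ((Subgroup.mul_mem_cancel_right _ ha).mp e)
      -- the `2`-part
      obtain ⟨k, n, hn, hon⟩ := Nat.exists_eq_pow_mul_and_not_dvd (orderOf_pos w').ne' 2 (by norm_num)
      set y' := w' ^ n with hy'
      have hy'2 : y' * y' = 1 := by
        have hm : y' * y' ∈ A := by
          rw [← pow_two]
          exact hMexp _ (pow_mem hw'M n)
        have h10 : (y' * y') ^ 2 ^ k = 1 := by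
          rw [← pow_two, ← pow_mul, hy', ← pow_mul, show n * (2 * 2 ^ k) = orderOf w' * 2 by rw [hon]; ring, pow_mul,
            pow_orderOf_eq_one, one_pow]
        exact orderOf_eq_one_iff.mp (Nat.eq_one_of_dvd_coprimes (hdA.pow_right k) (Subgroup.orderOf_dvd_natCard A hm)
          (orderOf_dvd_of_pow_eq_one h10))
      have hy'1 : y' ≠ 1 := fun e => by
        refine hw'A ?_
        have hcop : (2 : ℕ).Coprime (orderOf w') := by
          refine Nat.Coprime.coprime_dvd_right (orderOf_dvd_of_pow_eq_one e) ?_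
          exact Nat.prime_two.coprime_iff_not_dvd.mpr hn
        obtain ⟨j, hj⟩ := exists_pow_eq_self_of_coprime hcop
        rw [← hj]
        exact pow_mem (hMexp _ hw'M) j
      -- conjugate it into `D`
      have hq : IsPGroup 2 (Subgroup.zpowers (⟨y', pow_mem hw'M n⟩ : M)) := IsPGroup.of_card (n := 1) (by
        rw [Nat.card_zpowers, Subgroup.orderOf_mk, orderOf_of_prime Nat.prime_two (by rw [pow_two]; exact hy'2) hy'1,
          pow_one])
      obtain ⟨Q, hQ⟩ := hq.exists_le_sylow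
      obtain ⟨k₀, hk₀⟩ := MulAction.exists_smul_eq M Q P
      have hmem : (k₀ : X) * y' * (k₀ : X)⁻¹ ∈ D := by
        refine ⟨k₀ * ⟨y', pow_mem hw'M n⟩ * k₀⁻¹, ?_, rfl⟩
        rw [← hk₀, Sylow.coe_subgroup_smul]
        exact Subgroup.smul_mem_pointwise_smul _ (MulAut.conj k₀) _ (hQ (Subgroup.mem_zpowers _))
      obtain ⟨v, hv, hyv, hv1⟩ := hinv _ hmem fun e => hy'1 (conj_eq_one_iff.mp e)
      have hgc : Commute g y' := (show Commute g w' from hwa).pow_right n
      have hK' := (inferInstance : f.ker.Normal).conj_mem g hg k₀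
      refine hcmix _ hmem (fun e => hy'1 (conj_eq_one_iff.mp e)) ((k₀ : X) * g * (k₀ : X)⁻¹) v hK' (hLK hv)
        ((hgc.map (MulAut.conj (k₀ : X)).toMonoidHom).symm) hyv t l ht hl ht2 hl2 ?_
        (orderOf_of_prime hl (hexp v hv) hv1).symm.dvd htc
      rw [show (k₀ : X) * g * (k₀ : X)⁻¹ = MulAut.conj (k₀ : X) g from rfl, MulEquiv.orderOf_eq, hgo]
    have hC := covers_of_fpf hS f' hf' (L := M.map π)
      (by
        rintro _ ⟨x, hx, rfl⟩ _ ⟨y, hy, rfl⟩
        rw [← commutatorElement_eq_one_iff_mul_comm, ← map_commutatorElement]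
        exact (QuotientGroup.eq_one_iff _).mpr (hMcom x hx y hy))
      hMne hd
      (by
        rintro _ ⟨x, hx, rfl⟩
        rw [← map_pow]; exact (QuotientGroup.eq_one_iff _).mpr (hMexp x hx))
      ht ht2.symm
      (fun e' he' heo' v hv hv1 hev => by
        obtain ⟨g', rfl⟩ := QuotientGroup.mk'_surjective A e'
        obtain ⟨w, hw, rfl⟩ := hv
        have hg'K : g' ∈ f.ker := he'
        have hdg : t ∣ orderOf g' := by rw [← heo']; exact orderOf_map_dvd π g'
        refine hfix (g' ^ (orderOf g' / t)) (pow_mem hg'K _) (exists_pow_prime hdg) w hw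
          (fun e => hv1 ((QuotientGroup.eq_one_iff w).mpr e)) ?_
        rw [← QuotientGroup.eq_one_iff]
        change π ⁅g' ^ (orderOf g' / t), w⁆ = 1
        rw [map_commutatorElement, map_pow]
        exact commutatorElement_eq_one_iff_commute.mpr (hev.pow_left _))
      (x := π e) (show f e = 1 from he) (by
        rcases (Nat.dvd_prime ht).mp (heo ▸ orderOf_map_dvd π e) with e1 | e1
        · exfalso
          refine htc (hAc t ht ?_)
          rw [← heo]
          exact Subgroup.orderOf_dvd_natCard A ((QuotientGroup.eq_one_iff _).mp (orderOf_eq_one_iff.mp e1))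
        · exact e1)
    intro s'
    obtain ⟨k, hk, hks⟩ := hC s'
    obtain ⟨k, rfl⟩ := QuotientGroup.mk'_surjective A k
    obtain ⟨a, ha, hka⟩ := CfsgLib.Comp.exists_fixed_lift (p := t)
      (K := (Subgroup.centralizer ({π e} : Set (X ⧸ A))).comap π) (W := A)
      (fun x hx => Subgroup.mem_centralizer_singleton_iff.mpr (by
        rw [show π x = 1 from (QuotientGroup.eq_one_iff x).mpr hx, one_mul, mul_one]))
      (fun x _ => by rw [Subgroup.normalizer_eq_top]; exact Subgroup.mem_top x) (hcA t ht htc) heo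
      (fun x hx => by
        have hx' := Subgroup.mem_centralizer_singleton_iff.mp hx
        rw [← QuotientGroup.eq_one_iff]
        change π (e * x * e⁻¹ * x⁻¹) = 1
        rw [map_mul, map_mul, map_mul, map_inv, map_inv, ← hx']
        group)
      (k := k) hk
    refine ⟨k * a, Subgroup.mem_centralizer_singleton_iff.mpr hka.symm, ?_⟩
    rw [map_mul, MonoidHom.mem_ker.mp (hAK ha), mul_one]
    exact hks
  -- `d` odd: `D` has prime order
  have hfree : ∀ y ∈ D, y ≠ 1 → ∀ v ∈ L, Commute y v → v = 1 := fun y hy hy1 v hv hyv => by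
    by_contra hv1
    exact no_other_class h hS f hd hd2 hl (hdo y hy hy1).symm.dvd (orderOf_of_prime hl (hexp v hv) hv1).symm.dvd
      (hLK hv) hyv hdc (hcy y hy)
  have hline : ∀ b ∈ D, b ∈ Subgroup.zpowers y₀ := fun b hb => by
    by_contra hnb
    have hb1 : b ≠ 1 := fun e => hnb (e ▸ one_mem _)
    obtain ⟨e, he, heo, w, hw, hw1, hew⟩ := exists_fixed_pair hLab hLne' hl hexp hd (fun e => hdc (by rw [← e]))
      (hdo _ hy₀ hy₀1) (hdo _ hb hb1) (hDab _ hy₀ _ hb) hnb
    have heD : e ∈ D := (Subgroup.closure_le D).mpr (by rintro x (rfl | rfl) <;> assumption) he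
    exact hw1 (hfree e heD (fun e1 => by rw [e1, orderOf_one] at heo; exact hd.ne_one heo.symm) w hw hew)
  obtain ⟨t, ht, ht2, htc, htd, htdd⟩ : ∃ t : ℕ, t.Prime ∧ t ≠ 2 ∧ cls m t ≠ c ∧ cls m t ≠ cls m d ∧
      t ∣ Nat.card f.ker := by
    by_cases e1 : 1 ≠ c ∧ 1 ≠ cls m d
    · exact ⟨p, hp, fun e => (by rw [e, cls_two] at h1; omega), by omega, by omega, dp⟩
    by_cases e2 : 2 ≠ c ∧ 2 ≠ cls m d
    · exact ⟨r, hr, fun e => (by rw [e, cls_two] at h2; omega), by omega, by omega, dr⟩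
    exact ⟨s, hs, fun e => (by rw [e, cls_two] at h3; omega), by omega, by omega, ds⟩
  haveI := Fact.mk ht
  obtain ⟨u, huN, huK, huo⟩ := hNker t ht htc htdd
  have hyo := hdo _ hy₀ hy₀1
  have hnc : ¬ Commute u y₀ := fun hcm =>
    no_other_class h hS f hd hd2 ht hyo.symm.dvd huo.symm.dvd huK hcm.symm (Ne.symm htd) (hcy y₀ hy₀)
  -- the centraliser of `u` covers
  set Y := Subgroup.centralizer ({y₀} : Set X) with hY
  have huY : ∀ k ∈ Y, u * k * u⁻¹ ∈ Y := fun k hk => by
    have h11 : u⁻¹ * y₀ * u ∈ D := by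
      have := (Subgroup.mem_normalizer_iff.mp (inv_mem huN) y₀).mp hy₀
      rwa [inv_inv] at this
    obtain ⟨i, hi⟩ := Subgroup.mem_zpowers_iff.mp (hline _ h11)
    have hcm := (show Commute k y₀ from Subgroup.mem_centralizer_singleton_iff.mp hk).zpow_right i
    refine Subgroup.mem_centralizer_singleton_iff.mpr ?_
    calc u * k * u⁻¹ * y₀ = u * (k * (u⁻¹ * y₀ * u)) * u⁻¹ := by group
      _ = u * (u⁻¹ * y₀ * u * k) * u⁻¹ := by rw [← hi, hcm.eq]
      _ = y₀ * (u * k * u⁻¹) := by group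
  have hcop : (Nat.card (f.ker ⊓ Y : Subgroup X)).Coprime t := by
    refine (ht.coprime_iff_not_dvd.mpr fun hdd => ?_).symm
    obtain ⟨e, he⟩ := exists_prime_orderOf_dvd_card' (G := (f.ker ⊓ Y : Subgroup X)) t hdd
    obtain ⟨heK, heY⟩ := Subgroup.mem_inf.mp e.2
    exact no_other_class h hS f hd hd2 ht hyo.symm.dvd (by rw [Subgroup.orderOf_coe, he]) heK
      (show Commute y₀ (e : X) from (Subgroup.mem_centralizer_singleton_iff.mp heY).symm) (Ne.symm htd) (hcy y₀ hy₀)
  have hcu : Covers f (Subgroup.centralizer ({u} : Set X)) := fun s' => by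
    obtain ⟨k, hk, hks⟩ := hcy y₀ hy₀ s'
    obtain ⟨w, hw, hkw⟩ := CfsgLib.Comp.exists_fixed_lift (p := t) (K := Y) (W := f.ker ⊓ Y) inf_le_right
      (fun x hx => Subgroup.mem_normalizer_fintype fun z hz => Subgroup.mem_inf.mpr
        ⟨(inferInstance : f.ker.Normal).conj_mem z (Subgroup.mem_inf.mp hz).1 x,
          mul_mem (mul_mem hx (Subgroup.mem_inf.mp hz).2) (inv_mem hx)⟩) hcop huo
      (fun x hx => Subgroup.mem_inf.mpr ⟨by
        rw [MonoidHom.mem_ker, map_mul, map_mul, map_mul, map_inv, map_inv, MonoidHom.mem_ker.mp huK]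
        simp, mul_mem (huY x hx) (inv_mem hx)⟩) hk
    refine ⟨k * w, Subgroup.mem_centralizer_singleton_iff.mpr hkw.symm, ?_⟩
    rw [map_mul, MonoidHom.mem_ker.mp hw.1, mul_one, hks]
  -- `u` fixes a point of the layer
  letI : CommGroup L :=
    { (inferInstance : Group L) with mul_comm := fun a b => Subtype.ext (hLab a a.2 b b.2) }
  letI : MulDistribMulAction X L := MulDistribMulAction.compHom L (MulAut.conjNormal : X →* MulAut L)
  let V := Additive L
  letI : DistribMulAction X V :=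
    { smul := fun g a => Additive.ofMul (g • Additive.toMul a)
      one_smul := fun a => congrArg Additive.ofMul (one_smul X (Additive.toMul a))
      mul_smul := fun g g' a => congrArg Additive.ofMul (mul_smul g g' (Additive.toMul a))
      smul_zero := fun g => congrArg Additive.ofMul (smul_one g)
      smul_add := fun g a b => congrArg Additive.ofMul (smul_mul' g (Additive.toMul a) (Additive.toMul b)) }
  have hval : ∀ (g : X) (a : V), ((Additive.toMul (g • a) : L) : X) = g * (Additive.toMul a : L) * g⁻¹ :=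
    fun g a => MulAut.conjNormal_apply g _
  have htriv := trivial_of_fpf (V := V) D ht huo huN (fun q hq hcm => by
    by_contra hq1
    obtain ⟨i, rfl⟩ := Subgroup.mem_zpowers_iff.mp (hline q hq)
    have hio : orderOf (y₀ ^ i) = d := hdo _ hq hq1
    have hz : Subgroup.zpowers (y₀ ^ i) = Subgroup.zpowers y₀ :=
      Subgroup.eq_of_le_of_card_ge (Subgroup.zpowers_le.mpr (Subgroup.zpow_mem_zpowers y₀ i))
        (by rw [Nat.card_zpowers, Nat.card_zpowers, hio, hyo])
    obtain ⟨j, hj⟩ := Subgroup.mem_zpowers_iff.mp (hz ▸ Subgroup.mem_zpowers y₀)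
    exact hnc (hj ▸ hcm.zpow_right j))
    (fun a ha => by
      obtain ⟨i, hi⟩ := IsPGroup.iff_card.mp (P.2.map M.subtype)
      rw [hi] at ha
      apply Additive.toMul.injective
      rw [toMul_zero]
      refine Subtype.ext ?_
      have h12 := congrArg (fun b : V => ((Additive.toMul b : L) : X)) ha
      simp only [toMul_nsmul, toMul_zero, Subgroup.coe_pow, Subgroup.coe_one] at h12
      exact eq_one_of_pows hl hd (fun e => hdc (by rw [← e])) (i := 1)
        (by rw [pow_one]; exact hexp _ (Additive.toMul a).2) h12)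
    (fun a ha => by
      by_contra h0
      have h13 := hval u a
      rw [ha] at h13
      exact no_other_class h hS f ht ht2 hl huo.symm.dvd
        (orderOf_of_prime hl (hexp _ (Additive.toMul a).2) fun e => h0 (Additive.toMul.injective (Subtype.ext e))).symm.dvd
        (hLK (Additive.toMul a).2) (mul_inv_eq_iff_eq_mul.mp h13.symm) htc hcu)
  refine hv₀1 (hfree y₀ hy₀ hy₀1 v₀ hv₀ ?_)
  have h14 := hval y₀ (Additive.ofMul (⟨v₀, hv₀⟩ : L))
  rw [htriv y₀ hy₀] at h14
  exact mul_inv_eq_iff_eq_mul.mp h14.symm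

/-- No solvable-by-Suzuki group has all three odd classes in its solvable part. -/
theorem no_single (h : Orders m X) (hS : Shape m S) (f : X →* S) (hf : Function.Surjective f)
    (hK : Group.IsSolvable f.ker) {p r s : ℕ} (hp : p.Prime) (hr : r.Prime) (hs : s.Prime) (h1 : cls m p = 1)
    (h2 : cls m r = 2) (h3 : cls m s = 3) (dp : p ∣ Nat.card f.ker) (dr : r ∣ Nat.card f.ker)
    (ds : s ∣ Nat.card f.ker) : False := by
  obtain ⟨A, hAn, hAK, hA2, hAmax⟩ := exists_two_core f
  let f' : X ⧸ A →* S := QuotientGroup.lift A f hAK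
  have hker : f'.ker = f.ker.map (QuotientGroup.mk' A) := QuotientGroup.ker_lift A f hAK
  refine single_core (h.quotient A) hS f' (QuotientGroup.lift_surjective_of_surjective A f hf hAK) ?_ ?_ hp hr hs
    h1 h2 h3 (dvd_card_lift f hA2 hAK hp (fun e => by rw [e, cls_two] at h1; omega) dp)
    (dvd_card_lift f hA2 hAK hr (fun e => by rw [e, cls_two] at h2; omega) dr)
    (dvd_card_lift f hA2 hAK hs (fun e => by rw [e, cls_two] at h3; omega) ds)
  · haveI := hK
    rw [hker]
    exact Group.isSolvable_of_surjective (f := (QuotientGroup.mk' A).subgroupMap f.ker)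
      ((QuotientGroup.mk' A).subgroupMap_surjective f.ker)
  · intro B hB hBK hB2
    have hle : A ≤ B.comap (QuotientGroup.mk' A) := fun z hz => by
      rw [Subgroup.mem_comap, QuotientGroup.mk'_apply, (QuotientGroup.eq_one_iff z).mpr hz]
      exact one_mem B
    have h4 := hAmax _ (hB.comap _) hle (fun z hz => hBK hz) (fun z => by
      obtain ⟨i, hi⟩ := hB2 ⟨_, z.2⟩
      have hzA : (z : X) ^ 2 ^ i ∈ A := by
        rw [← QuotientGroup.eq_one_iff, QuotientGroup.mk_pow]
        simpa using congrArg Subtype.val hi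
      obtain ⟨j, hj⟩ := hA2 ⟨_, hzA⟩
      refine ⟨i + j, Subtype.ext ?_⟩
      rw [Subgroup.coe_pow, pow_add, pow_mul]
      simpa using congrArg Subtype.val hj)
    rw [← Subgroup.map_comap_eq_self_of_surjective (QuotientGroup.mk'_surjective A) B, Subgroup.map_eq_bot_iff,
      QuotientGroup.ker_mk']
    exact h4

end CfsgLib.SzPairGen
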