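import Cfsg.Agent.Lib.SzPairGen.Levels
import Cfsg.Agent.Lib.Elementary
import Cfsg.Agent.Lib.SuzukiUnique.Transport
import Cfsg.Agent.S3814

/-!
A finite group with the element orders of `Sz(q) × Sz(q)` is `Sz(q) × Sz(q)`.
-/

set_option autoImplicit false
set_option maxHeartbeats 1000000
set_option linter.style.haveILetI false
set_option linter.unusedSectionVars false

namespace CfsgLib.SzPairGen

open Cfsg CfsgLib
open scoped commutatorElement

universe u v w

variable {G : Type u} [Group G] [Finite G] {m : ℕ}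

omit [Finite G] in
theorem map_of_mem_normalizer {L : Subgroup G} {x : G} (hx : x ∈ Subgroup.normalizer (L : Set G)) :
    L.map (MulAut.conj x).toMonoidHom = L := by
  ext y
  refine ⟨?_, fun hy => ⟨x⁻¹ * y * x, ?_, by simp [mul_assoc]⟩⟩
  · rintro ⟨a, ha, rfl⟩
    exact (Subgroup.mem_normalizer_iff.mp hx a).mp ha
  · refine (Subgroup.mem_normalizer_iff.mp hx _).mpr ?_
    rwa [show x * (x⁻¹ * y * x) * x⁻¹ = y by group]

omit [Finite G] in
/-- A power outside a subgroup with a prime power back inside. -/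
theorem exists_prime_step {H : Subgroup G} : ∀ (N : ℕ), 0 < N → ∀ x : G, x ^ N ∈ H → x ∉ H →
    ∃ c d : ℕ, d.Prime ∧ d ∣ N ∧ x ^ c ∉ H ∧ (x ^ c) ^ d ∈ H := by
  intro N
  induction N using Nat.strong_induction_on with
  | _ N ih =>
    intro hN x hx hxH
    have hN1 : N ≠ 1 := fun e => hxH (by rwa [e, pow_one] at hx)
    obtain ⟨d, hd, c, rfl⟩ := Nat.exists_prime_and_dvd hN1
    by_cases hc : x ^ c ∈ H
    · have hc0 : 0 < c := Nat.pos_of_mul_pos_left hN
      obtain ⟨c', d', h1, h2, h3, h4⟩ := ih c (lt_mul_left hc0 hd.one_lt) hc0 x hc hxH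
      exact ⟨c', d', h1, h2.trans (dvd_mul_left c d), h3, h4⟩
    · exact ⟨c, d, hd, dvd_mul_right d c, hc, by rwa [← pow_mul, mul_comm]⟩

omit [Finite G] in
/-- Powers of a translate by a normalised subgroup. -/
theorem translate_pow {H : Subgroup G} {a y : G} (ha : a ∈ H) (hy : y ∈ Subgroup.normalizer (H : Set G)) (e : ℕ) :
    ∃ q ∈ H, (a * y) ^ e = q * y ^ e := by
  induction e with
  | zero => exact ⟨1, one_mem H, by simp⟩
  | succ e ih =>
    obtain ⟨q, hq, he⟩ := ih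
    refine ⟨q * (y ^ e * a * (y ^ e)⁻¹), mul_mem hq ((Subgroup.mem_normalizer_iff.mp (pow_mem hy e) a).mp ha), ?_⟩
    rw [pow_succ, he, pow_succ]
    group

/-- An element stabilising both components is in their product. -/
theorem stab_mem (hm2 : m ≠ 2) (h : Orders m G) (hR : solvableRadical G = ⊥) {K L : Subgroup G}
    (P : Pair G K L) (hm : 1 ≤ m) {F₁ : Type v} [Field F₁] [Fintype F₁] (hF₁ : Fintype.card F₁ = 2 ^ (2 * m + 1))
    (e₁ : K ≃* ↥(Cfsg.Sz F₁ m)) {F₂ : Type w} [Field F₂] [Fintype F₂] (hF₂ : Fintype.card F₂ = 2 ^ (2 * m + 1))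
    (e₂ : L ≃* ↥(Cfsg.Sz F₂ m)) {x : G} (hx : K.map (MulAut.conj x).toMonoidHom = K) : x ∈ P.prod := by
  classical
  by_contra hxP
  obtain ⟨c, d, hd, hdN, hyP, hydP⟩ :=
    exists_prime_step (2 * m + 1) (by omega) x (P.pow_mem_prod hR h hx) hxP
  set y := x ^ c with hy
  have hyK : y ∈ Subgroup.normalizer (K : Set G) := pow_mem (mem_normalizer_of_map hx) c
  have hyL : y ∈ Subgroup.normalizer (L : Set G) :=
    mem_normalizer_of_map (P.normalizer_other (map_of_mem_normalizer hyK))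
  obtain ⟨k, hk, i, hi⟩ := exists_field hF₁ hm e₁ hyK
  obtain ⟨l, hl, j, hj⟩ := exists_field hF₂ hm e₂ hyL
  set z := l⁻¹ * (k⁻¹ * y) with hz
  have hz2 : z = k⁻¹ * (l⁻¹ * y) := by
    rw [hz, ← mul_assoc, ← mul_assoc, ((P.comm k hk l hl).inv_inv).eq]
  have actK : ∀ a : K, z * a * z⁻¹ = (e₁.symm (Suzuki.fAut hF₁ hm i (e₁ a)) : G) := fun a => by
    rw [← hi a, hz]
    have hb : k⁻¹ * y * (a : G) * (k⁻¹ * y)⁻¹ ∈ K := by rw [hi a]; exact SetLike.coe_mem _
    calc l⁻¹ * (k⁻¹ * y) * (a : G) * (l⁻¹ * (k⁻¹ * y))⁻¹ = l⁻¹ * (k⁻¹ * y * a * (k⁻¹ * y)⁻¹) * l := by group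
      _ = k⁻¹ * y * a * (k⁻¹ * y)⁻¹ := by
        rw [← ((P.comm _ hb l hl).inv_right).eq, mul_assoc, inv_mul_cancel, mul_one]
  have actL : ∀ a : L, z * a * z⁻¹ = (e₂.symm (Suzuki.fAut hF₂ hm j (e₂ a)) : G) := fun a => by
    rw [← hj a, hz2]
    have hb : l⁻¹ * y * (a : G) * (l⁻¹ * y)⁻¹ ∈ L := by rw [hj a]; exact SetLike.coe_mem _
    calc k⁻¹ * (l⁻¹ * y) * (a : G) * (k⁻¹ * (l⁻¹ * y))⁻¹ = k⁻¹ * (l⁻¹ * y * a * (l⁻¹ * y)⁻¹) * k := by group
      _ = l⁻¹ * y * a * (l⁻¹ * y)⁻¹ := by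
        rw [(P.comm k hk _ hb).inv_left.eq, mul_assoc, inv_mul_cancel, mul_one]
  have fixK : ∀ a : ↥(Cfsg.Sz F₁ m), Suzuki.fAut hF₁ hm i a = a → Commute z (e₁.symm a : G) := fun a ha => by
    have := actK (e₁.symm a)
    rw [e₁.apply_symm_apply, ha] at this
    exact mul_inv_eq_iff_eq_mul.mp this
  have fixL : ∀ a : ↥(Cfsg.Sz F₂ m), Suzuki.fAut hF₂ hm j a = a → Commute z (e₂.symm a : G) := fun a ha => by
    have := actL (e₂.symm a)
    rw [e₂.apply_symm_apply, ha] at this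
    exact mul_inv_eq_iff_eq_mul.mp this
  have hyN : y ∈ Subgroup.normalizer (P.prod : Set G) := Subgroup.mem_normalizer_fintype fun b hb => by
    obtain ⟨a, ha, a', ha', rfl⟩ := P.mem_prod.mp hb
    exact P.mem_prod.mpr ⟨_, (Subgroup.mem_normalizer_iff.mp hyK a).mp ha, _,
      (Subgroup.mem_normalizer_iff.mp hyL a').mp ha', by group⟩
  have hkl : l⁻¹ * k⁻¹ ∈ P.prod :=
    P.mem_prod.mpr ⟨k⁻¹, inv_mem hk, l⁻¹, inv_mem hl, ((P.comm k hk l hl).inv_inv).eq.symm⟩
  have hzP : z ∉ P.prod := fun e => hyP (by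
    have := mul_mem (inv_mem hkl) e
    rwa [show (l⁻¹ * k⁻¹)⁻¹ * z = y by rw [hz]; group] at this)
  have hzd : z ^ d ∈ P.prod := by
    obtain ⟨q, hq, he⟩ := translate_pow hkl hyN d
    rw [show z = l⁻¹ * k⁻¹ * y by rw [hz, mul_assoc], he]
    exact mul_mem hq hydP
  have hdz : d ∣ orderOf z := by
    by_contra hnd
    exact hzP (mem_of_pow_mem hzd (hd.coprime_iff_not_dvd.mpr hnd).symm)
  have hd2 : d ≠ 2 := by rintro rfl; omega
  have hd0 := cls_ne_zero (m := m) hd2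
  obtain ⟨a2, ha2, fix2⟩ := fixed_two hF₁ hm
  obtain ⟨b2, hb2, fix2'⟩ := fixed_two hF₂ hm
  by_cases hd5 : cls m d = cls m 5
  swap
  · obtain ⟨b5, hb5, fix5⟩ := fixed_five hF₂ hm
    exact h.triple hd Nat.prime_two (show Nat.Prime 5 by norm_num) hdz
      (b := ((e₁.symm a2 : K) : G)) (c := ((e₂.symm b5 : L) : G))
      (by rw [Subgroup.orderOf_coe, MulEquiv.orderOf_eq, ha2]) (by rw [Subgroup.orderOf_coe, MulEquiv.orderOf_eq, hb5])
      (fixK _ (fix2 i)) (fixL _ (fix5 j)) (P.comm _ (e₁.symm a2).2 _ (e₂.symm b5).2)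
      (by rwa [cls_two]) hd5 (by rw [cls_two]; exact (cls_five m).1.symm)
  have hd1 : cls m d ≠ 1 := by rw [hd5]; exact (cls_five m).2
  -- the `d`-th power acts as an inner automorphism
  obtain ⟨k', hk', l', hl', he'⟩ := P.mem_prod.mp hzd
  have hpow : ∀ (e : ℕ) (a : K), z ^ e * a * (z ^ e)⁻¹ = (e₁.symm ((Suzuki.fAut hF₁ hm i ^ e) (e₁ a)) : G) := by
    intro e
    induction e with
    | zero => intro a; simp
    | succ e ih =>
      intro a
      have h1 := actK (e₁.symm ((Suzuki.fAut hF₁ hm i ^ e) (e₁ a)))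
      rw [e₁.apply_symm_apply, ← ih a] at h1
      rw [pow_succ' (Suzuki.fAut hF₁ hm i), MulAut.mul_apply, ← h1, pow_succ']
      group
  have hinner : MulAut.conj (e₁ ⟨k', hk'⟩) = Suzuki.fAut hF₁ hm i ^ d := by
    refine MulEquiv.ext fun a => e₁.symm.injective (Subtype.ext ?_)
    have h1 := hpow d (e₁.symm a)
    rw [e₁.apply_symm_apply] at h1
    rw [← h1, he', MulAut.conj_apply, map_mul, map_mul, map_inv, e₁.symm_apply_apply]
    push_cast
    calc k' * (e₁.symm a : G) * k'⁻¹ = k' * (l' * (e₁.symm a : G) * l'⁻¹) * k'⁻¹ := by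
          rw [← (P.comm _ (e₁.symm a).2 l' hl').eq, mul_inv_cancel_right]
      _ = _ := by group
  have hdvd := inner_pow hF₁ hm hinner
  obtain ⟨g, hg⟩ := hdN
  have hgi : g ∣ i := by
    rw [hg, mul_comm i d] at hdvd
    exact Nat.dvd_of_mul_dvd_mul_left hd.pos hdvd
  by_cases hg1 : g = 1
  · rw [hg1, mul_one] at hg
    rcases h.primes z d hd hdz with e | e | e
    · exact hd2 e
    · exact hd1 (cls_one e)
    · have h6 := dvd_sq_add e
      rw [hg] at h6
      have h5 := eq_five hd h6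
      omega
  obtain ⟨l₀, hl₀, hl₀d⟩ := Nat.exists_prime_and_dvd (n := 2 ^ g - 1) (by
    have hg2 : 2 ≤ g := by
      rcases g with _ | _ | g <;> omega
    have := Nat.pow_le_pow_right (show 0 < 2 by norm_num) hg2
    omega)
  have hl₀m : l₀ ∣ tor1 m := hl₀d.trans (Nat.pow_sub_one_dvd_pow_sub_one 2 (hg ▸ dvd_mul_left g d))
  obtain ⟨a₀, ha₀, fix₀⟩ := fixed_torus hF₁ hm hl₀m (hl₀d.trans (Nat.pow_sub_one_dvd_pow_sub_one 2 hgi))
  exact h.triple hd hl₀ Nat.prime_two hdz (b := ((e₁.symm a₀ : K) : G)) (c := ((e₂.symm b2 : L) : G))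
    (by rw [Subgroup.orderOf_coe, MulEquiv.orderOf_eq, ha₀]) (by rw [Subgroup.orderOf_coe, MulEquiv.orderOf_eq, hb2])
    (fixK _ fix₀) (fixL _ (fix2' j)) (P.comm _ (e₁.symm a₀).2 _ (e₂.symm b2).2)
    (by rw [cls_one hl₀m]; exact hd1) (by rwa [cls_two]) (by rw [cls_one hl₀m, cls_two]; omega)

/-- Two components of full level are everything. -/
theorem two_full (hm2 : m ≠ 2) (h : Orders m G) (hR : solvableRadical G = ⊥) {K L : Subgroup G}
    (P : Pair G K L) (hm : 1 ≤ m) {F₁ : Type v} [Field F₁] [Fintype F₁] (hF₁ : Fintype.card F₁ = 2 ^ (2 * m + 1))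
    (e₁ : K ≃* ↥(Cfsg.Sz F₁ m)) {F₂ : Type w} [Field F₂] [Fintype F₂] (hF₂ : Fintype.card F₂ = 2 ^ (2 * m + 1))
    (e₂ : L ≃* ↥(Cfsg.Sz F₂ m)) : Nonempty (G ≃* ↥(Cfsg.Sz F₁ m) × ↥(Cfsg.Sz F₂ m)) := by
  classical
  have hin : ∀ x : G, K.map (MulAut.conj x).toMonoidHom = K → x ∈ P.prod := fun x hx =>
    stab_mem hm2 h hR P hm hF₁ e₁ hF₂ e₂ hx
  have hS := shape_model hF₁ hm ((h.subgroup K).of_surjective e₁.toMonoidHom e₁.surjective)
  have hall : ∀ x : G, K.map (MulAut.conj x).toMonoidHom = K := by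
    intro x
    by_contra hxK
    have hKL : K.map (MulAut.conj x).toMonoidHom = L := (P.two _ (conj_component P.compK x)).resolve_left hxK
    obtain ⟨k, hk, l, hl, he⟩ := P.mem_prod.mp (hin (x * x) (P.sq_fix x))
    obtain ⟨r, Q', u, q', -, -, -, -, hu, -, -⟩ := hS.four
    set u' : G := ((e₁.symm u : K) : G) with hu'
    have huK : u' ∈ K := (e₁.symm u).2
    have huo : orderOf u' = 4 := by rw [hu', Subgroup.orderOf_coe, MulEquiv.orderOf_eq, hu]
    set c := u' * k⁻¹ with hc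
    have hcK : c ∈ K := mul_mem huK (inv_mem hk)
    set c' := x * c * x⁻¹ with hc'
    have hc'L : c' ∈ L := hKL ▸ ⟨c, hcK, rfl⟩
    have hy2 : (c * x) ^ 2 = u' * (c' * l) := by
      calc (c * x) ^ 2 = c * (x * c * x⁻¹) * (x * x) := by rw [pow_two]; group
        _ = c * c' * (k * l) := by rw [he]
        _ = c * (k * c') * l := by rw [(P.comm k hk c' hc'L).eq]; group
        _ = u' * (c' * l) := by rw [hc]; group
    have h4 : 4 ∣ orderOf ((c * x) ^ 2) := by
      rw [← huo, hy2]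
      refine orderOf_dvd_of_pow_eq_one (P.disjoint hR (pow_mem huK _) ?_)
      have hp := pow_orderOf_eq_one (u' * (c' * l))
      generalize orderOf (u' * (c' * l)) = n at hp ⊢
      rw [(P.comm u' huK (c' * l) (mul_mem hc'L hl)).mul_pow] at hp
      rw [eq_inv_of_mul_eq_one_left hp]
      exact inv_mem (pow_mem (mul_mem hc'L hl) n)
    rw [orderOf_pow] at h4
    refine h.no_eight (c * x) ?_
    have hd : orderOf (c * x) / Nat.gcd (orderOf (c * x)) 2 * Nat.gcd (orderOf (c * x)) 2 = orderOf (c * x) :=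
      Nat.div_mul_cancel (Nat.gcd_dvd_left _ _)
    rcases (Nat.dvd_prime Nat.prime_two).mp (Nat.gcd_dvd_right (orderOf (c * x)) 2) with e | e
    · rw [e, Nat.div_one] at h4
      have h2 : 2 ∣ orderOf (c * x) := (show 2 ∣ 4 by norm_num).trans h4
      rw [Nat.gcd_eq_right h2] at e
      omega
    · rw [← hd, e]
      rw [e] at h4
      exact mul_dvd_mul_right h4 2
  have htop : P.prod = ⊤ := (Subgroup.eq_top_iff' _).mpr fun x => hin x (hall x)
  obtain ⟨eP⟩ := P.equiv hR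
  exact ⟨((Subgroup.topEquiv.symm.trans (MulEquiv.subgroupCongr htop.symm)).trans eP).trans (e₁.prodCongr e₂)⟩

theorem radical_quotient (G : Type u) [Group G] [Finite G] : solvableRadical (G ⧸ solvableRadical G) = ⊥ := by
  set R := solvableRadical G with hR
  set M := solvableRadical (G ⧸ R) with hM
  haveI : Group.IsSolvable R := isSolvable_solvableRadical
  haveI : Group.IsSolvable M := isSolvable_solvableRadical
  set P := M.comap (QuotientGroup.mk' R) with hP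
  haveI : P.Normal := (inferInstance : M.Normal).comap _
  let f : P →* M := (QuotientGroup.mk' R).subgroupComap M
  have hker : f.ker.map P.subtype ≤ R := by
    rintro _ ⟨z, hz, rfl⟩
    exact (QuotientGroup.eq_one_iff _).mp (congrArg Subtype.val hz)
  haveI : Group.IsSolvable f.ker :=
    Group.isSolvable_of_isSolvable_injective (f := ((P.subtype.comp f.ker.subtype).codRestrict R
      fun z => hker ⟨z, z.2, rfl⟩)) fun a b h => Subtype.ext (Subtype.ext (congrArg (fun r : R => (r : G)) h :))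
  have hPs : Group.IsSolvable P := Group.isSolvable_of_ker_le_range f.ker.subtype f (by rw [Subgroup.range_subtype])
  have := le_solvableRadical hPs
  rw [eq_bot_iff]
  intro z hz
  obtain ⟨g, rfl⟩ := QuotientGroup.mk'_surjective R z
  exact Subgroup.mem_bot.mpr ((QuotientGroup.eq_one_iff g).mpr (this hz))

omit [Finite G] in
/-- The preimage of a subgroup isomorphic to `S`, as a solvable extension. -/
theorem exists_lift_hom {Q : Type u} [Group Q] (π : G →* Q) (hπ : Function.Surjective π) (hk : Group.IsSolvable π.ker)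
    {A : Subgroup Q} {S : Type v} [Group S] (e : A ≃* S) :
    ∃ f : A.comap π →* S, Function.Surjective f ∧ Group.IsSolvable f.ker ∧ (f.ker = ⊥ → π.ker = ⊥) := by
  let f : A.comap π →* S := e.toMonoidHom.comp (π.subgroupComap A)
  have hker : ∀ z : A.comap π, f z = 1 → π (z : G) = 1 := fun z hz => by
    have h1 : π.subgroupComap A z = 1 := e.injective (hz.trans (map_one e).symm)
    exact congrArg Subtype.val h1
  refine ⟨f, e.surjective.comp fun a => ?_, ?_, fun hb => ?_⟩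
  · obtain ⟨g, hg⟩ := hπ a
    exact ⟨⟨g, show π g ∈ A by rw [hg]; exact a.2⟩, Subtype.ext hg⟩
  · haveI := hk
    exact Group.isSolvable_of_isSolvable_injective (f := ((A.comap π).subtype.comp f.ker.subtype).codRestrict π.ker
      fun z => hker z z.2) fun a b h => Subtype.ext (Subtype.ext (congrArg (fun r : π.ker => (r : G)) h :))
  · rw [eq_bot_iff]
    intro g hg
    have hgA : g ∈ A.comap π := show π g ∈ A by rw [MonoidHom.mem_ker.mp hg]; exact one_mem A
    have hm : (⟨g, hgA⟩ : A.comap π) ∈ f.ker := by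
      rw [MonoidHom.mem_ker]
      show e (π.subgroupComap A ⟨g, hgA⟩) = 1
      rw [show π.subgroupComap A ⟨g, hgA⟩ = 1 from Subtype.ext (MonoidHom.mem_ker.mp hg), map_one]
    rw [hb, Subgroup.mem_bot] at hm
    exact Subgroup.mem_bot.mpr (congrArg Subtype.val hm)

/-- The recognition. -/
theorem recognition {F : Type v} [Field F] [Fintype F] (hm : 1 ≤ m) (hm2 : m ≠ 2)
    (hF : Fintype.card F = 2 ^ (2 * m + 1))
    (h : Set.range (orderOf : G → ℕ) = Set.range (orderOf : ↥(Cfsg.Sz F m) × ↥(Cfsg.Sz F m) → ℕ)) :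
    Nonempty (G ≃* ↥(Lie.Sz F (2 ^ (m + 1))) × ↥(Lie.Sz F (2 ^ (m + 1)))) := by
  classical
  haveI := finite_model hF hm
  have hO' := orders_square hF hm
  have hG : ∀ g : G, ∃ x : ↥(Cfsg.Sz F m) × ↥(Cfsg.Sz F m), orderOf x = orderOf g := fun g =>
    Set.mem_range.mp (h ▸ Set.mem_range_self g)
  have hpairs : Pairs m G := fun r s hr hs hne hrd hsd => by
    have key : ∀ a : ℕ, (a = 2 ∨ a ∣ tor1 m ∨ a ∣ (2 ^ (2 * m + 1)) ^ 2 + 1) → a ∣ Nat.card ↥(Cfsg.Sz F m) := by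
      rintro a (rfl | ha)
      · rw [Suzuki.card_Sz hF hm]
        exact ((dvd_pow (dvd_pow_self 2 (by omega)) (by norm_num)).mul_right _).mul_right _
      · exact dvd_card_model hF hm ha
    obtain ⟨x, hx⟩ := pairs_square hF hm hr hs hne (key r hrd) (key s hsd)
    exact Set.mem_range.mp (h.symm ▸ ⟨x, hx⟩)
  have hO : Orders m G := by
    refine ⟨fun g r hr hd => ?_, fun g r s t hr hs ht dr ds dt => ?_, fun g hd => ?_, fun g r k hr h1 hd => ?_⟩
    all_goals obtain ⟨x, hx⟩ := hG g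
    · exact hO'.primes x r hr (hx ▸ hd)
    · exact hO'.no_three x r s t hr hs ht (hx ▸ dr) (hx ▸ ds) (hx ▸ dt)
    · exact hO'.no_eight x (hx ▸ hd)
    · exact hO'.bound x r k hr h1 (hx ▸ hd)
  obtain ⟨p, r, s, hp, hr, hs, hpd, hrd, hsd, -, -, -⟩ := exists_reps hm hm2
  set σ : Finset ℕ := {2, p, r, s} with hσ
  have cp := cls_one hpd
  have cr := cls_torP hr hrd
  have cs := cls_torM hs hsd
  have hσp : ∀ a ∈ σ, a.Prime ∧ (a = 2 ∨ a ∣ tor1 m ∨ a ∣ (2 ^ (2 * m + 1)) ^ 2 + 1) := by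
    intro a ha
    simp only [hσ, Finset.mem_insert, Finset.mem_singleton] at ha
    rcases ha with rfl | rfl | rfl | rfl
    · exact ⟨Nat.prime_two, Or.inl rfl⟩
    · exact ⟨hp, Or.inr (Or.inl hpd)⟩
    · exact ⟨hr, Or.inr (Or.inr (dvd_sq_add (Or.inl hrd)))⟩
    · exact ⟨hs, Or.inr (Or.inr (dvd_sq_add (Or.inr hsd)))⟩
  have hcls : ∀ a ∈ σ, ∀ b ∈ σ, a ≠ b → cls m a ≠ cls m b := by
    intro a ha b hb hab
    simp only [hσ, Finset.mem_insert, Finset.mem_singleton] at ha hb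
    rcases ha with rfl | rfl | rfl | rfl <;> rcases hb with rfl | rfl | rfl | rfl <;>
      simp only [cls_two, cp, cr, cs] <;> omega
  have hne : ∀ a b : ℕ, cls m a ≠ cls m b → a ≠ b := fun a b hab e => hab (e ▸ rfl)
  have n1 : (2 : ℕ) ≠ p := hne _ _ (by rw [cls_two, cp]; omega)
  have n2 : (2 : ℕ) ≠ r := hne _ _ (by rw [cls_two, cr]; omega)
  have n3 : (2 : ℕ) ≠ s := hne _ _ (by rw [cls_two, cs]; omega)
  have n4 : p ≠ r := hne _ _ (by rw [cp, cr]; omega)
  have n5 : p ≠ s := hne _ _ (by rw [cp, cs]; omega)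
  have n6 : r ≠ s := hne _ _ (by rw [cr, cs]; omega)
  have hns : ¬ Group.IsSolvable G := by
    refine Cfsg.Agent.S3814.result σ (by simp [hσ, n1, n2, n3, n4, n5, n6]) (fun a ha => (hσp a ha).1)
      (fun a ha b hb hab => hpairs a b (hσp a ha).1 (hσp b hb).1 hab (hσp a ha).2 (hσp b hb).2) ?_
    intro a ha b hb c hc hab hbc hac g hg
    refine hO.no_three g a b c (hσp a ha).1 (hσp b hb).1 (hσp c hc).1 ?_ ?_ ?_ (hcls a ha b hb hab)
      (hcls a ha c hc hac) (hcls b hb c hc hbc) <;> rw [hg]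
    · exact (Dvd.intro _ rfl).trans (Dvd.intro _ rfl)
    · exact (Dvd.intro_left _ rfl).trans (Dvd.intro _ rfl)
    · exact Dvd.intro_left _ rfl
  haveI hRs : Group.IsSolvable (solvableRadical G) := isSolvable_solvableRadical
  set R := solvableRadical G with hRdef
  let π := QuotientGroup.mk' R
  have hπ : Function.Surjective π := QuotientGroup.mk'_surjective R
  have hk : Group.IsSolvable π.ker := by rw [QuotientGroup.ker_mk']; exact hRs
  have hQR : solvableRadical (G ⧸ R) = ⊥ := radical_quotient G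
  have hQns : ¬ Group.IsSolvable (G ⧸ R) := fun hq =>
    hns ((Group.isSolvable_iff_subgroup_quotient R).mpr ⟨hRs, hq⟩)
  have hQ := hO.quotient R
  obtain ⟨K, hK⟩ := exists_component hQR hQns
  by_cases hone : ∀ L : Subgroup (G ⧸ R), IsComponent L → L = K
  · obtain ⟨⟨n, F', i1, i2, hF', hn, -, ⟨e⟩⟩, -, hpow⟩ := one_component hQ hQR hK hone
    obtain ⟨f, hf, hfk, -⟩ := exists_lift_hom π hπ hk e
    exact (no_one_case hm hm2 hO hpairs (G1 := K.comap π)
      (fun g => show π (g ^ (2 * m + 1)) ∈ K by rw [map_pow]; exact hpow (π g)) hF' hn f hf hfk).elim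
  obtain ⟨L, P⟩ := exists_pair hQ hQR hK hone
  obtain ⟨n₁, F₁, i1, i2, hF₁, hn₁, hd₁, ⟨e₁⟩⟩ := component_model hQ hQR P.compK
  obtain ⟨n₂, F₂, j1, j2, hF₂, hn₂, hd₂, ⟨e₂⟩⟩ := component_model hQ hQR P.compL
  obtain ⟨eP⟩ := P.equiv hQR
  obtain ⟨f, hf, hfk, hbot⟩ := exists_lift_hom π hπ hk (eP.trans (e₁.prodCongr e₂))
  obtain ⟨hker, rfl, rfl⟩ := two_case hm hO hpairs (H := P.prod.comap π)
    (fun g => show π (g ^ _) ∈ P.prod by rw [map_pow]; exact P.pow_two_mem_prod hQR hQ (π g))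
    hF₁ hn₁ hd₁ hF₂ hn₂ hd₂ f hf hfk
  obtain ⟨eQ⟩ := two_full hm2 hQ hQR P hm hF₁ e₁ hF₂ e₂
  obtain ⟨c₁⟩ := SuzukiUnique.nonempty_lie_congr hm hF hF₁
  obtain ⟨c₂⟩ := SuzukiUnique.nonempty_lie_congr hm hF hF₂
  exact ⟨((MulEquiv.ofBijective π ⟨(π.ker_eq_bot_iff).mp (hbot hker), hπ⟩).trans eQ).trans
    (((Suzuki.lieEquiv hF₁ hm).trans c₁).prodCongr ((Suzuki.lieEquiv hF₂ hm).trans c₂))⟩

end CfsgLib.SzPairGen
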